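import Cfsg.Agent.Lib.U43Type85.Basic

/-!
# U4(3) type: the local facts handed from the centraliser files to the counts

`Facts` is proved in `Lib/U43Type85` (files `Cent*`); the involution count and the recognition consume it.
Codes: `24 = a`, `1 = b`, `25 = a b = c`, `30 = a b⁻¹ = d`.

Owner: helper85.
-/

set_option autoImplicit false

namespace Cfsg.Agent.Lib.U43Type85

variable {G : Type*} [Group G]

/-- `z` inverts `x`. -/
def Inverted (z x : G) : Prop := z * x * z⁻¹ = x⁻¹

/-- Some nontrivial element of the centraliser of `z` centralises `x`. -/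
def IsLocal (z x : G) : Prop := ∃ h, h ≠ 1 ∧ Commute h z ∧ Commute h x

/-- The facts about the subgroup `J` of order 81 containing `a` and `b`. -/
structure Facts {z : G} (S : Setup z) (J : Subgroup G) : Prop where
  card_J : Nat.card J = 81
  comm_J : ∀ x ∈ J, ∀ y ∈ J, Commute x y
  exp_J : ∀ x ∈ J, x ^ 3 = 1
  a_mem : S.f 24 ∈ J
  b_mem : S.f 1 ∈ J
  cent_J : Subgroup.centralizer (J : Set G) ≤ J
  /-- nine elements of `J` are inverted -/
  inv_J : Nat.card {x : G // x ∈ J ∧ Inverted z x} = 9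
  /-- the inverted elements centralising `⟨a, b⟩` -/
  comm_E : ∀ x, Odd (orderOf x) → Inverted z x → Commute x (S.f 24) → Commute x (S.f 1) → x ∈ J
  /-- the inverted elements centralising `c` or `d` -/
  inv_c : ∀ n, n = 25 ∨ n = 30 → ∀ x, Odd (orderOf x) → Inverted z x → Commute x (S.f n) → x ∈ J
  card_c : ∀ n, n = 25 ∨ n = 30 → Nat.card (Subgroup.centralizer ({S.f n} : Set G)) = 972
  norm_c : ∀ n, n = 25 ∨ n = 30 →
    Subgroup.centralizer ({S.f n} : Set G) ≤ Subgroup.normalizer (J : Set G)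
  card_a : Nat.card (Subgroup.centralizer ({S.f 24} : Set G)) = 5832
  not_four : ¬ 4 ∣ Nat.card ↥(Subgroup.centralizer ({S.f 24} : Set G) ⊓
    Subgroup.normalizer (J : Set G))
  inv_a : Nat.card {x : G // Odd (orderOf x) ∧ Inverted z x ∧ Commute x (S.f 24)} = 81
  not_inverted_a : ∀ t, orderOf t = 2 → t * S.f 24 * t⁻¹ ≠ (S.f 24)⁻¹
  /-- elements of order three of `C(z)` centralising one inverted element commute -/
  abelian : ∀ x, x ≠ 1 → Odd (orderOf x) → Inverted z x → ∀ h h', orderOf h = 3 → orderOf h' = 3 →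
    Commute h z → Commute h' z → Commute h x → Commute h' x → Commute h h'
  local_three : ∀ x, x ≠ 1 → Odd (orderOf x) → Inverted z x → IsLocal z x →
    ∃ h, orderOf h = 3 ∧ Commute h z ∧ Commute h x
  local_cent : ∀ x, x ≠ 1 → Odd (orderOf x) → Inverted z x → IsLocal z x →
    ∀ g, Commute g x → Odd (orderOf g) → ∃ k, g ^ 3 ^ k = 1
  three_local : ∀ x k, x ^ 3 ^ k = 1 → x ≠ 1 → Inverted z x → IsLocal z x
  dvd_card : 729 ∣ Nat.card G

end Cfsg.Agent.Lib.U43Type85
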