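import Cfsg.Agent.Lib.U43Type85.Setup

/-!
# U4(3) type: calculus with codes, one class of involutions

Owner: helper85.
-/

set_option autoImplicit false

namespace Cfsg.Agent.Lib.U43Type85

open Subgroup

theorem mul_inv_check : ((List.range 1152).all fun n =>
    Nat.beq (mul n (inv n)) 0 && Nat.blt (inv n) 1152) = true := by decide +kernel

/-- The involutions. -/
def invList : List ℕ := (List.range 1152).filter isInv

/-- The representative of a class of involutions. -/
def repOf (t : ℕ) : ℕ :=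
  bif inQ t then 75 else bif Nat.beq (cD t) 2 then 576 else 864

theorem class_check : ((invList.all fun t => Nat.beq t 12 ||
    ((List.range 1152).any fun k => Nat.beq (cj k (repOf t)) t)) &&
      invList.all fun t => inQ t || Nat.beq (cD t) 2 || Nat.beq (cD t) 3) = true := by decide +kernel

theorem swap_check : ∀ s ∈ [100, 101],
    cj 313 75 = 100 ∧ cj 313 100 = 75 ∧ cj 318 75 = 101 ∧ cj 318 101 = 75 := by decide +kernel

namespace Setup

variable {G : Type*} [Group G] {z : G} (S : Setup z)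

include S in
theorem z_sq : z * z = 1 := by
  have h := S.f_mul 0 (by norm_num) 0 (by norm_num)
  rw [show mul 0 0 = 0 by decide +kernel] at h
  have h0 : S.f 0 = 1 := mul_eq_left.1 h.symm
  calc z * z = S.f 12 * S.f 12 := by rw [S.f_z]
    _ = S.f 0 := by rw [← S.f_mul 12 (by norm_num) 12 (by norm_num), show mul 12 12 = 0 by decide +kernel]
    _ = 1 := h0

theorem f_zero : S.f 0 = 1 := by
  have h := S.f_mul 0 (by norm_num) 0 (by norm_num)
  rw [show mul 0 0 = 0 by decide +kernel] at h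
  exact mul_eq_left.1 h.symm

include S in
theorem z_ne : z ≠ 1 := fun h => by
  have := S.f_inj 12 (by norm_num) 0 (by norm_num) (by rw [S.f_z, S.f_zero, h])
  norm_num at this

theorem mul_lt {m n : ℕ} (hm : m < 1152) (hn : n < 1152) : mul m n < 1152 :=
  Frame.mulB_lt true false true hm hn

theorem inv_lt {n : ℕ} (hn : n < 1152) : inv n < 1152 := by
  have := all_range mul_inv_check hn
  simp only [Bool.and_eq_true, Nat.blt_eq] at this
  exact this.2

theorem cj_lt {m n : ℕ} (hm : m < 1152) (hn : n < 1152) : cj m n < 1152 :=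
  mul_lt (mul_lt hm hn) (inv_lt hm)

theorem f_inv {n : ℕ} (hn : n < 1152) : S.f (inv n) = (S.f n)⁻¹ := by
  refine eq_inv_of_mul_eq_one_right ?_
  have := all_range mul_inv_check hn
  simp only [Bool.and_eq_true] at this
  rw [← S.f_mul n hn _ (inv_lt hn), Nat.eq_of_beq_eq_true this.1, S.f_zero]

theorem f_cj {m n : ℕ} (hm : m < 1152) (hn : n < 1152) :
    S.f (cj m n) = S.f m * S.f n * (S.f m)⁻¹ := by
  rw [cj, S.f_mul _ (mul_lt hm hn) _ (inv_lt hm), S.f_mul m hm n hn, S.f_inv hm]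

theorem f_eq_one {n : ℕ} (hn : n < 1152) : S.f n = 1 ↔ n = 0 :=
  ⟨fun h => S.f_inj n hn 0 (by norm_num) (h.trans S.f_zero.symm), fun h => h ▸ S.f_zero⟩

theorem f_eq_z {n : ℕ} (hn : n < 1152) : S.f n = z ↔ n = 12 :=
  ⟨fun h => S.f_inj n hn 12 (by norm_num) (h.trans S.f_z.symm), fun h => h ▸ S.f_z⟩

theorem cm2_iff {m n : ℕ} (hm : m < 1152) (hn : n < 1152) :
    cm2 m n = true ↔ Commute (S.f m) (S.f n) := by
  constructor
  · intro h
    show _ * _ = _ * _
    rw [← S.f_mul m hm n hn, ← S.f_mul n hn m hm, Nat.eq_of_beq_eq_true h]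
  · intro h
    exact beq_true (S.f_inj _ (mul_lt hm hn) _ (mul_lt hn hm) (by
      rw [S.f_mul m hm n hn, S.f_mul n hn m hm]; exact h.eq))

theorem isInv_iff {n : ℕ} (hn : n < 1152) : isInv n = true ↔ orderOf (S.f n) = 2 := by
  rw [orderOf_eq_prime_iff, sq, ← S.f_mul n hn n hn]
  simp only [isInv, Bool.and_eq_true, Bool.not_eq_true', Ne, S.f_eq_one hn, S.f_eq_one (mul_lt hn hn)]
  exact ⟨fun ⟨h, h'⟩ => ⟨Nat.eq_of_beq_eq_true h, fun e => by rw [e] at h'; exact Bool.noConfusion h'⟩,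
    fun ⟨h, h'⟩ => ⟨beq_true h, beq_false h'⟩⟩

theorem isThree_iff {n : ℕ} (hn : n < 1152) : isThree n = true ↔ orderOf (S.f n) = 3 := by
  haveI : Fact (Nat.Prime 3) := ⟨Nat.prime_three⟩
  rw [orderOf_eq_prime_iff, pow_succ, sq, ← S.f_mul n hn n hn, ← S.f_mul _ (mul_lt hn hn) n hn]
  simp only [isThree, Bool.and_eq_true, Bool.not_eq_true', Ne, S.f_eq_one hn,
    S.f_eq_one (mul_lt (mul_lt hn hn) hn)]
  exact ⟨fun ⟨h, h'⟩ => ⟨Nat.eq_of_beq_eq_true h, fun e => by rw [e] at h'; exact Bool.noConfusion h'⟩,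
    fun ⟨h, h'⟩ => ⟨beq_true h, beq_false h'⟩⟩

theorem mem_invList {n : ℕ} : n ∈ invList ↔ n < 1152 ∧ isInv n = true := by
  simp [invList]

theorem isConj_conj (g x : G) : IsConj x (g * x * g⁻¹) := isConj_iff.2 ⟨g, rfl⟩

/-- The classes of involutions of the centraliser. -/
theorem rep_conj {t : ℕ} (ht : t < 1152) (hi : isInv t = true) (h12 : t ≠ 12) :
    ∃ k < 1152, cj k (repOf t) = t := by
  have h := class_check
  simp only [Bool.and_eq_true, List.all_eq_true] at h
  have h1 := h.1 t (mem_invList.2 ⟨ht, hi⟩)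
  rw [beq_false h12, Bool.false_or] at h1
  obtain ⟨k, hk, e⟩ := any_range h1
  exact ⟨k, hk, Nat.eq_of_beq_eq_true e⟩

theorem repOf_lt (t : ℕ) : repOf t < 1152 := by
  unfold repOf
  cases inQ t
  · cases Nat.beq (cD t) 2 <;> norm_num
  · norm_num

/-- An element exchanging `z` and any other involution of its centraliser. -/
theorem exists_exchange {t : ℕ} (ht : t < 1152) (hi : isInv t = true) (h12 : t ≠ 12) :
    ∃ m : G, m * z * m⁻¹ = S.f t ∧ m * S.f t * m⁻¹ = z := by
  -- exchange with the representative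
  have key : ∃ m : G, m * z * m⁻¹ = S.f (repOf t) ∧ m * S.f (repOf t) * m⁻¹ = z := by
    by_cases hq : inQ t = true
    · exact ⟨S.sw, by rw [repOf, hq]; exact ⟨S.sw_z, S.sw_x⟩⟩
    · rw [Bool.not_eq_true] at hq
      have h := class_check
      simp only [Bool.and_eq_true, List.all_eq_true] at h
      have h2 := h.2 t (mem_invList.2 ⟨ht, hi⟩)
      simp only [hq, Bool.false_or, Bool.or_eq_true] at h2
      have hd : cD t = 2 ∨ cD t = 3 := h2.imp Nat.eq_of_beq_eq_true Nat.eq_of_beq_eq_true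
      obtain ⟨s, hs, w, hw, hwi, hwd, ew⟩ := S.out (cD t) hd
      have hwQ : inQ w = false := by
        rw [inQ]
        have : Nat.blt w 288 = false := by
          rw [Bool.eq_false_iff, Ne, Nat.blt_eq]
          intro hlt
          have : cD w = 0 := Nat.div_eq_of_lt hlt
          omega
        rw [this]; rfl
      have hw12 : w ≠ 12 := fun e => by rw [e] at hwd; have : cD 12 = 0 := rfl; omega
      obtain ⟨k, hk, ek⟩ := rep_conj hw hwi hw12
      have hr : repOf w = repOf t := by rw [repOf, repOf, hwQ, hq, hwd]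
      rw [hr] at ek
      have hh : ∃ h < 1152, cj h 75 = s ∧ cj h s = 75 := by
        rcases hs with rfl | rfl
        · exact ⟨313, by norm_num, (swap_check 100 (by simp)).1, (swap_check 100 (by simp)).2.1⟩
        · exact ⟨318, by norm_num, (swap_check 100 (by simp)).2.2.1, (swap_check 100 (by simp)).2.2.2⟩
      obtain ⟨h, hh, h1, h2⟩ := hh
      have hs' : s < 1152 := by rcases hs with rfl | rfl <;> norm_num
      have e1 : S.f h * S.f 75 * (S.f h)⁻¹ = S.f s := by rw [← S.f_cj hh (by norm_num), h1]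
      have e2 : S.f h * S.f s * (S.f h)⁻¹ = S.f 75 := by rw [← S.f_cj hh hs', h2]
      set n := S.sw
      have m1 : (n * S.f h * n⁻¹) * z * (n * S.f h * n⁻¹)⁻¹ = S.f w := by
        have hb : n⁻¹ * z * n = S.f 75 :=
          calc n⁻¹ * z * n = n⁻¹ * (n * S.f 75 * n⁻¹) * n := by rw [S.sw_x]
            _ = S.f 75 := by group
        rw [show n * S.f h * n⁻¹ * z * (n * S.f h * n⁻¹)⁻¹ =
          n * (S.f h * (n⁻¹ * z * n) * (S.f h)⁻¹) * n⁻¹ by group, hb, e1, ew]
      have m2 : (n * S.f h * n⁻¹) * S.f w * (n * S.f h * n⁻¹)⁻¹ = z := by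
        rw [ew, show n * S.f h * n⁻¹ * (n * S.f s * n⁻¹) * (n * S.f h * n⁻¹)⁻¹ =
          n * (S.f h * S.f s * (S.f h)⁻¹) * n⁻¹ by group, e2, S.sw_x]
      set m := n * S.f h * n⁻¹
      have hkz : S.f k * z * (S.f k)⁻¹ = z := by rw [(S.f_comm k).eq, mul_inv_cancel_right]
      have hkz' : (S.f k)⁻¹ * z * S.f k = z := by
        rw [mul_assoc, ← (S.f_comm k).eq, inv_mul_cancel_left]
      have ew' : S.f w = S.f k * S.f (repOf t) * (S.f k)⁻¹ := by rw [← S.f_cj hk (repOf_lt t), ek]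
      refine ⟨(S.f k)⁻¹ * m * S.f k, ?_, ?_⟩
      · rw [show (S.f k)⁻¹ * m * S.f k * z * ((S.f k)⁻¹ * m * S.f k)⁻¹ =
          (S.f k)⁻¹ * (m * (S.f k * z * (S.f k)⁻¹) * m⁻¹) * S.f k by group, hkz, m1, ew']
        group
      · rw [show (S.f k)⁻¹ * m * S.f k * S.f (repOf t) * ((S.f k)⁻¹ * m * S.f k)⁻¹ =
          (S.f k)⁻¹ * (m * (S.f k * S.f (repOf t) * (S.f k)⁻¹) * m⁻¹) * S.f k by group, ← ew', m2, hkz']
  obtain ⟨m, m1, m2⟩ := key
  obtain ⟨k, hk, ek⟩ := rep_conj ht hi h12
  have et : S.f t = S.f k * S.f (repOf t) * (S.f k)⁻¹ := by rw [← S.f_cj hk (repOf_lt t), ek]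
  have hkz : S.f k * z * (S.f k)⁻¹ = z := by rw [(S.f_comm k).eq, mul_inv_cancel_right]
  have hkz' : (S.f k)⁻¹ * z * S.f k = z := by
    rw [mul_assoc, ← (S.f_comm k).eq, inv_mul_cancel_left]
  refine ⟨S.f k * m * (S.f k)⁻¹, ?_, ?_⟩
  · rw [show S.f k * m * (S.f k)⁻¹ * z * (S.f k * m * (S.f k)⁻¹)⁻¹ =
      S.f k * (m * ((S.f k)⁻¹ * z * S.f k) * m⁻¹) * (S.f k)⁻¹ by group, hkz', m1, et]
  · rw [et, show S.f k * m * (S.f k)⁻¹ * (S.f k * S.f (repOf t) * (S.f k)⁻¹) *
      (S.f k * m * (S.f k)⁻¹)⁻¹ = S.f k * (m * S.f (repOf t) * m⁻¹) * (S.f k)⁻¹ by group, m2, hkz]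

include S in
theorem orderOf_z : orderOf z = 2 :=
  orderOf_eq_prime_iff.2 ⟨by rw [sq, S.z_sq], S.z_ne⟩

include S in
theorem conj_of_commute {w : G} (hw : orderOf w = 2) (hc : Commute w z) : IsConj z w := by
  obtain ⟨n, hn, rfl⟩ := S.f_surj w hc
  by_cases h12 : n = 12
  · rw [h12, S.f_z]
  · obtain ⟨m, hm, -⟩ := S.exists_exchange hn ((S.isInv_iff hn).2 hw) h12
    exact isConj_iff.2 ⟨m, hm⟩

end Setup

theorem orderOf_of_sq {G : Type*} [Group G] {a : G} (h : a * a = 1) (h' : a ≠ 1) : orderOf a = 2 :=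
  orderOf_eq_prime_iff.2 ⟨by rw [sq, h], h'⟩

theorem sq_of_orderOf {G : Type*} [Group G] {a : G} (h : orderOf a = 2) : a * a = 1 := by
  rw [← sq, ← h, pow_orderOf_eq_one]

/-- Two involutions are conjugate, or both commute with the involution in the group of their product. -/
theorem involution_pair {G : Type*} [Group G] [Finite G] {s t : G} (hs : s * s = 1) (ht : t * t = 1) :
    IsConj s t ∨ ∃ k, orderOf ((s * t) ^ k) = 2 ∧ Commute ((s * t) ^ k) s ∧ Commute ((s * t) ^ k) t := by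
  have hinv : s * (s * t) * s⁻¹ = (s * t)⁻¹ := by
    rw [inv_eq_of_mul_eq_one_right hs, mul_inv_rev, inv_eq_of_mul_eq_one_right hs,
      inv_eq_of_mul_eq_one_right ht, ← mul_assoc, hs, one_mul]
  rcases Nat.even_or_odd (orderOf (s * t)) with he | ho
  · right
    obtain ⟨k, hk⟩ := he
    have hpos : 0 < orderOf (s * t) := orderOf_pos (s * t)
    have hne : (s * t) ^ k ≠ 1 := pow_ne_one_of_lt_orderOf (by omega) (by omega)
    have hsq : (s * t) ^ k * (s * t) ^ k = 1 := by rw [← pow_add, ← hk, pow_orderOf_eq_one]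
    have hcs : Commute ((s * t) ^ k) s := by
      refine (mul_inv_eq_iff_eq_mul.1 ?_).symm
      rw [← conj_pow, hinv, inv_pow]
      exact inv_eq_of_mul_eq_one_right hsq
    refine ⟨k, orderOf_of_sq hsq hne, hcs, ?_⟩
    have : Commute ((s * t) ^ k) (s * (s * t)) :=
      hcs.mul_right ((Commute.refl (s * t)).pow_left k)
    rwa [← mul_assoc, hs, one_mul] at this
  · left
    obtain ⟨k, hk⟩ := ho
    refine isConj_iff.2 ⟨(s * t) ^ k * 1, ?_⟩
    rw [mul_one]
    have h1 : s * ((s * t) ^ k)⁻¹ = (s * t) ^ k * s := by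
      rw [← inv_pow, ← hinv, conj_pow, ← mul_assoc, ← mul_assoc, hs, one_mul,
        inv_eq_of_mul_eq_one_right hs]
    rw [mul_assoc, h1, ← mul_assoc, ← pow_add]
    have h2 : (s * t) ^ (k + k) = (s * t)⁻¹ := by
      refine eq_inv_of_mul_eq_one_left ?_
      rw [← pow_succ, ← two_mul, ← hk, pow_orderOf_eq_one]
    rw [h2, mul_inv_rev, inv_eq_of_mul_eq_one_right hs, inv_eq_of_mul_eq_one_right ht, mul_assoc, hs, mul_one]

namespace Setup

variable {G : Type*} [Group G] {z : G}

/-- One class of involutions. -/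
theorem one_class [Finite G] (S : Setup z) {x y : G} (hx : orderOf x = 2) (hy : orderOf y = 2) :
    IsConj x y := by
  have key : ∀ t : G, orderOf t = 2 → IsConj z t := by
    intro t ht
    rcases involution_pair S.z_sq (sq_of_orderOf ht) with h | ⟨k, h2, hz, hct⟩
    · exact h
    · set w := (z * t) ^ k with hw
      obtain ⟨m, hm⟩ := isConj_iff.1 (S.conj_of_commute h2 hz)
      have ht' : Commute (m⁻¹ * t * m) z := by
        have := hct.symm.map (MulAut.conj m⁻¹)
        simp only [MulAut.conj_apply, inv_inv] at this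
        have hb : m⁻¹ * w * m = z := by rw [← hm]; group
        rwa [hb] at this
      have h2' : orderOf (m⁻¹ * t * m) = 2 := by
        have := MulEquiv.orderOf_eq (MulAut.conj m⁻¹) t
        simp only [MulAut.conj_apply, inv_inv] at this
        rw [this, ht]
      refine (S.conj_of_commute h2' ht').trans ?_
      exact isConj_iff.2 ⟨m, by group⟩
  exact (key x hx).symm.trans (key y hy)

end Setup

end Cfsg.Agent.Lib.U43Type85
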