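import Cfsg.Agent.Lib.U43Type85.CheckC

/-!
# U4(3) type: checks on codes for the centraliser of `a` and the local elements

Owner: helper85.
-/

set_option autoImplicit false

namespace Cfsg.Agent.Lib.U43Type85

/-- The eighth power. -/
def pow8 (n : ℕ) : ℕ := mul (mul (mul n n) (mul n n)) (mul (mul n n) (mul n n))

/-- `N(⟨a, b⟩)` acts on `⟨a, b⟩` as a group of exponent dividing eight. -/
theorem neList_check : (neList.all fun h => cm2 (pow8 h) 24 && cm2 (pow8 h) 1) = true := by decide +kernel

/-- Some element of `C(a)` moves `b` out of `⟨a, b⟩`. -/
theorem move_b_check : ((List.range 1152).any fun h => cm2 h 24 && !memb (cj h 1) e9) = true := by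
  decide +kernel

/-- No involution inverts `a`. -/
theorem inv_a_check : ((List.range 1152).all fun n => !isInv n || !Nat.beq (cj n 24) (inv 24)) = true := by
  decide +kernel

/-- The four involutions `σ`, `σ z` of the two parameters. -/
def outFour : List ℕ := [576, 588, 864, 876]

/-- Two of them have product `z` or a product with square `z`. -/
theorem outFour_check : (outFour.all fun t => outFour.all fun u => Nat.beq t u || Nat.beq (mul t u) 12 ||
    Nat.beq (mul (mul t u) (mul t u)) 12) = true ∧ mul 576 12 = 588 ∧ mul 864 12 = 876 := by decide +kernel

/-- The classes of elements of order three. -/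
theorem three_check : ((List.range 1152).all fun n => !isThree n ||
    [24, 144, 25, 150, 30, 145].any fun x => (List.range 1152).any fun k => Nat.beq (cj k x) n) = true := by
  decide +kernel

end Cfsg.Agent.Lib.U43Type85
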