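import Cfsg.Agent.Lib.U43Type85.CentC
import Cfsg.Agent.Lib.U43Type85.CheckA
import Cfsg.Agent.Lib.U43Graph14.FromSetup

/-!
# U4(3) type: the centraliser of `a` has order 5832

`C(a)` has an odd normal subgroup `O` with `[z, C(a)] ≤ O`, and `[O, O] ≤ ⟨a⟩`.  As the centraliser of
`a` and of the nine inverted elements of `J` is `J`, the inverted part of `O` has at most 81 elements.

Owner: helper85.
-/

set_option autoImplicit false

namespace Cfsg.Agent.Lib.U43Type85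

open Subgroup Tools

namespace Tools

variable {G : Type*} [Group G] [Finite G]

/-- The orders of the fixed and inverted parts of a group of odd order. -/
theorem card_fixed_inverted {D : Subgroup G} (hD : Odd (Nat.card D)) {t : G} (ht : t * t = 1)
    (htD : ∀ x ∈ D, t * x * t⁻¹ ∈ D) :
    Nat.card D = Nat.card ↥(D ⊓ centralizer ({t} : Set G)) * Nat.card {x : G // x ∈ D ∧ t * x * t⁻¹ = x⁻¹} := by
  have h := (Goldschmidt53.RankTwoBad.symSet_subgroup D hD).ncard_eq (MulAut.conj t)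
    (fun x hx => htD x hx) (fun x _ => by
      show t * (t * x * t⁻¹) * t⁻¹ = x
      rw [show t * (t * x * t⁻¹) * t⁻¹ = t * t * x * (t * t)⁻¹ by group, ht]; group)
  rw [Goldschmidt53.RankTwoBad.fixed_eq_centralizer, ← Nat.card_coe_set_eq, ← Nat.card_coe_set_eq,
    ← Nat.card_coe_set_eq] at h
  exact h

/-- If the fixed part is central, each element is a product of an inverted and a fixed one. -/
theorem decomp_fixed {D : Subgroup G} (hD : Odd (Nat.card D)) {t : G} (ht : t * t = 1)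
    (htD : ∀ x ∈ D, t * x * t⁻¹ ∈ D) (hF : ∀ x ∈ D, Commute x t → ∀ y ∈ D, Commute x y)
    {x : G} (hx : x ∈ D) : ∃ i ∈ D, t * i * t⁻¹ = i⁻¹ ∧ ∃ f ∈ D, Commute f t ∧ x = i * f := by
  let ψ : {x : G // x ∈ D ∧ t * x * t⁻¹ = x⁻¹} × ↥(D ⊓ centralizer ({t} : Set G)) → D := fun p =>
    ⟨p.1.1 * p.2.1, mul_mem p.1.2.1 p.2.2.1⟩
  have hψ : Function.Injective ψ := by
    rintro ⟨⟨i, hi, hit⟩, f, hf, hft⟩ ⟨⟨i', hi', hit'⟩, f', hf', hft'⟩ e
    have hft : Commute f t := mem_centralizer_singleton_iff.1 hft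
    have hft' : Commute f' t := mem_centralizer_singleton_iff.1 hft'
    have e' : i * f = i' * f' := congrArg Subtype.val e
    set u := f * f'⁻¹ with hu
    have hiu : i' = i * u := by rw [hu, ← mul_assoc, e']; group
    have hut : Commute u t := hft.mul_left hft'.inv_left
    have huD : u ∈ D := mul_mem hf (inv_mem hf')
    have hcu : Commute i u := (hF u huD hut i hi).symm
    have h : i⁻¹ * u = i'⁻¹ := by
      rw [← hit', hiu, show t * (i * u) * t⁻¹ = (t * i * t⁻¹) * (t * u * t⁻¹) by group, hit,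
        conj_eq_of_commute hut.symm]
    rw [hiu, mul_inv_rev, ← hcu.inv_inv.eq] at h
    have huu : u * u = 1 := mul_eq_one_iff_eq_inv.2 (mul_left_cancel h)
    have hu1 : u = 1 := Tools.eq_one_of_coprime (by rw [pow_two, huu] : u ^ 2 = 1)
      (Tools.pow_card_eq_one_of_mem huD) (Nat.coprime_two_left.2 hD)
    rw [hu1, mul_one] at hiu
    subst hiu
    have := mul_left_cancel e'
    subst this
    rfl
  have hs : Function.Surjective ψ := by
    refine (hψ.bijective_of_nat_card_le ?_).2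
    rw [Nat.card_prod, mul_comm, ← card_fixed_inverted hD ht htD]
  obtain ⟨⟨⟨i, hi, hit⟩, f, hf, hft⟩, e⟩ := hs ⟨x, hx⟩
  exact ⟨i, hi, hit, f, hf, mem_centralizer_singleton_iff.1 hft, (congrArg Subtype.val e).symm⟩

/-- If the fixed part is central, it contains the commutators. -/
theorem comm_fixed {D : Subgroup G} (hD : Odd (Nat.card D)) {t : G} (ht : t * t = 1)
    (htD : ∀ x ∈ D, t * x * t⁻¹ ∈ D) (hF : ∀ x ∈ D, Commute x t → ∀ y ∈ D, Commute x y)
    {x y : G} (hx : x ∈ D) (hy : y ∈ D) :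
    x * y * x⁻¹ * y⁻¹ ∈ D ∧ Commute (x * y * x⁻¹ * y⁻¹) t := by
  refine ⟨mul_mem (mul_mem (mul_mem hx hy) (inv_mem hx)) (inv_mem hy), ?_⟩
  obtain ⟨i, hi, hit, f, hf, hft, rfl⟩ := decomp_fixed hD ht htD hF hx
  obtain ⟨j, hj, hjt, e, he, het, rfl⟩ := decomp_fixed hD ht htD hF hy
  rw [show i * f * (j * e) * (i * f)⁻¹ * (j * e)⁻¹ =
      i * (f * j * f⁻¹) * (f * e * f⁻¹) * i⁻¹ * e⁻¹ * j⁻¹ by group,
    conj_eq_of_commute (hF f hf hft j hj), conj_eq_of_commute (hF f hf hft e he),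
    show i * j * e * i⁻¹ * e⁻¹ * j⁻¹ = i * j * (e * i⁻¹ * e⁻¹) * j⁻¹ by group,
    conj_eq_of_commute (hF e he het i hi).inv_right]
  obtain ⟨l, hl, hlt, w, hw, hwt, hlw⟩ := decomp_fixed hD ht htD hF (mul_mem hi hj)
  have h1 : i⁻¹ * j⁻¹ = l⁻¹ * w :=
    calc i⁻¹ * j⁻¹ = (t * i * t⁻¹) * (t * j * t⁻¹) := by rw [hit, hjt]
      _ = t * (l * w) * t⁻¹ := by rw [← hlw]; group
      _ = (t * l * t⁻¹) * (t * w * t⁻¹) := by group
      _ = _ := by rw [hlt, conj_eq_of_commute hwt.symm]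
  rw [show i * j * i⁻¹ * j⁻¹ = i * j * (i⁻¹ * j⁻¹) by group, h1, hlw,
    show l * w * (l⁻¹ * w) = (l * w * l⁻¹) * w by group, conj_eq_of_commute (hF w hw hwt l hl).symm]
  exact hwt.mul_left hwt

end Tools

universe u

namespace Setup

variable {G : Type u} [Group G] [Finite G] {z : G} (S : Setup z)

theorem cd_eq : S.f 25 * S.f 30 = (S.f 24)⁻¹ := by
  have h : mul 25 30 = inv 24 := by decide +kernel
  rw [← S.f_mul 25 (by norm_num) 30 (by norm_num), h, S.f_inv (by norm_num)]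

theorem cent_a_eq :
    centralizer ({S.f 25 * S.f 30} : Set G) = centralizer ({S.f 24} : Set G) := by
  ext x
  rw [S.cd_eq, mem_centralizer_singleton_iff, mem_centralizer_singleton_iff]
  exact ⟨fun h => (Commute.inv_right_iff.1 (show Commute x (S.f 24)⁻¹ from h)).eq,
    fun h => (show Commute x (S.f 24) from h).inv_right.eq⟩

theorem hp1 : IsPrm 25 576 30 := Or.inl ⟨rfl, rfl, rfl⟩

theorem hp2 : IsPrm 30 864 25 := Or.inr ⟨rfl, rfl, rfl⟩

/-- An element of odd order normalising `⟨a, b⟩` lies in `J`. -/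
theorem odd_norm_E {y : G} (ho : Odd (orderOf y)) (hy : ∀ e ∈ S.E, y * e * y⁻¹ ∈ S.E) : y ∈ S.J := by
  have hyn := Tools.mem_normalizer_of hy
  obtain ⟨q, hq, eq⟩ := S.CE_conj_z (t := y * z * y⁻¹) (S.CE_conj (fun e he => by
      have := (mem_normalizer_iff.1 (inv_mem hyn) e).1 he
      rwa [inv_inv] at this) S.z_mem_CE) (by rw [Tools.orderOf_conj, S.orderOf_z])
  have hqz : Commute (q * y) z := commute_of_conj_eq (by
    rw [show q * y * z * (q * y)⁻¹ = q * (y * z * y⁻¹) * q⁻¹ by group]; exact eq)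
  obtain ⟨h, hh, eh⟩ := S.f_surj _ hqz
  have hqE : ∀ x ∈ S.E, q * x * q⁻¹ = x := fun x hx => conj_eq_of_commute (S.CE_comm hq hx)
  have hact : ∀ n : ℕ, ∀ x ∈ S.E,
      (q * y) ^ n * x * ((q * y) ^ n)⁻¹ = y ^ n * x * (y ^ n)⁻¹ ∧ y ^ n * x * (y ^ n)⁻¹ ∈ S.E := by
    intro n
    induction n with
    | zero => intro x hx; simp [hx]
    | succ n ih =>
      intro x hx
      obtain ⟨h1, h2⟩ := ih x hx
      have e1 : ∀ A : G, q * y * A * x * (q * y * A)⁻¹ = q * (y * (A * x * A⁻¹) * y⁻¹) * q⁻¹ :=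
        fun A => by group
      have e2 : ∀ B : G, y * B * x * (y * B)⁻¹ = y * (B * x * B⁻¹) * y⁻¹ := fun B => by group
      rw [pow_succ', pow_succ', e1, h1, hqE _ (hy _ h2), e2]
      exact ⟨rfl, hy _ h2⟩
  have hne : h ∈ neList := by
    have code : ∀ x ∈ e9, ∃ v ∈ e9, cj h x = v := fun x hx => by
      obtain ⟨h1, h2⟩ := hact 1 _ (⟨x, hx, rfl⟩ : S.f x ∈ S.E)
      rw [pow_one, pow_one] at h1
      rw [pow_one] at h2
      obtain ⟨v, hv, ev⟩ := h2
      exact ⟨v, hv, S.code_of_conj hh (e9_lt x hx) (e9_lt v hv) (by rw [eh, h1, ev])⟩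
    refine List.mem_filter.2 ⟨List.mem_range.2 hh, ?_⟩
    obtain ⟨u, hu, eu⟩ := code 24 (by simp [e9])
    obtain ⟨v, hv, ev⟩ := code 1 (by simp [e9])
    rw [eu, ev, Bool.and_eq_true]
    exact ⟨memb_iff.2 hu, memb_iff.2 hv⟩
  have hc := all_mem neList_check hne
  simp only [Bool.and_eq_true] at hc
  have h2 := mul_lt hh hh
  have h4 := mul_lt h2 h2
  have h8 : pow8 h < 1152 := mul_lt h4 h4
  have e8 : S.f (pow8 h) = (q * y) ^ 8 := by
    rw [pow8, S.f_mul _ h4 _ h4, S.f_mul _ h2 _ h2, S.f_mul h hh h hh, eh]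
    simp only [pow_succ, pow_zero, one_mul, mul_assoc]
  have key : ∀ x ∈ e9, cm2 (pow8 h) x = true → Commute (y ^ 8) (S.f x) := fun x hx e => by
    refine commute_of_conj_eq ?_
    obtain ⟨h1, -⟩ := hact 8 (S.f x) ⟨x, hx, rfl⟩
    rw [← h1, ← e8]
    exact conj_eq_of_commute ((S.cm2_iff h8 (e9_lt x hx)).1 e)
  have h8m : y ^ 8 ∈ S.CE := S.mem_CE.2 ⟨key 24 (by simp [e9]) hc.1, key 1 (by simp [e9]) hc.2⟩
  refine S.mem_J.2 ⟨?_, ho⟩
  refine Tools.mem_of_sq_mem ho (Tools.mem_of_sq_mem (x := y * y) ?_ (Tools.mem_of_sq_mem (x := y * y * (y * y)) ?_ ?_))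
  · rw [← pow_two]; exact Tools.odd_orderOf_pow ho 2
  · rw [show y * y * (y * y) = y ^ 4 by simp only [pow_succ, pow_zero, one_mul, mul_assoc]]
    exact Tools.odd_orderOf_pow ho 4
  · rw [show y * y * (y * y) * (y * y * (y * y)) = y ^ 8 by simp only [pow_succ, pow_zero, one_mul, mul_assoc]]
    exact h8m

/-- The inverted elements of `J`. -/
def IJ : Subgroup G := closure {x | x ∈ S.J ∧ Inverted z x}

theorem mem_IJ {x : G} : x ∈ S.IJ ↔ x ∈ S.J ∧ Inverted z x := by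
  refine ⟨fun h => ?_, fun h => subset_closure h⟩
  induction h using closure_induction with
  | mem x hx => exact hx
  | one => exact ⟨one_mem _, by simp [Inverted]⟩
  | mul x y _ _ hx hy =>
    refine ⟨mul_mem hx.1 hy.1, ?_⟩
    show z * (x * y) * z⁻¹ = (x * y)⁻¹
    rw [show z * (x * y) * z⁻¹ = (z * x * z⁻¹) * (z * y * z⁻¹) by group, hx.2, hy.2,
      ((S.J_comm hp1 hx.1 hy.1).inv_inv).eq, mul_inv_rev]
  | inv x _ hx =>
    refine ⟨inv_mem hx.1, ?_⟩
    show z * x⁻¹ * z⁻¹ = x⁻¹⁻¹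
    rw [show z * x⁻¹ * z⁻¹ = (z * x * z⁻¹)⁻¹ by group, hx.2]

theorem card_IJ : Nat.card S.IJ = 9 := by
  rw [← S.card_inverted_J hp1]
  exact Nat.card_congr (Equiv.subtypeEquivRight fun x => S.mem_IJ)

theorem eq_one_of_fix_inv {x : G} (ho : Odd (orderOf x)) (h1 : Commute x z) (h2 : Inverted z x) : x = 1 := by
  have h : x = x⁻¹ := (conj_eq_of_commute h1.symm).symm.trans h2
  exact Tools.eq_one_of_coprime (by rw [pow_two]; exact mul_eq_one_iff_eq_inv.2 h : x ^ 2 = 1)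
    (pow_orderOf_eq_one x) (Nat.coprime_two_left.2 ho)

/-- The centraliser of `a` and of the inverted elements of `J` is `J`. -/
theorem cent_J0 {y : G} (ha : Commute y (S.f 24)) (hI : ∀ v ∈ S.IJ, Commute y v) : y ∈ S.J := by
  obtain ⟨g, hg⟩ := S.exists_cyc hp1
  obtain ⟨g2, hg2⟩ := S.exists_cyc hp2
  have hgN := S.cyc_norm hp1 hg
  obtain ⟨-, -, -, -, -, hdE, hsd, -⟩ := S.basics hp1
  have hb : g⁻¹ * z * g = S.f 576 * z := conj_back hg.g3
  have hd' : g * S.f 30 * g⁻¹ ∈ S.IJ := S.mem_IJ.2 ⟨(mem_normalizer_iff.1 hgN _).1 (S.E_le_J hdE), by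
    show z * (g * S.f 30 * g⁻¹) * z⁻¹ = (g * S.f 30 * g⁻¹)⁻¹
    rw [show z * (g * S.f 30 * g⁻¹) * z⁻¹ = g * ((g⁻¹ * z * g) * S.f 30 * (g⁻¹ * z * g)⁻¹) * g⁻¹ by group, hb,
      show S.f 576 * z * S.f 30 * (S.f 576 * z)⁻¹ = S.f 576 * (z * S.f 30 * z⁻¹) * (S.f 576)⁻¹ by group,
      conj_eq_of_commute (S.f_comm 30).symm, hsd]
    group⟩
  set y' := g⁻¹ * y * g with hy'
  have hy'M : y' ∈ S.M 864 g2 := by
    rw [← S.C_eq_M hp2 hg2]
    refine mem_cent.2 ?_
    have := commute_conj (g := g⁻¹) (hI _ hd')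
    rwa [inv_inv, show g⁻¹ * (g * S.f 30 * g⁻¹) * g = S.f 30 by group] at this
  set Y := S.J ⊓ centralizer ({y} : Set G)
  have haY : S.f 24 ∈ Y := ⟨S.E_le_J S.a_mem, mem_cent.2 ha.symm⟩
  have hIY : S.IJ ≤ Y := fun v hv => ⟨(S.mem_IJ.1 hv).1, mem_cent.2 (hI v hv).symm⟩
  have haI : S.f 24 ∉ S.IJ := fun h => by
    have e := eq_one_of_fix_inv (S.mem_J.1 (S.E_le_J S.a_mem)).2 (S.f_comm 24) (S.mem_IJ.1 h).2
    exact absurd ((S.f_eq_one (by norm_num)).1 e) (by norm_num)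
  have h18 := two_mul_card_le hIY haY haI
  rw [S.card_IJ] at h18
  set X := Y.map (MulAut.conj g⁻¹).toMonoidHom
  have hX : X ≤ S.J := by
    rintro _ ⟨x, hx, rfl⟩
    exact (mem_normalizer_iff.1 (inv_mem hgN) x).1 hx.1
  by_contra hyJ
  have hy'J : y' ∉ S.J := fun h => hyJ (by
    have := (mem_normalizer_iff.1 hgN _).1 h
    rwa [hy', show g * (g⁻¹ * y * g) * g⁻¹ = y by group] at this)
  have h9 := S.fix_small hp2 hg2 hy'M hy'J hX (by
    rintro _ ⟨x, hx, rfl⟩
    have hc : Commute y' ((MulAut.conj g⁻¹).toMonoidHom x) := by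
      have := commute_conj (g := g⁻¹) (mem_cent.1 hx.2).symm
      rw [inv_inv] at this
      show Commute y' (g⁻¹ * x * g⁻¹⁻¹)
      rw [inv_inv]; exact this
    rw [conj_eq_of_commute hc, mul_inv_cancel]
    exact one_mem _)
  rw [card_map_of_injective (MulAut.conj g⁻¹).injective] at h9
  omega

/-- An odd normal subgroup of `C(a)` containing `[z, C(a)]`. -/
structure IsO (O : Subgroup G) : Prop where
  le : O ≤ centralizer ({S.f 24} : Set G)
  odd : Odd (Nat.card O)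
  norm : ∀ g, Commute g (S.f 24) → ∀ x ∈ O, g * x * g⁻¹ ∈ O
  comm : ∀ g, Commute g (S.f 24) → z * g * z⁻¹ * g⁻¹ ∈ O
  conj : ∀ v : G, orderOf v = 2 → Commute v (S.f 24) → ∃ g : G, Commute g (S.f 24) ∧ g * v * g⁻¹ = z

theorem exists_O : ∃ O, S.IsO O := by
  obtain ⟨hconj, O, hle, hodd, hn, hc⟩ := U43Graph14.one_involution S.orderOf_z (a := S.f 24) (S.f_comm 24).symm.eq
    (fun v hv hva hvz => S.invol_a hv hvz hva)
  exact ⟨O, hle, hodd, fun g hg => hn g (mem_cent.2 hg), fun g hg => hc g (mem_cent.2 hg), hconj⟩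

variable {O : Subgroup G} (hO : S.IsO O)
include hO

theorem O_a {x : G} (hx : x ∈ O) : Commute x (S.f 24) := mem_cent.1 (hO.le hx)

theorem O_odd {x : G} (hx : x ∈ O) : Odd (orderOf x) := hO.odd.of_dvd_nat (Subgroup.orderOf_dvd_natCard O hx)

theorem z_conj_O {x : G} (hx : x ∈ O) : z * x * z⁻¹ ∈ O := hO.norm z (S.f_comm 24).symm x hx

/-- The fixed part lies in `⟨a⟩`. -/
theorem O_fix {x : G} (hx : x ∈ O) (hz : Commute x z) : x ∈ zpowers (S.f 24) := by
  haveI : Fact (Nat.Prime 3) := ⟨Nat.prime_three⟩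
  set F := O ⊓ centralizer ({z} : Set G)
  set A := zpowers (S.f 24)
  have ha3 : S.f 24 ^ 3 = 1 := S.E_cube S.a_mem
  have hle : F ≤ centralizer ({S.f 25 * S.f 30} : Set G) ⊓ centralizer ({z} : Set G) := by
    rw [S.cent_a_eq]; exact inf_le_inf_right _ hO.le
  have hn : ∀ g ∈ centralizer ({S.f 25 * S.f 30} : Set G) ⊓ centralizer ({z} : Set G),
      ∀ y ∈ F, g * y * g⁻¹ ∈ F := by
    rw [S.cent_a_eq]
    exact fun g hg y hy => ⟨hO.norm g (mem_cent.1 hg.1) y hy.1,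
      (centralizer ({z} : Set G)).mul_mem ((centralizer ({z} : Set G)).mul_mem hg.2 hy.2)
        ((centralizer ({z} : Set G)).inv_mem hg.2)⟩
  have hF := U43Graph14.setup_small S F hle (hO.odd.of_dvd_nat (card_dvd_of_le inf_le_left)) hn
  have hFp : IsPGroup 3 F := by
    have ho : Nat.card F % 2 = 1 := Nat.odd_iff.1 (hO.odd.of_dvd_nat (card_dvd_of_le inf_le_left))
    have := Nat.card_pos (α := F)
    rcases (show Nat.card F = 1 ∨ Nat.card F = 3 by omega) with h | h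
    · exact IsPGroup.of_card (n := 0) h
    · exact IsPGroup.of_card (n := 1) h
  have hA : A ≤ centralizer ({S.f 25 * S.f 30} : Set G) ⊓ centralizer ({z} : Set G) := by
    rw [S.cent_a_eq]
    exact zpowers_le.2 ⟨mem_cent.2 (Commute.refl _), mem_cent.2 (S.f_comm 24)⟩
  have hcA : ∀ g, Commute g (S.f 24) → ∀ y ∈ A, g * y * g⁻¹ = y := by
    intro g hg y hy
    obtain ⟨n, rfl⟩ := mem_zpowers_iff.1 hy
    exact conj_eq_of_commute (hg.zpow_right n)
  have hP : IsPGroup 3 ↥(F ⊔ A) := IsPGroup.to_sup_of_normal_right' hFp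
    (Tools.isPGroup_zpowers (k := 1) (by rw [pow_one, ha3]))
    fun y hy => Tools.mem_normalizer_of fun b hb => by rw [hcA y (S.O_a hO hy.1) b hb]; exact hb
  have h3 := U43Graph14.setup_small S (F ⊔ A) (sup_le hle hA)
    (by obtain ⟨k, hk⟩ := IsPGroup.iff_card.1 hP; rw [hk]; exact (by decide : Odd 3).pow) (by
      intro g hg
      have : (F ⊔ A).map (MulAut.conj g).toMonoidHom ≤ F ⊔ A := by
        rw [Subgroup.map_sup]
        refine sup_le_sup ?_ ?_
        · rintro _ ⟨y, hy, rfl⟩; exact hn g hg y hy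
        · rintro _ ⟨y, hy, rfl⟩
          show g * y * g⁻¹ ∈ A
          rw [S.cent_a_eq] at hg
          rw [hcA g (mem_cent.1 hg.1) y hy]; exact hy
      exact fun y hy => this ⟨y, hy, rfl⟩)
  have heq : A = F ⊔ A := eq_of_le_of_card_ge le_sup_right (h3.trans (le_of_eq (by
    rw [Nat.card_zpowers, orderOf_eq_prime_iff.2 ⟨ha3, fun e => absurd ((S.f_eq_one (by norm_num)).1 e) (by norm_num)⟩])))
  rw [heq]
  exact mem_sup_left ⟨hx, mem_cent.2 hz⟩

theorem O_fix_central {x : G} (hx : x ∈ O) (hz : Commute x z) : ∀ y ∈ O, Commute x y := by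
  intro y hy
  obtain ⟨n, rfl⟩ := mem_zpowers_iff.1 (S.O_fix hO hx hz)
  exact ((S.O_a hO hy).symm).zpow_left n

/-- The inverted elements of odd order of `C(a)` lie in `O`. -/
theorem inverted_mem_O {x : G} (ho : Odd (orderOf x)) (hi : Inverted z x) (ha : Commute x (S.f 24)) :
    x ∈ O := by
  have h2 : (z * x) * (z * x) = 1 := by
    rw [show z * x * (z * x) = z * x * z⁻¹ * (z * z) * x by group, S.z_sq, mul_one, hi, inv_mul_cancel]
  have hne : z * x ≠ 1 := fun e => by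
    have e' : x = z := by rw [eq_inv_of_mul_eq_one_right e, S.z_inv]
    rw [e', S.orderOf_z] at ho
    exact absurd ho (by decide)
  obtain ⟨g, hg, e⟩ := hO.conj _ (orderOf_of_sq h2 hne) ((S.f_comm 24).symm.mul_left ha)
  have hb := conj_back e
  have := hO.comm g⁻¹ hg.inv_left
  rw [S.z_inv] at this
  rw [show x = z * g⁻¹ * z * (g⁻¹)⁻¹ by
    rw [inv_inv, show z * g⁻¹ * z * g = z * (g⁻¹ * z * g) by group, hb, ← mul_assoc, S.z_sq, one_mul]]
  exact this

theorem IJ_le_O : S.IJ ≤ O := fun v hv =>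
  S.inverted_mem_O hO (S.mem_J.1 (S.mem_IJ.1 hv).1).2 (S.mem_IJ.1 hv).2
    (S.mem_CE.1 (S.J_le_CE (S.mem_IJ.1 hv).1)).1

/-- An element commuting with `a` and the inverted part commutes with `O`. -/
theorem commute_O {y : G} (ha : Commute y (S.f 24)) (hI : ∀ x ∈ O, Inverted z x → Commute y x) {x : G}
    (hx : x ∈ O) : Commute y x := by
  obtain ⟨i, hi, hit, f, hf, hfz, rfl⟩ := Tools.decomp_fixed hO.odd S.z_sq (fun w hw => S.z_conj_O hO hw)
    (fun w hw hwz => S.O_fix_central hO hw hwz) hx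
  obtain ⟨n, hn⟩ := mem_zpowers_iff.1 (S.O_fix hO hf hfz)
  exact (hI i hi hit).mul_right (hn ▸ ha.zpow_right n)

theorem O_comm_a {x y : G} (hx : x ∈ O) (hy : y ∈ O) : x * y * x⁻¹ * y⁻¹ ∈ zpowers (S.f 24) := by
  obtain ⟨h1, h2⟩ := Tools.comm_fixed hO.odd S.z_sq (fun w hw => S.z_conj_O hO hw)
    (fun w hw hwz => S.O_fix_central hO hw hwz) hx hy
  exact S.O_fix hO h1 h2

/-- The commutators with `v` as a homomorphism. -/
noncomputable def bracket {v : G} (hv : v ∈ O) : O →* zpowers (S.f 24) :=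
  MonoidHom.mk' (fun y => ⟨(y : G) * v * (y : G)⁻¹ * v⁻¹, S.O_comm_a hO y.2 hv⟩) fun x y => by
    refine Subtype.ext ?_
    show (x : G) * y * v * ((x : G) * y)⁻¹ * v⁻¹ = (x : G) * v * (x : G)⁻¹ * v⁻¹ * ((y : G) * v * (y : G)⁻¹ * v⁻¹)
    obtain ⟨k, hk⟩ := mem_zpowers_iff.1 (S.O_comm_a hO y.2 hv)
    obtain ⟨l, hl⟩ := mem_zpowers_iff.1 (S.O_comm_a hO x.2 hv)
    rw [show (x : G) * y * v * ((x : G) * y)⁻¹ * v⁻¹ =
      x * ((y : G) * v * (y : G)⁻¹ * v⁻¹) * (x : G)⁻¹ * ((x : G) * v * (x : G)⁻¹ * v⁻¹) by group, ← hk, ← hl,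
      conj_eq_of_commute ((S.O_a hO x.2).zpow_right k), ((Commute.refl (S.f 24)).zpow_zpow k l).eq]

theorem bracket_ker {v : G} (hv : v ∈ O) {y : O} (h : y ∈ (S.bracket hO hv).ker) : Commute (y : G) v :=
  commute_of_conj_eq (mul_inv_eq_one.1 (congrArg Subtype.val (MonoidHom.mem_ker.1 h)))

theorem bracket_card {v : G} (hv : v ∈ O) (K : Subgroup O) :
    Nat.card K ∣ Nat.card ↥(K ⊓ (S.bracket hO hv).ker) * 3 := by
  have h := Subgroup.card_mul_index ((S.bracket hO hv).comp K.subtype).ker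
  rw [Subgroup.index_ker] at h
  have hd : Nat.card ((S.bracket hO hv).comp K.subtype).range ∣ 3 := by
    refine (Subgroup.card_subgroup_dvd_card _).trans ?_
    rw [Nat.card_zpowers]
    exact orderOf_dvd_of_pow_eq_one (S.E_cube S.a_mem)
  have he : Nat.card ((S.bracket hO hv).comp K.subtype).ker = Nat.card ↥(K ⊓ (S.bracket hO hv).ker) := by
    rw [show ((S.bracket hO hv).comp K.subtype).ker = (S.bracket hO hv).ker.subgroupOf K from rfl,
      ← inf_subgroupOf_left]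
    exact Nat.card_congr (subgroupOfEquivOfLe (inf_le_left : K ⊓ (S.bracket hO hv).ker ≤ K)).toEquiv
  rw [← h, he]
  exact Nat.mul_dvd_mul_left _ hd

theorem card_O : Nat.card O =
    Nat.card ↥(O ⊓ centralizer ({z} : Set G)) * Nat.card {x : G // x ∈ O ∧ Inverted z x} :=
  Tools.card_fixed_inverted hO.odd S.z_sq fun w hw => S.z_conj_O hO hw

theorem card_F : Nat.card ↥(O ⊓ centralizer ({z} : Set G)) ∣ 3 := by
  have hle : O ⊓ centralizer ({z} : Set G) ≤ zpowers (S.f 24) := fun x hx =>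
    S.O_fix hO hx.1 (mem_cent.1 hx.2)
  refine (card_dvd_of_le hle).trans ?_
  rw [Nat.card_zpowers]
  exact orderOf_dvd_of_pow_eq_one (S.E_cube S.a_mem)

theorem card_OJ : Nat.card ↥(O ⊓ S.J) ≤ Nat.card ↥(O ⊓ centralizer ({z} : Set G)) * 9 := by
  rw [Tools.card_fixed_inverted (D := O ⊓ S.J) (hO.odd.of_dvd_nat (card_dvd_of_le inf_le_left)) S.z_sq
    fun w hw => ⟨S.z_conj_O hO hw.1, S.z_conj_J hw.2⟩]
  refine Nat.mul_le_mul (card_le_of_le (inf_le_inf_right _ inf_le_left)) ?_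
  rw [← S.card_inverted_J hp1]
  exact Nat.card_le_card_of_injective (fun x => ⟨x.1, x.2.1.2, x.2.2⟩)
    fun a b e => Subtype.ext (congrArg Subtype.val e :)

omit hO in
theorem exists_other {v : G} (hv : v ∈ S.IJ) : ∃ u ∈ S.IJ, u ∉ zpowers v := by
  by_contra hno
  push Not at hno
  have h := card_le_of_le (show S.IJ ≤ zpowers v from hno)
  rw [S.card_IJ, Nat.card_zpowers] at h
  have := Nat.le_of_dvd (by norm_num) (orderOf_dvd_of_pow_eq_one (S.J_cube hp1 (S.mem_IJ.1 hv).1))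
  omega

omit hO in
theorem mem_J_of_two {y v u : G} (ha : Commute y (S.f 24)) (hv : v ∈ S.IJ) (hv1 : v ≠ 1) (hu : u ∈ S.IJ)
    (huv : u ∉ zpowers v) (hyv : Commute y v) (hyu : Commute y u) : y ∈ S.J := by
  haveI : Fact (Nat.Prime 3) := ⟨Nat.prime_three⟩
  refine S.cent_J0 ha fun w hw => ?_
  have hle : zpowers v ⊔ zpowers u ≤ S.IJ := sup_le (zpowers_le.2 hv) (zpowers_le.2 hu)
  have h2 := two_mul_card_le (le_sup_left : zpowers v ≤ zpowers v ⊔ zpowers u)
    (mem_sup_right (mem_zpowers u)) huv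
  rw [Nat.card_zpowers, orderOf_eq_prime_iff.2 ⟨S.J_cube hp1 (S.mem_IJ.1 hv).1, hv1⟩] at h2
  have hd : Nat.card ↥(zpowers v ⊔ zpowers u) ∣ 3 ^ 2 := by
    have := card_dvd_of_le hle
    rwa [S.card_IJ] at this
  obtain ⟨k, hk, e⟩ := (Nat.dvd_prime_pow Nat.prime_three).1 hd
  rw [e] at h2
  have h9 : Nat.card S.IJ ≤ Nat.card ↥(zpowers v ⊔ zpowers u) := by
    rw [S.card_IJ, e]
    interval_cases k <;> omega
  have hw' : w ∈ zpowers v ⊔ zpowers u := (eq_of_le_of_card_ge hle h9).symm ▸ hw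
  exact (mem_cent.1 ((show zpowers v ⊔ zpowers u ≤ centralizer ({y} : Set G) from
    sup_le (zpowers_le.2 (mem_cent.2 hyv.symm)) (zpowers_le.2 (mem_cent.2 hyu.symm))) hw')).symm

/-- The order of `O` in terms of its intersection with `J`. -/
theorem card_O_dvd : Nat.card O ∣ Nat.card ↥(O ⊓ S.J) * 9 := by
  obtain ⟨v, hv, hv1⟩ : ∃ v ∈ S.IJ, v ≠ 1 := by
    by_contra hno
    push Not at hno
    have h := card_le_of_le (show S.IJ ≤ ⊥ from fun x hx => mem_bot.2 (hno x hx))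
    rw [S.card_IJ, card_bot] at h
    omega
  obtain ⟨u, hu, huv⟩ := S.exists_other hv
  set k1 := (S.bracket hO (S.IJ_le_O hO hv)).ker
  set k2 := (S.bracket hO (S.IJ_le_O hO hu)).ker
  have h1 := S.bracket_card hO (S.IJ_le_O hO hv) ⊤
  rw [top_inf_eq, card_top] at h1
  have h2 := S.bracket_card hO (S.IJ_le_O hO hu) k1
  have hle : k1 ⊓ k2 ≤ (O ⊓ S.J).subgroupOf O := fun y hy =>
    mem_subgroupOf.2 ⟨y.2, S.mem_J_of_two (S.O_a hO y.2) hv hv1 hu huv
      (S.bracket_ker hO _ hy.1) (S.bracket_ker hO _ hy.2)⟩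
  have h3 : Nat.card ↥(k1 ⊓ k2) ∣ Nat.card ↥(O ⊓ S.J) := by
    rw [← Nat.card_congr (subgroupOfEquivOfLe (inf_le_left : O ⊓ S.J ≤ O)).toEquiv]
    exact card_dvd_of_le hle
  refine h1.trans ?_
  rw [show 9 = 3 * 3 from rfl, ← mul_assoc]
  exact Nat.mul_dvd_mul_right (h2.trans (Nat.mul_dvd_mul_right h3 3)) 3

theorem card_O_three : ∃ k, Nat.card O = 3 ^ k := by
  have hJ : Nat.card ↥(O ⊓ S.J) ∣ 81 := S.card_J hp1 ▸ card_dvd_of_le inf_le_right
  obtain ⟨k, -, hk⟩ := (Nat.dvd_prime_pow Nat.prime_three).1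
    (show Nat.card O ∣ 3 ^ 6 from (S.card_O_dvd hO).trans (Nat.mul_dvd_mul_right hJ 9))
  exact ⟨k, hk⟩

/-- There are 81 inverted elements in `O`. -/
theorem card_inverted_O : Nat.card {x : G // x ∈ O ∧ Inverted z x} = 81 := by
  classical
  haveI := Fintype.ofFinite G
  obtain ⟨k, hk⟩ := S.card_O_three hO
  have hFI := S.card_O hO
  set I := Nat.card {x : G // x ∈ O ∧ Inverted z x} with hIdef
  have hF := S.card_F hO
  have hFpos : 0 < Nat.card ↥(O ⊓ centralizer ({z} : Set G)) := Nat.card_pos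
  have hI3 : ∃ j, I = 3 ^ j := by
    obtain ⟨j, -, hj⟩ := (Nat.dvd_prime_pow Nat.prime_three).1 (show I ∣ 3 ^ k from hk ▸ ⟨_, hFI.trans (mul_comm _ _)⟩)
    exact ⟨j, hj⟩
  have h9 : 9 ≤ I := by
    rw [← S.card_inverted_J hp1]
    exact Nat.card_le_card_of_injective (fun x => ⟨x.1, S.IJ_le_O hO (S.mem_IJ.2 x.2), x.2.2⟩)
      fun a b e => Subtype.ext (congrArg Subtype.val e :)
  have h81 : I ≤ 81 := by
    have h1 := Nat.le_of_dvd (Nat.mul_pos Nat.card_pos (by norm_num)) (S.card_O_dvd hO)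
    have h2 := Nat.mul_le_mul_right 9 (S.card_OJ hO)
    have h3 : Nat.card ↥(O ⊓ centralizer ({z} : Set G)) * I ≤
        Nat.card ↥(O ⊓ centralizer ({z} : Set G)) * 81 := by
      rw [← hFI]; omega
    exact Nat.le_of_mul_le_mul_left h3 hFpos
  obtain ⟨j, hj⟩ := hI3
  have hj' : j = 2 ∨ j = 3 ∨ j = 4 := by
    rw [hj] at h9 h81
    have : j ≤ 4 := by
      by_contra hgt
      have := Nat.pow_le_pow_right (by norm_num : 0 < 3) (show 5 ≤ j by omega)
      omega
    interval_cases j <;> omega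
  rcases hj' with rfl | rfl | rfl
  · -- only the inverted elements of `J`
    exfalso
    obtain ⟨h, hh, hh'⟩ := any_range move_b_check
    simp only [Bool.and_eq_true, Bool.not_eq_true'] at hh'
    have hha : Commute (S.f h) (S.f 24) := (S.cm2_iff hh (by norm_num)).1 hh'.1
    let F : {x : G // x ∈ S.J ∧ Inverted z x} → {x : G // x ∈ O ∧ Inverted z x} :=
      fun x => ⟨x.1, S.IJ_le_O hO (S.mem_IJ.2 x.2), x.2.2⟩
    have hF' : Function.Bijective F := Function.Injective.bijective_of_nat_card_le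
      (fun a b e => Subtype.ext (congrArg Subtype.val e :)) (by rw [← hIdef, S.card_inverted_J hp1, hj]; norm_num)
    have hsub : ∀ x ∈ O, Inverted z x → x ∈ S.IJ := fun x hx hi => by
      obtain ⟨⟨y, hy⟩, e⟩ := hF'.2 ⟨x, hx, hi⟩
      obtain rfl : y = x := congrArg Subtype.val e
      exact S.mem_IJ.2 hy
    have hmem : S.f h * S.f 1 * (S.f h)⁻¹ ∈ S.J := by
      refine S.cent_J0 ?_ fun v hv => ?_
      · have := commute_conj (g := S.f h) (S.E_comm S.b_mem S.a_mem)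
        rwa [conj_eq_of_commute hha] at this
      · have hzh : z * S.f h * z⁻¹ = S.f h := conj_eq_of_commute (S.f_comm h).symm
        have hw : (S.f h)⁻¹ * v * S.f h ∈ S.IJ := by
          refine hsub _ ?_ ?_
          · have := hO.norm _ hha.inv_left v (S.IJ_le_O hO hv)
            rwa [inv_inv] at this
          · show z * ((S.f h)⁻¹ * v * S.f h) * z⁻¹ = _
            rw [show z * ((S.f h)⁻¹ * v * S.f h) * z⁻¹ =
              (z * S.f h * z⁻¹)⁻¹ * (z * v * z⁻¹) * (z * S.f h * z⁻¹) by group, hzh, (S.mem_IJ.1 hv).2]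
            group
        have := commute_conj (g := S.f h) (S.J_comm hp1 (S.E_le_J S.b_mem) (S.mem_IJ.1 hw).1)
        rwa [show S.f h * ((S.f h)⁻¹ * v * S.f h) * (S.f h)⁻¹ = v by group] at this
    have hE : S.f h * S.f 1 * (S.f h)⁻¹ ∈ S.E := S.J_cent_z hmem
      (((S.f_comm h).mul_left (S.f_comm 1)).mul_left (S.f_comm h).inv_left)
    obtain ⟨v, hv, ev⟩ := hE
    rw [S.code_of_conj hh (by norm_num) (e9_lt v hv) ev.symm, memb_iff.2 hv] at hh'
    exact Bool.noConfusion hh'.2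
  · -- a fixed-point-free square on 26 points would be odd
    exfalso
    obtain ⟨n, hn, hn'⟩ := any_range (show ((List.range 1152).any fun n =>
      cm2 n 24 && Nat.beq (mul n n) 12) = true by decide +kernel)
    simp only [Bool.and_eq_true] at hn'
    have hna : Commute (S.f n) (S.f 24) := (S.cm2_iff hn (by norm_num)).1 hn'.1
    have hn2 : S.f n * S.f n = z :=
      (S.f_mul n hn n hn).symm.trans ((congrArg S.f (Nat.eq_of_beq_eq_true hn'.2)).trans S.f_z)
    let α := {x : {x : G // x ∈ O ∧ Inverted z x} // x.1 ≠ 1}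
    have hα : Nat.card α = 26 := by
      have h1 : Nat.card {x : {x : G // x ∈ O ∧ Inverted z x} // ¬ x = ⟨1, one_mem O, by simp [Inverted]⟩} = 26 := by
        rw [Nat.card_eq_fintype_card, Fintype.card_subtype_compl, Fintype.card_subtype_eq,
          ← Nat.card_eq_fintype_card, ← hIdef, hj]
        norm_num
      rw [← h1]
      exact Nat.card_congr (Equiv.subtypeEquivRight fun x =>
        ⟨fun h e => h (congrArg Subtype.val e), fun h e => h (Subtype.ext e)⟩)
    have hconj : ∀ m, Commute m (S.f 24) → Commute m z → ∀ x, x ∈ O ∧ Inverted z x →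
        m * x * m⁻¹ ∈ O ∧ Inverted z (m * x * m⁻¹) := by
      intro m hma hmz x hx
      refine ⟨hO.norm m hma x hx.1, ?_⟩
      show z * (m * x * m⁻¹) * z⁻¹ = _
      rw [show z * (m * x * m⁻¹) * z⁻¹ = (z * m * z⁻¹) * (z * x * z⁻¹) * (z * m * z⁻¹)⁻¹ by group, hx.2,
        conj_eq_of_commute hmz.symm]
      group
    have hnz := S.f_comm n
    let p : Equiv.Perm α :=
      { toFun := fun x => ⟨⟨S.f n * x.1.1 * (S.f n)⁻¹, hconj _ hna hnz _ x.1.2⟩,
          fun e => x.2 (conj_eq_one_iff.1 e)⟩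
        invFun := fun x => ⟨⟨(S.f n)⁻¹ * x.1.1 * S.f n, by
            simpa using hconj _ hna.inv_left hnz.inv_left _ x.1.2⟩,
          fun e => x.2 (by
            have := congrArg (fun w => S.f n * w * (S.f n)⁻¹) e
            simpa [mul_assoc] using this)⟩
        left_inv := fun x => by apply Subtype.ext; apply Subtype.ext; simp [mul_assoc]
        right_inv := fun x => by apply Subtype.ext; apply Subtype.ext; simp [mul_assoc] }
    have hp2val : ∀ x, ((p * p) x).1.1 = (x.1.1)⁻¹ := fun x => by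
      show S.f n * (S.f n * x.1.1 * (S.f n)⁻¹) * (S.f n)⁻¹ = _
      rw [show S.f n * (S.f n * x.1.1 * (S.f n)⁻¹) * (S.f n)⁻¹ = (S.f n * S.f n) * x.1.1 * (S.f n * S.f n)⁻¹ by group,
        hn2]
      exact x.1.2.2
    have hsq : (p * p) ^ 2 = 1 := by
      ext x
      show (((p * p) ((p * p) x))).1.1 = x.1.1
      rw [hp2val, hp2val, inv_inv]
    have hfix : Fintype.card (Function.fixedPoints (p * p)) = 0 := by
      refine Fintype.card_eq_zero_iff.2 ⟨fun ⟨x, hx⟩ => x.2 ?_⟩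
      have e : (x.1.1)⁻¹ = x.1.1 := (hp2val x).symm.trans (congrArg (fun y => y.1.1) hx)
      exact Tools.eq_one_of_coprime (by rw [pow_two]; exact mul_eq_one_iff_eq_inv.2 e.symm : x.1.1 ^ 2 = 1)
        (pow_orderOf_eq_one _) (Nat.coprime_two_left.2 (S.O_odd hO x.1.2.1))
    have hs := Equiv.Perm.sign_of_pow_two_eq_one hsq
    rw [hfix, ← Nat.card_eq_fintype_card, hα, map_mul, Int.units_mul_self] at hs
    exact absurd hs (by decide)
  · rw [hj]; norm_num

omit hO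

theorem inv_a_count : Nat.card {x : G // Odd (orderOf x) ∧ Inverted z x ∧ Commute x (S.f 24)} = 81 := by
  obtain ⟨O, hO⟩ := S.exists_O
  rw [← S.card_inverted_O hO]
  exact Nat.card_congr (Equiv.subtypeEquivRight fun x => ⟨fun h => ⟨S.inverted_mem_O hO h.1 h.2.1 h.2.2, h.2.1⟩,
    fun h => ⟨S.O_odd hO h.1, h.2, S.O_a hO h.1⟩⟩)

/-- The involutions of `C(a)` correspond to the inverted elements. -/
theorem card_invol_a : Nat.card {t : G // orderOf t = 2 ∧ Commute t (S.f 24)} = 81 := by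
  obtain ⟨O, hO⟩ := S.exists_O
  rw [← S.card_inverted_O hO]
  refine Nat.card_congr
    { toFun := fun t => ⟨z * t.1, ?_⟩
      invFun := fun x => ⟨z * x.1, ?_⟩
      left_inv := fun t => Subtype.ext (by show z * (z * t.1) = t.1; rw [← mul_assoc, S.z_sq, one_mul])
      right_inv := fun x => Subtype.ext (by show z * (z * x.1) = x.1; rw [← mul_assoc, S.z_sq, one_mul]) }
  · obtain ⟨g, hg, e⟩ := hO.conj t.1 t.2.1 t.2.2
    have hb := conj_back e
    have hm := hO.comm g⁻¹ hg.inv_left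
    rw [show z * g⁻¹ * z⁻¹ * g⁻¹⁻¹ = z * (g⁻¹ * z⁻¹ * g) by group, S.z_inv, hb] at hm
    refine ⟨hm, ?_⟩
    show z * (z * t.1) * z⁻¹ = (z * t.1)⁻¹
    rw [S.z_inv, ← mul_assoc, S.z_sq, one_mul, mul_inv_rev, S.z_inv,
      inv_eq_of_mul_eq_one_right (sq_of_orderOf t.2.1)]
  · have hx := x.2
    refine ⟨orderOf_of_sq ?_ ?_, (S.f_comm 24).symm.mul_left (S.O_a hO hx.1)⟩
    · rw [show z * x.1 * (z * x.1) = z * x.1 * z⁻¹ * (z * z) * x.1 by group, S.z_sq, mul_one, hx.2,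
        inv_mul_cancel]
    · intro e
      have e' : x.1 = z := by rw [eq_inv_of_mul_eq_one_right e, S.z_inv]
      have := S.O_odd hO hx.1
      rw [e', S.orderOf_z] at this
      exact absurd this (by decide)

theorem card_cent_a : Nat.card (centralizer ({S.f 24} : Set G)) = 5832 := by
  obtain ⟨O, hO⟩ := S.exists_O
  have h := Tools.card_class (centralizer ({S.f 24} : Set G)) z
  have h1 : Nat.card ↥(centralizer ({S.f 24} : Set G) ⊓ centralizer ({z} : Set G)) = 72 := by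
    let φ : {n // n ∈ (List.range 1152).filter fun q => cm2 q 24} →
        ↥(centralizer ({S.f 24} : Set G) ⊓ centralizer ({z} : Set G)) := fun n =>
      ⟨S.f n.1, mem_cent.2 ((S.cm2_iff (List.mem_range.1 (List.mem_filter.1 n.2).1) (by norm_num)).1
        (List.mem_filter.1 n.2).2), mem_cent.2 (S.f_comm n.1)⟩
    have hb : Function.Bijective φ := by
      refine ⟨fun a b e => Subtype.ext (S.f_inj _ (List.mem_range.1 (List.mem_filter.1 a.2).1) _
        (List.mem_range.1 (List.mem_filter.1 b.2).1) (congrArg Subtype.val e)), ?_⟩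
      rintro ⟨g, hg2, hg1⟩
      obtain ⟨n, hn, rfl⟩ := S.f_surj g (mem_cent.1 hg1)
      exact ⟨⟨n, List.mem_filter.2 ⟨List.mem_range.2 hn, (S.cm2_iff hn (by norm_num)).2 (mem_cent.1 hg2)⟩⟩, rfl⟩
    rw [← Nat.card_eq_of_bijective φ hb, Nat.card_eq_fintype_card, Fintype.card_of_subtype
      ((List.range 1152).filter fun q => cm2 q 24).toFinset (fun n => List.mem_toFinset),
      List.toFinset_card_of_nodup (List.nodup_range.filter _)]
    decide +kernel
  have h2 : Nat.card {t : G // ∃ k ∈ centralizer ({S.f 24} : Set G), k * z * k⁻¹ = t} = 81 := by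
    rw [← S.card_invol_a]
    refine Nat.card_congr (Equiv.subtypeEquivRight fun t => ⟨?_, fun ht => ?_⟩)
    · rintro ⟨k, hk, rfl⟩
      refine ⟨by rw [Tools.orderOf_conj, S.orderOf_z], ?_⟩
      exact ((mem_cent.1 hk).mul_left (S.f_comm 24).symm).mul_left (mem_cent.1 hk).inv_left
    · obtain ⟨g, hg, e⟩ := hO.conj t ht.1 ht.2
      exact ⟨g⁻¹, mem_cent.2 hg.inv_left, by rw [inv_inv]; exact conj_back e⟩
  rw [h1, h2] at h
  exact h.symm

include S in
theorem dvd_card : 729 ∣ Nat.card G :=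
  (show 729 ∣ Nat.card (centralizer ({S.f 24} : Set G)) by rw [S.card_cent_a]; norm_num).trans
    (Subgroup.card_subgroup_dvd_card _)

/-- No involution inverts `a`. -/
theorem not_inverted_a {t : G} (ht : orderOf t = 2) : t * S.f 24 * t⁻¹ ≠ (S.f 24)⁻¹ := by
  classical
  haveI := Fintype.ofFinite G
  intro hta
  obtain ⟨O, hO⟩ := S.exists_O
  have hti : t⁻¹ = t := inv_eq_of_mul_eq_one_right (sq_of_orderOf ht)
  let β := {w : G // orderOf w = 2 ∧ Commute w (S.f 24)}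
  let f : Function.End β := fun w => ⟨t * w.1 * t⁻¹, by
    refine ⟨by rw [Tools.orderOf_conj]; exact w.2.1, ?_⟩
    have := commute_conj (g := t) w.2.2
    rw [hta] at this
    exact Commute.inv_right_iff.1 this⟩
  have hf : f ^ 2 ^ 1 = 1 := by
    funext w
    apply Subtype.ext
    show t * (t * w.1 * t⁻¹) * t⁻¹ = w.1
    rw [show t * (t * w.1 * t⁻¹) * t⁻¹ = t * t * w.1 * (t * t)⁻¹ by group, sq_of_orderOf ht]
    group
  have h := Equiv.Perm.card_fixedPoints_modEq hf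
  rw [show Fintype.card β = 81 by rw [← Nat.card_eq_fintype_card]; exact S.card_invol_a] at h
  have hpos : 0 < Fintype.card (Function.fixedPoints f) := by
    rcases Nat.eq_zero_or_pos (Fintype.card (Function.fixedPoints f)) with h0 | h0
    · rw [h0] at h; exact absurd h (by decide)
    · exact h0
  obtain ⟨⟨⟨w, hw2, hwa⟩, hw⟩⟩ := Fintype.card_pos_iff.1 hpos
  have htw : Commute t w := commute_of_conj_eq (congrArg Subtype.val hw)
  obtain ⟨k, hk, e⟩ := hO.conj w hw2 hwa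
  have hkz : Commute (k * t * k⁻¹) z := e ▸ commute_conj (g := k) htw
  obtain ⟨n, hn, en⟩ := S.f_surj _ hkz
  have hinv : S.f n * S.f 24 * (S.f n)⁻¹ = (S.f 24)⁻¹ := by
    rw [en, show k * t * k⁻¹ * S.f 24 * (k * t * k⁻¹)⁻¹ = k * (t * (k⁻¹ * S.f 24 * k) * t⁻¹) * k⁻¹ by group,
      show k⁻¹ * S.f 24 * k = S.f 24 by rw [mul_assoc, ← hk.eq, inv_mul_cancel_left], hta,
      conj_eq_of_commute hk.inv_right]
  have := all_range inv_a_check hn
  rw [(S.isInv_iff hn).2 (by rw [en, Tools.orderOf_conj, ht]), Bool.not_true, Bool.false_or,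
    beq_true (S.code_of_conj hn (by norm_num) (inv_lt (by norm_num)) (by rw [S.f_inv (by norm_num)]; exact hinv))] at this
  exact Bool.noConfusion this

end Setup

end Cfsg.Agent.Lib.U43Type85
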