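import Cfsg.Agent.Lib.U43Type85.CentM

/-!
# U4(3) type: the centraliser of `c` has order 972

The involutions of a subgroup of `C(c)` containing `z`, `σ`, `g` form one class.  In `N(J) ∩ C(c)` there are
at most 117, so this group is `M`; a coset of `M` in `C(c)` other than `M` contains at most 26.

Owner: helper85.
-/

set_option autoImplicit false

namespace Cfsg.Agent.Lib.U43Type85

open Subgroup Tools

namespace Setup

variable {G : Type*} [Group G] {z : G} (S : Setup z) {c s d : ℕ} (hp : IsPrm c s d)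

/-- The involutions of a subgroup. -/
noncomputable def invCount (H : Subgroup G) : ℕ := Nat.card {t : G // t ∈ H ∧ orderOf t = 2}

include hp

theorem card_cc [Finite G] :
    Nat.card ↥(centralizer ({S.f c} : Set G) ⊓ centralizer ({z} : Set G)) = 36 := by
  obtain ⟨hc, -, -⟩ := hp.lt
  let φ : {n // n ∈ (List.range 1152).filter fun q => cm2 q c} →
      ↥(centralizer ({S.f c} : Set G) ⊓ centralizer ({z} : Set G)) := fun n =>
    ⟨S.f n.1, mem_cent.2 ((S.cm2_iff (List.mem_range.1 (List.mem_filter.1 n.2).1) hc).1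
      (List.mem_filter.1 n.2).2), mem_cent.2 (S.f_comm n.1)⟩
  have hb : Function.Bijective φ := by
    refine ⟨fun a b e => Subtype.ext (S.f_inj _ (List.mem_range.1 (List.mem_filter.1 a.2).1) _
      (List.mem_range.1 (List.mem_filter.1 b.2).1) (congrArg Subtype.val e)), ?_⟩
    rintro ⟨g, hg2, hg1⟩
    obtain ⟨n, hn, rfl⟩ := S.f_surj g (mem_cent.1 hg1)
    exact ⟨⟨n, List.mem_filter.2 ⟨List.mem_range.2 hn, (S.cm2_iff hn hc).2 (mem_cent.1 hg2)⟩⟩, rfl⟩
  rw [← Nat.card_eq_of_bijective φ hb]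
  have h := hp.cent
  simp only [centC, Bool.and_eq_true] at h
  rw [Nat.card_eq_fintype_card, Fintype.card_of_subtype
    ((List.range 1152).filter fun q => cm2 q c).toFinset (fun n => List.mem_toFinset),
    List.toFinset_card_of_nodup (List.nodup_range.filter _), Nat.eq_of_beq_eq_true h.2]

/-- `C(z) ∩ C(c)` lies in `J ⟨z, σ⟩`. -/
theorem cc_le_L [Finite G] {x : G} (hz : Commute x z) (hc : Commute x (S.f c)) : x ∈ S.L s := by
  obtain ⟨e, he, w, hw, rfl⟩ := S.cent_c_code hp hz hc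
  exact mul_mem (S.L_mem_J (S.E_le_J he) s) (S.W_mem_L hp hw)

/-- The involutions of a subgroup of `C(c)` containing `z` and the three-cycle are conjugate to `z` there. -/
theorem invol_conj [Finite G] {g : G} (hg : S.Cyc c s g) {H : Subgroup G}
    (hH : H ≤ centralizer ({S.f c} : Set G)) (hz : z ∈ H) (hgH : g ∈ H) {t : G} (ht : t ∈ H)
    (h2 : orderOf t = 2) : ∃ k ∈ H, k * z * k⁻¹ = t := by
  haveI : Fact (Nat.Prime 2) := ⟨Nat.prime_two⟩
  have hsH : S.f s ∈ H := hg.g1 ▸ mul_mem (mul_mem hgH hz) (inv_mem hgH)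
  set V := zpowers z ⊔ zpowers (S.f s)
  have hV : IsPGroup 2 V := by
    refine IsPGroup.to_sup_of_normal_right' (Tools.isPGroup_zpowers (k := 1) (by rw [pow_one, sq, S.z_sq]))
      (Tools.isPGroup_zpowers (k := 1) (by rw [pow_one, sq, sq_of_orderOf (S.basics hp).2.2.1])) ?_
    rw [zpowers_le]
    refine Tools.mem_normalizer_of fun b hb => ?_
    obtain ⟨j, rfl⟩ := mem_zpowers_iff.1 hb
    rw [((S.f_comm s).symm.zpow_right j).eq, mul_inv_cancel_right]
    exact hb
  obtain ⟨P, hVP, hPH, hP, -, hconj⟩ :=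
    sylow_in 2 (H := H) (A := V) (sup_le (zpowers_le.2 hz) (zpowers_le.2 hsH)) hV
  have hPW := S.two_sylow hp hP (hPH.trans hH) (hVP (mem_sup_left (mem_zpowers z)))
    (hVP (mem_sup_right (mem_zpowers _)))
  obtain ⟨k, hk, hk'⟩ := hconj (zpowers t) (zpowers_le.2 ht)
    (Tools.isPGroup_zpowers (k := 1) (by rw [pow_one, sq, sq_of_orderOf h2]))
  have hw := hPW _ (hk' t (mem_zpowers t))
  have key : ∀ q ∈ H, q * z * q⁻¹ = k * t * k⁻¹ → ∃ k ∈ H, k * z * k⁻¹ = t := fun q hq e =>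
    ⟨k⁻¹ * q, mul_mem (inv_mem hk) hq, by
      rw [show k⁻¹ * q * z * (k⁻¹ * q)⁻¹ = k⁻¹ * (q * z * q⁻¹) * k by group, e]; group⟩
  rcases hw with e | e | e | e
  · have h1 := conj_eq_one_iff.1 e
    rw [h1, orderOf_one] at h2
    norm_num at h2
  · exact key 1 (one_mem _) (by rw [e]; group)
  · exact key g hgH (by rw [e, hg.g1])
  · exact key (g * g) (mul_mem hgH hgH) (by
      rw [Set.mem_singleton_iff.1 e, show g * g * z * (g * g)⁻¹ = g * (g * z * g⁻¹) * g⁻¹ by group, hg.g1, hg.g2])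

theorem card_invCount [Finite G] {g : G} (hg : S.Cyc c s g) {H : Subgroup G}
    (hH : H ≤ centralizer ({S.f c} : Set G)) (hM : S.M s g ≤ H) :
    invCount H * 36 = Nat.card H := by
  have hz : z ∈ H := hM (S.M_mem_L (S.L_z s) g)
  have hgH : g ∈ H := hM (mem_sup_right (mem_zpowers g))
  have h1 : H ⊓ centralizer ({z} : Set G) = centralizer ({S.f c} : Set G) ⊓ centralizer ({z} : Set G) :=
    le_antisymm (inf_le_inf_right _ hH) fun x hx =>
      ⟨hM (S.M_mem_L (S.cc_le_L hp (mem_cent.1 hx.2) (mem_cent.1 hx.1)) g), hx.2⟩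
  have h2 := Tools.card_class H z
  rw [h1, S.card_cc hp] at h2
  rw [← h2]
  congr 1
  refine Nat.card_congr (Equiv.subtypeEquivRight fun t => ⟨fun h => S.invol_conj hp hg hH hz hgH h.1 h.2, ?_⟩)
  rintro ⟨k, hk, rfl⟩
  exact ⟨mul_mem (mul_mem hk hz) (inv_mem hk), by rw [Tools.orderOf_conj, S.orderOf_z]⟩

/-- Nine elements of `J` are inverted. -/
theorem card_inverted_J [Finite G] : Nat.card {x : G // x ∈ S.J ∧ Inverted z x} = 9 := by
  have h := (Goldschmidt53.RankTwoBad.symSet_subgroup S.J S.odd_J).ncard_eq (MulAut.conj z)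
    (fun x hx => S.z_conj_J hx) (fun x _ => by
      show z * (z * x * z⁻¹) * z⁻¹ = x
      rw [show z * (z * x * z⁻¹) * z⁻¹ = z * z * x * (z * z)⁻¹ by group, S.z_sq]; group)
  rw [Goldschmidt53.RankTwoBad.fixed_eq_centralizer, ← Nat.card_coe_set_eq, ← Nat.card_coe_set_eq,
    ← Nat.card_coe_set_eq] at h
  change Nat.card S.J = Nat.card ↥(S.J ⊓ centralizer ({z} : Set G)) * Nat.card {x : G // x ∈ S.J ∧ Inverted z x} at h
  rw [S.inf_z hp, S.card_E, S.card_J hp] at h
  omega

/-- The normaliser of `J` in `C(c)` has at most 117 involutions. -/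
theorem invCount_le [Finite G] {g : G} (hg : S.Cyc c s g) :
    invCount (normalizer (S.J : Set G) ⊓ centralizer ({S.f c} : Set G)) ≤ 117 := by
  classical
  haveI := Fintype.ofFinite G
  set N := normalizer (S.J : Set G) ⊓ centralizer ({S.f c} : Set G) with hN
  obtain ⟨hc3, hc1, -, -⟩ := S.basics hp
  have hzN : z ∈ N := S.M_le_N hp hg (S.M_mem_L (S.L_z s) g)
  have hgN : g ∈ N := S.M_le_N hp hg (mem_sup_right (mem_zpowers g))
  have hNc : N ≤ centralizer ({S.f c} : Set G) := inf_le_right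
  let T : Finset G := Finset.univ.filter fun t => t ∈ N ∧ orderOf t = 2
  let P : Finset G := Finset.univ.filter fun x => x ∈ S.J ∧ x ∉ zpowers (S.f c)
  have hT : invCount N = T.card := by
    rw [invCount, Nat.card_eq_fintype_card, Fintype.card_subtype]
  have hc3' : Nat.card (zpowers (S.f c)) = 3 := by
    haveI : Fact (Nat.Prime 3) := ⟨Nat.prime_three⟩
    rw [Nat.card_zpowers, orderOf_eq_prime_iff.2 ⟨hc3, hc1⟩]
  have hcount : ∀ K : Subgroup G, (Finset.univ.filter fun x => x ∈ K).card = Nat.card K := fun K => by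
    rw [Nat.card_eq_fintype_card]; exact (Fintype.card_subtype _).symm
  have hcJ : zpowers (S.f c) ≤ S.J := zpowers_le.2 (S.J_c hp)
  have hP : P.card = 78 := by
    have : P = (Finset.univ.filter fun x => x ∈ S.J) \ (Finset.univ.filter fun x => x ∈ zpowers (S.f c)) := by
      ext x; simp [P]
    rw [this, Finset.card_sdiff_of_subset (fun x hx => by
      simp only [Finset.mem_filter, Finset.mem_univ, true_and] at hx ⊢; exact hcJ hx), hcount, hcount,
      S.card_J hp, hc3']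
  have h9 : ∀ t ∈ T, ∃ k ∈ N, k * z * k⁻¹ = t ∧ Nat.card ↥(S.J ⊓ centralizer ({t} : Set G)) = 9 := by
    intro t ht
    obtain ⟨ht1, ht2⟩ := (Finset.mem_filter.1 ht).2
    obtain ⟨k, hk, rfl⟩ := S.invol_conj hp hg hNc hzN hgN ht1 ht2
    exact ⟨k, hk, rfl, by rw [S.card_inf_conj hp hk.1, S.inf_z hp, S.card_E]⟩
  have key := Finset.card_mul_le_card_mul (fun t x => Commute t x) (s := T) (t := P) (m := 6) (n := 9) ?_ ?_
  · rw [hP] at key; omega
  · intro t ht
    obtain ⟨k, -, -, e9⟩ := h9 t ht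
    set X := S.J ⊓ centralizer ({t} : Set G)
    have hcX : zpowers (S.f c) ≤ X :=
      zpowers_le.2 ⟨S.J_c hp, mem_cent.2 (mem_cent.1 ((Finset.mem_filter.1 ht).2.1.2)).symm⟩
    have hsub : (Finset.univ.filter fun x => x ∈ X) \ (Finset.univ.filter fun x => x ∈ zpowers (S.f c)) ⊆
        P.bipartiteAbove (fun t x => Commute t x) t := fun x hx => by
      simp only [Finset.mem_sdiff, Finset.mem_filter, Finset.mem_univ, true_and] at hx
      simp only [Finset.bipartiteAbove, Finset.mem_filter, Finset.mem_univ, true_and, P]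
      exact ⟨⟨hx.1.1, hx.2⟩, (mem_cent.1 hx.1.2).symm⟩
    refine le_trans (le_of_eq ?_) (Finset.card_le_card hsub)
    rw [Finset.card_sdiff_of_subset (fun x hx => by
      simp only [Finset.mem_filter, Finset.mem_univ, true_and] at hx ⊢; exact hcX hx), hcount, hcount, e9, hc3']
  · intro x hx
    obtain ⟨hxJ, hxc⟩ := (Finset.mem_filter.1 hx).2
    rcases (T.bipartiteBelow (fun t x => Commute t x) x).eq_empty_or_nonempty with h0 | ⟨t0, ht0⟩
    · rw [h0]; simp
    obtain ⟨ht0T, ht0x⟩ := Finset.mem_filter.1 ht0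
    obtain ⟨k, hk, ek, -⟩ := h9 t0 ht0T
    set Y := zpowers x ⊔ zpowers (S.f c)
    have hY : ∀ t ∈ T, Commute t x → S.J ⊓ centralizer ({t} : Set G) = Y := by
      intro t ht htx
      obtain ⟨-, -, -, e9⟩ := h9 t ht
      have hle : Y ≤ S.J ⊓ centralizer ({t} : Set G) := sup_le (zpowers_le.2 ⟨hxJ, mem_cent.2 htx.symm⟩)
        (zpowers_le.2 ⟨S.J_c hp, mem_cent.2 (mem_cent.1 ((Finset.mem_filter.1 ht).2.1.2)).symm⟩)
      refine (eq_of_le_of_card_ge hle ?_).symm
      have hd := card_dvd_of_le hle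
      have h2 := two_mul_card_le (le_sup_right : zpowers (S.f c) ≤ Y) (mem_sup_left (mem_zpowers x)) hxc
      rw [e9] at hd ⊢
      rw [hc3'] at h2
      obtain ⟨a, ha, e⟩ := (Nat.dvd_prime_pow Nat.prime_three).1 (show Nat.card Y ∣ 3 ^ 2 from hd)
      rw [e] at h2 ⊢
      interval_cases a <;> omega
    have hkN := hk.1
    let F : {t // t ∈ T.bipartiteBelow (fun t x => Commute t x) x} → {y : G // y ∈ S.J ∧ Inverted z y} := fun t => by
      refine ⟨k⁻¹ * t.1 * k * z, ?_⟩
      obtain ⟨htT, htx⟩ := Finset.mem_filter.1 t.2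
      have hE : ∀ e ∈ S.E, Commute (k⁻¹ * t.1 * k) e := fun e he => by
        have : k * e * k⁻¹ ∈ S.J ⊓ centralizer ({t.1} : Set G) := by
          rw [hY _ htT htx, ← hY _ ht0T ht0x]
          exact ⟨(mem_normalizer_iff.1 hkN e).1 (S.E_le_J he),
            mem_cent.2 (ek ▸ commute_conj (g := k) (S.E_z he))⟩
        have := commute_conj (g := k⁻¹) (mem_cent.1 this.2).symm
        rwa [inv_inv, show k⁻¹ * (k * e * k⁻¹) * k = e by group] at this
      have h2 : orderOf (k⁻¹ * t.1 * k) = 2 := by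
        rw [show k⁻¹ * t.1 * k = k⁻¹ * t.1 * k⁻¹⁻¹ by rw [inv_inv], Tools.orderOf_conj]
        exact (Finset.mem_filter.1 htT).2.2
      have hu : k⁻¹ * t.1 * k ∈ S.CE := S.mem_CE.2 ⟨hE _ S.a_mem, hE _ S.b_mem⟩
      have hmem : k⁻¹ * t.1 * k * z ∈ S.J := (S.CE_cases hu).resolve_left fun h => by
        have := (S.mem_J.1 h).2
        rw [h2] at this
        exact absurd this (by decide)
      refine ⟨hmem, ?_⟩
      show z * (k⁻¹ * t.1 * k * z) * z⁻¹ = (k⁻¹ * t.1 * k * z)⁻¹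
      rw [mul_inv_rev, inv_eq_of_mul_eq_one_right (sq_of_orderOf h2), S.z_inv, mul_assoc z, mul_assoc,
        S.z_sq, mul_one]
    have hF : Function.Injective F := fun a b e => Subtype.ext <| by
      have h : k⁻¹ * a.1 * k * z = k⁻¹ * b.1 * k * z := congrArg Subtype.val e
      exact mul_left_cancel (mul_right_cancel (mul_right_cancel h))
    have hle := Nat.card_le_card_of_injective F hF
    rwa [S.card_inverted_J hp, Nat.card_eq_fintype_card, Fintype.card_coe] at hle

/-- `N(J) ∩ C(c) = M`. -/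
theorem N_eq_M [Finite G] {g : G} (hg : S.Cyc c s g) :
    normalizer (S.J : Set G) ⊓ centralizer ({S.f c} : Set G) = S.M s g := by
  classical
  haveI : Fact (Nat.Prime 2) := ⟨Nat.prime_two⟩
  set N := normalizer (S.J : Set G) ⊓ centralizer ({S.f c} : Set G) with hN
  have hMN : S.M s g ≤ N := S.M_le_N hp hg
  obtain ⟨k, hk⟩ := card_dvd_of_le hMN
  rw [S.card_M hp hg] at hk
  have hT : invCount N * 36 = Nat.card N := S.card_invCount hp hg inf_le_right hMN
  have hle : invCount N ≤ 117 := S.invCount_le hp hg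
  rw [hk] at hT
  have hk4 : k ≤ 4 := by omega
  have hk8 : ¬ 8 ∣ Nat.card N := by
    intro h8
    have hzN : z ∈ N := hMN (S.M_mem_L (S.L_z s) g)
    have hsN : S.f s ∈ N := hMN (S.M_mem_L (S.L_s s) g)
    obtain ⟨P, hP⟩ := Sylow.exists_subgroup_card_pow_prime (G := N) 2 (n := 3) h8
    set V := zpowers z ⊔ zpowers (S.f s)
    have hV : IsPGroup 2 V := by
      refine IsPGroup.to_sup_of_normal_right' (Tools.isPGroup_zpowers (k := 1) (by rw [pow_one, sq, S.z_sq]))
        (Tools.isPGroup_zpowers (k := 1) (by rw [pow_one, sq, sq_of_orderOf (S.basics hp).2.2.1])) ?_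
      rw [zpowers_le]
      refine Tools.mem_normalizer_of fun b hb => ?_
      obtain ⟨j, rfl⟩ := mem_zpowers_iff.1 hb
      rw [((S.f_comm s).symm.zpow_right j).eq, mul_inv_cancel_right]
      exact hb
    obtain ⟨Q, hVQ, hQN, hQ, -, hconj⟩ :=
      sylow_in 2 (H := N) (A := V) (sup_le (zpowers_le.2 hzN) (zpowers_le.2 hsN)) hV
    obtain ⟨q, -, hq⟩ := hconj (P.map N.subtype) (map_subtype_le _) ((IsPGroup.of_card hP).map _)
    have hW := S.two_sylow hp hQ (hQN.trans inf_le_right) (hVQ (mem_sup_left (mem_zpowers z)))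
      (hVQ (mem_sup_right (mem_zpowers _)))
    have h8' : Nat.card ((P.map N.subtype).map (MulAut.conj q).toMonoidHom) = 8 := by
      rw [card_map_of_injective (MulAut.conj q).injective, card_map_of_injective (subtype_injective N), hP]
      norm_num
    have hsub : (((P.map N.subtype).map (MulAut.conj q).toMonoidHom : Subgroup G) : Set G) ⊆
        ({1, z, S.f s, S.f s * z} : Set G) := by
      rintro _ ⟨x, hx, rfl⟩
      exact hW _ (hq x hx)
    have := Set.ncard_le_ncard hsub (Set.toFinite _)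
    rw [← Nat.card_coe_set_eq] at this
    change Nat.card ((P.map N.subtype).map (MulAut.conj q).toMonoidHom) ≤ _ at this
    rw [h8'] at this
    have h4 := this.trans ((Set.ncard_insert_le _ _).trans (Nat.add_le_add_right ((Set.ncard_insert_le _ _).trans
      (Nat.add_le_add_right ((Set.ncard_insert_le _ _).trans (Nat.add_le_add_right (Set.ncard_singleton _).le 1)) 1)) 1))
    omega
  have hk1 : k = 1 := by
    have hk0 : k ≠ 0 := fun e => by rw [e, mul_zero] at hk; exact Nat.card_pos.ne' hk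
    have : k = 1 ∨ k = 3 := by
      have : k = 1 ∨ k = 2 ∨ k = 3 ∨ k = 4 := by omega
      rcases this with h | h | h | h
      · exact Or.inl h
      · exact absurd ⟨243, by rw [hk, h]⟩ hk8
      · exact Or.inr h
      · exact absurd ⟨486, by rw [hk, h]⟩ hk8
    refine this.resolve_right fun h3 => ?_
    subst h3
    -- all involutions would lie in `M`
    set K := (S.M s g).subgroupOf N
    have hidx : K.index = 3 := by
      have := card_mul_index K
      rw [Nat.card_congr (subgroupOfEquivOfLe hMN).toEquiv, S.card_M hp hg, hk] at this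
      omega
    haveI := Fintype.ofFinite (N ⧸ K)
    have hcard : Fintype.card (N ⧸ K) = 3 := by rw [← Nat.card_eq_fintype_card]; exact hidx
    let φ := MulAction.toPermHom N (N ⧸ K)
    let zN : N := ⟨z, hMN (S.M_mem_L (S.L_z s) g)⟩
    let sN : N := ⟨S.f s, hMN (S.M_mem_L (S.L_s s) g)⟩
    let gN : N := ⟨g, hMN (mem_sup_right (mem_zpowers g))⟩
    have e1 : gN * zN * gN⁻¹ = sN := Subtype.ext hg.g1
    have e2 : gN * sN * gN⁻¹ = sN * zN := Subtype.ext hg.g2
    have s1 : Equiv.Perm.sign (φ sN) = Equiv.Perm.sign (φ zN) := by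
      rw [← e1, map_mul, map_mul, map_mul, map_mul, map_inv, map_inv, mul_inv_cancel_comm]
    have s2 : Equiv.Perm.sign (φ (sN * zN)) = Equiv.Perm.sign (φ sN) := by
      rw [← e2, map_mul φ (gN * sN), map_mul φ gN, map_mul, map_mul, map_inv, map_inv, mul_inv_cancel_comm]
    have hsign : Equiv.Perm.sign (φ zN) = 1 := by
      rw [map_mul, map_mul, s1] at s2
      exact mul_eq_left.1 s2
    have hfix : φ zN (QuotientGroup.mk 1) = QuotientGroup.mk 1 := by
      show zN • ((1 : N) : N ⧸ K) = ((1 : N) : N ⧸ K)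
      rw [MulAction.Quotient.smul_coe, smul_eq_mul, mul_one]
      refine QuotientGroup.eq.2 ?_
      rw [mul_one]
      exact inv_mem (show zN ∈ K from S.M_mem_L (S.L_z s) g)
    have hker : φ zN = 1 := perm_three_eq_one hcard hfix hsign
    have hall : ∀ t, t ∈ N → orderOf t = 2 → t ∈ S.M s g := by
      intro t ht h2
      obtain ⟨q, hq, e⟩ := S.invol_conj hp hg (inf_le_right : N ≤ _) zN.2 gN.2 ht h2
      have hone : φ (⟨q, hq⟩ * zN * ⟨q, hq⟩⁻¹) = 1 := by rw [map_mul, map_mul, hker, mul_one, ← map_mul, mul_inv_cancel, map_one]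
      have h1 := Equiv.congr_fun hone (QuotientGroup.mk 1)
      have h1' : ((⟨q, hq⟩ * zN * ⟨q, hq⟩⁻¹ * 1 : N) : N ⧸ K) = ((1 : N) : N ⧸ K) := h1
      rw [mul_one] at h1'
      have h3 := QuotientGroup.eq.1 h1'.symm
      rw [inv_one, one_mul] at h3
      have h4 : ((⟨q, hq⟩ * zN * ⟨q, hq⟩⁻¹ : N) : G) ∈ S.M s g := h3
      rw [← e]; exact h4
    have heq : invCount N = invCount (S.M s g) := Nat.card_congr (Equiv.subtypeEquivRight fun t =>
      ⟨fun h => ⟨hall t h.1 h.2, h.2⟩, fun h => ⟨hMN h.1, h.2⟩⟩)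
    have hTM := S.card_invCount hp hg (hMN.trans inf_le_right) le_rfl
    rw [S.card_M hp hg, ← heq] at hTM
    omega
  subst hk1
  exact (eq_of_le_of_card_ge hMN (by rw [S.card_M hp hg, hk])).symm

/-- `C(c) = M`. -/
theorem C_eq_M [Finite G] {g : G} (hg : S.Cyc c s g) : centralizer ({S.f c} : Set G) = S.M s g := by
  classical
  haveI : Fact (Nat.Prime 3) := ⟨Nat.prime_three⟩
  haveI := Fintype.ofFinite G
  obtain ⟨hc3, hc1, -, -⟩ := S.basics hp
  set C := centralizer ({S.f c} : Set G)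
  set M := S.M s g with hMdef
  have hMC : M ≤ C := (S.M_le_N hp hg).trans inf_le_right
  obtain ⟨k, hk⟩ := card_dvd_of_le hMC
  have hM972 : Nat.card M = 972 := S.card_M hp hg
  rw [hM972] at hk
  have hTC := S.card_invCount hp hg (le_refl C) hMC
  have hTM := S.card_invCount hp hg hMC le_rfl
  rw [hk] at hTC
  rw [hM972] at hTM
  by_contra hne
  have hk2 : 2 ≤ k := by
    rcases Nat.lt_or_ge k 2 with h | h
    · exfalso
      have : k = 0 ∨ k = 1 := by omega
      rcases this with rfl | rfl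
      · exact Nat.card_pos.ne' (hk.trans (mul_zero _))
      · exact hne (eq_of_le_of_card_ge hMC (by rw [hM972, hk])).symm
    · exact h
  set K := M.subgroupOf C
  have hidx : K.index = k := by
    have := card_mul_index K
    rw [Nat.card_congr (subgroupOfEquivOfLe hMC).toEquiv, hM972, hk] at this
    omega
  haveI := Fintype.ofFinite (C ⧸ K)
  let T : Finset C := Finset.univ.filter fun t => orderOf (t : G) = 2 ∧ (t : G) ∉ M
  have hT : T.card + invCount M = invCount C := by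
    have hC : invCount C = (Finset.univ.filter fun t : G => t ∈ C ∧ orderOf t = 2).card := by
      rw [invCount, Nat.card_eq_fintype_card, Fintype.card_subtype]
    have hMc : invCount M = (Finset.univ.filter fun t : G => t ∈ M ∧ orderOf t = 2).card := by
      rw [invCount, Nat.card_eq_fintype_card, Fintype.card_subtype]
    have hTmap : T.map (Function.Embedding.subtype _) =
        (Finset.univ.filter fun t : G => t ∈ C ∧ orderOf t = 2) \
          (Finset.univ.filter fun t : G => t ∈ M ∧ orderOf t = 2) := by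
      ext t
      simp only [Finset.mem_map, Finset.mem_filter, Finset.mem_univ, true_and, Finset.mem_sdiff, T,
        Function.Embedding.coe_subtype]
      constructor
      · rintro ⟨u, ⟨h1, h2⟩, rfl⟩; exact ⟨⟨u.2, h1⟩, fun h => h2 h.1⟩
      · rintro ⟨⟨h1, h2⟩, h3⟩; exact ⟨⟨t, h1⟩, ⟨h2, fun h => h3 ⟨h, h2⟩⟩, rfl⟩
    rw [← Finset.card_map (Function.Embedding.subtype _), hTmap, hMc, hC, Finset.card_sdiff_add_card_eq_card]
    intro t ht
    simp only [Finset.mem_filter, Finset.mem_univ, true_and] at ht ⊢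
    exact ⟨hMC ht.1, ht.2⟩
  obtain ⟨q, hq⟩ : ∃ q, 27 ≤ (T.filter fun t : C => (QuotientGroup.mk t : C ⧸ K) = q).card := by
    by_contra hno
    push Not at hno
    have h1 := Finset.card_le_mul_card_image (f := fun t : C => (QuotientGroup.mk t : C ⧸ K)) T 26
      (fun q _ => by have := hno q; omega)
    have h2 : T.image (fun t : C => (QuotientGroup.mk t : C ⧸ K)) ⊆ Finset.univ.erase (QuotientGroup.mk 1) := by
      intro q hq
      obtain ⟨t, ht, rfl⟩ := Finset.mem_image.1 hq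
      refine Finset.mem_erase.2 ⟨fun e => (Finset.mem_filter.1 ht).2.2 ?_, Finset.mem_univ _⟩
      have := QuotientGroup.eq.1 e.symm
      rw [inv_one, one_mul] at this
      exact this
    have h3 := Finset.card_le_card h2
    rw [Finset.card_erase_of_mem (Finset.mem_univ _), Finset.card_univ, ← Nat.card_eq_fintype_card] at h3
    change _ ≤ K.index - 1 at h3
    rw [hidx] at h3
    omega
  obtain ⟨t₀, ht₀⟩ := Finset.card_pos.1 (lt_of_lt_of_le (by norm_num : (0 : ℕ) < 27) hq)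
  obtain ⟨ht₀T, ht₀q⟩ := Finset.mem_filter.1 ht₀
  obtain ⟨h2, hnM⟩ := (Finset.mem_filter.1 ht₀T).2
  set t : G := (t₀ : G) with htdef
  have htt := sq_of_orderOf h2
  have hti : t⁻¹ = t := inv_eq_of_mul_eq_one_right htt
  have htc : Commute t (S.f c) := mem_cent.1 t₀.2
  set D := M ⊓ M.comap (MulAut.conj t).toMonoidHom
  have hDM : D ≤ M := inf_le_left
  have hDt : ∀ x ∈ D, t * x * t⁻¹ ∈ D := fun x hx => ⟨hx.2, by
    show t * (t * x * t⁻¹) * t⁻¹ ∈ M
    rw [show t * (t * x * t⁻¹) * t⁻¹ = t * t * x * (t * t)⁻¹ by group, htt, one_mul, inv_one, mul_one]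
    exact hx.1⟩
  have hzM : z ∈ M := S.M_mem_L (S.L_z s) g
  have hgM : g ∈ M := mem_sup_right (mem_zpowers g)
  have hDodd : Odd (Nat.card D) := by
    rw [← Nat.not_even_iff_odd]
    intro he
    obtain ⟨u, hu, hu2, htu⟩ := exists_fixed_involution he htt hDt
    obtain ⟨q, hq, e⟩ := S.invol_conj hp hg hMC hzM hgM (hDM hu) hu2
    have hqc : Commute q (S.f c) := mem_cent.1 (hMC hq)
    have h1 : Commute (q⁻¹ * t * q) z := by
      have := commute_conj (g := q⁻¹) htu
      rwa [inv_inv, conj_back e] at this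
    have h3 : q⁻¹ * t * q ∈ M := S.M_mem_L (S.cc_le_L hp h1 ((hqc.inv_left.mul_left htc).mul_left hqc)) g
    have := mul_mem (mul_mem hq h3) (inv_mem hq)
    rw [show q * (q⁻¹ * t * q) * q⁻¹ = t by group] at this
    exact hnM this
  have hcM : S.f c ∈ M := S.M_mem_L (S.L_mem_J (S.J_c hp) s) g
  have hcD : S.f c ∈ D := ⟨hcM, by show t * S.f c * t⁻¹ ∈ M; rw [conj_eq_of_commute htc]; exact hcM⟩
  have hI : 27 ≤ Nat.card {x : G // x ∈ D ∧ t * x * t⁻¹ = x⁻¹} := by
    refine hq.trans ?_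
    let F : {u // u ∈ T.filter fun u : C => (QuotientGroup.mk u : C ⧸ K) = q} →
        {x : G // x ∈ D ∧ t * x * t⁻¹ = x⁻¹} := fun u => ⟨t * (u.1 : G), by
      obtain ⟨huT, huq⟩ := Finset.mem_filter.1 u.2
      have huu := sq_of_orderOf (Finset.mem_filter.1 huT).2.1
      have hr := QuotientGroup.eq.1 (ht₀q.trans huq.symm)
      have hr' : t * (u.1 : G) ∈ M := by
        have h : ((t₀⁻¹ * u.1 : C) : G) ∈ M := hr
        rw [← hti]; exact h
      have hinv : t * (t * (u.1 : G)) * t⁻¹ = (t * (u.1 : G))⁻¹ := by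
        rw [mul_inv_rev, inv_eq_of_mul_eq_one_right huu, ← mul_assoc t t, htt, one_mul]
      refine ⟨⟨hr', ?_⟩, hinv⟩
      show t * (t * (u.1 : G)) * t⁻¹ ∈ M
      rw [hinv]; exact inv_mem hr'⟩
    have hF : Function.Injective F := fun a b e => by
      have h : t * (a.1 : G) = t * (b.1 : G) := congrArg Subtype.val e
      exact Subtype.ext (Subtype.ext (mul_left_cancel h))
    have := Nat.card_le_card_of_injective F hF
    rwa [Nat.card_eq_fintype_card, Fintype.card_coe] at this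
  have hsplit := (Goldschmidt53.RankTwoBad.symSet_subgroup D hDodd).ncard_eq (MulAut.conj t)
    (fun x hx => hDt x hx) (fun x _ => by
      show t * (t * x * t⁻¹) * t⁻¹ = x
      rw [show t * (t * x * t⁻¹) * t⁻¹ = t * t * x * (t * t)⁻¹ by group, htt]; group)
  rw [Goldschmidt53.RankTwoBad.fixed_eq_centralizer, ← Nat.card_coe_set_eq, ← Nat.card_coe_set_eq,
    ← Nat.card_coe_set_eq] at hsplit
  change Nat.card D = Nat.card ↥(D ⊓ centralizer ({t} : Set G)) * Nat.card {x : G // x ∈ D ∧ t * x * t⁻¹ = x⁻¹}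
    at hsplit
  set F := D ⊓ centralizer ({t} : Set G)
  have hcF : zpowers (S.f c) ≤ F := zpowers_le.2 ⟨hcD, mem_cent.2 htc.symm⟩
  have hc3' : Nat.card (zpowers (S.f c)) = 3 := by
    rw [Nat.card_zpowers, orderOf_eq_prime_iff.2 ⟨hc3, hc1⟩]
  have hF3 : 3 ≤ Nat.card F := hc3' ▸ card_le_of_le hcF
  have hd243 : Nat.card D ∣ 3 ^ 5 := by
    have hd : Nat.card D ∣ 4 * 3 ^ 5 := (card_dvd_of_le hDM).trans (by rw [hM972]; norm_num)
    refine (Nat.Coprime.dvd_mul_left ?_).1 hd
    exact Nat.Coprime.pow_right 2 (Nat.coprime_two_right.2 hDodd)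
  obtain ⟨a, ha, hDa⟩ := (Nat.dvd_prime_pow Nat.prime_three).1 hd243
  have hDp : IsPGroup 3 D := IsPGroup.of_card hDa
  have hJM : S.J ≤ M := fun x hx => S.M_mem_L (S.L_mem_J hx s) g
  have hprod : 81 ≤ Nat.card D := by
    rw [hsplit]; exact le_trans (by norm_num) (Nat.mul_le_mul hF3 hI)
  have ha4 : a = 4 ∨ a = 5 := by
    rw [hDa] at hprod
    interval_cases a <;> omega
  have htJ : t ∈ normalizer (S.J : Set G) → False := fun h => hnM (by
    rw [hMdef, ← S.N_eq_M hp hg]; exact ⟨h, t₀.2⟩)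
  rcases ha4 with rfl | rfl
  · -- order 81
    have hD81 : Nat.card D = 81 := by rw [hDa]; norm_num
    rw [hD81] at hsplit
    have hF : Nat.card F = 3 := by
      have hd : Nat.card F ∣ 3 ^ 4 := hDa ▸ card_dvd_of_le inf_le_left
      obtain ⟨b, hb, e⟩ := (Nat.dvd_prime_pow Nat.prime_three).1 hd
      rw [e] at hsplit hF3 ⊢
      interval_cases b <;> omega
    have hFc : F = zpowers (S.f c) := (eq_of_le_of_card_ge hcF (by rw [hF, hc3'])).symm
    rw [hF] at hsplit
    let ψ : {x : G // x ∈ D ∧ t * x * t⁻¹ = x⁻¹} × F → D := fun p =>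
      ⟨p.1.1 * p.2.1, mul_mem p.1.2.1 p.2.2.1⟩
    have hψ : Function.Injective ψ := by
      rintro ⟨⟨i, hi, hit⟩, f, hf⟩ ⟨⟨i', hi', hit'⟩, f', hf'⟩ e
      have e' : i * f = i' * f' := congrArg Subtype.val e
      have hfc : Commute f (S.f c) := mem_cent.1 (hMC (hDM hf.1))
      obtain ⟨u, hu, hut, hui⟩ : ∃ u, i' = i * u ∧ Commute t u ∧ Commute i u ∧ u ^ 3 = 1 := by
        refine ⟨f * f'⁻¹, by rw [← mul_assoc, e']; group,
          ((mem_cent.1 hf.2).symm).mul_right (mem_cent.1 hf'.2).symm.inv_right, ?_⟩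
        have hfz : f ∈ zpowers (S.f c) := hFc ▸ hf
        have hf'z : f' ∈ zpowers (S.f c) := hFc ▸ hf'
        obtain ⟨n, hn⟩ := mem_zpowers_iff.1 (mul_mem hfz (inv_mem hf'z))
        rw [← hn]
        exact ⟨(mem_cent.1 (hMC (hDM hi))).zpow_right n, by
          rw [← zpow_natCast (S.f c ^ n), ← zpow_mul, mul_comm, zpow_mul, zpow_natCast, hc3, one_zpow]⟩
      obtain ⟨hiu, hu3⟩ := hui
      have h : i⁻¹ * u = i'⁻¹ := by
        rw [← hit', hu, show t * (i * u) * t⁻¹ = (t * i * t⁻¹) * (t * u * t⁻¹) by group, hit,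
          conj_eq_of_commute hut]
      rw [hu, mul_inv_rev, ← hiu.inv_inv.eq] at h
      have huu : u * u = 1 := mul_eq_one_iff_eq_inv.2 (mul_left_cancel h)
      have hu1 := Tools.eq_one_of_coprime (by rw [pow_two, huu] : u ^ 2 = 1) hu3 (by norm_num)
      rw [hu1, mul_one] at hu
      subst hu
      have := mul_left_cancel e'
      subst this
      rfl
    have hψs : Function.Surjective ψ := by
      refine (hψ.bijective_of_nat_card_le ?_).2
      rw [Nat.card_prod, hD81, hF]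
      omega
    have hdec : ∀ x ∈ D, ∃ i, i ∈ D ∧ t * i * t⁻¹ = i⁻¹ ∧ ∃ n : ℤ, x = i * S.f c ^ n := fun x hx => by
      obtain ⟨⟨⟨i, hi, hit⟩, f, hf⟩, e⟩ := hψs ⟨x, hx⟩
      have hfz : f ∈ zpowers (S.f c) := hFc ▸ hf
      obtain ⟨n, hn⟩ := mem_zpowers_iff.1 hfz
      exact ⟨i, hi, hit, n, by rw [hn]; exact (congrArg Subtype.val e).symm⟩
    have hcom : ∀ x ∈ D, ∀ y ∈ D, x * y * x⁻¹ * y⁻¹ ∈ zpowers (S.f c) := by
      intro x hx y hy
      obtain ⟨i, hi, hit, n, rfl⟩ := hdec x hx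
      obtain ⟨j, hj, hjt, m, rfl⟩ := hdec y hy
      have cc : ∀ y ∈ D, ∀ e : ℤ, Commute y (S.f c ^ e) := fun y hy e => (mem_cent.1 (hMC (hDM hy))).zpow_right e
      rw [show i * S.f c ^ n * (j * S.f c ^ m) * (i * S.f c ^ n)⁻¹ * (j * S.f c ^ m)⁻¹ =
          i * (S.f c ^ n * j * (S.f c ^ n)⁻¹) * (S.f c ^ n * S.f c ^ m * (S.f c ^ n)⁻¹) * i⁻¹ *
            (S.f c ^ m)⁻¹ * j⁻¹ by group,
        conj_eq_of_commute (cc j hj n).symm,
        conj_eq_of_commute ((Commute.refl (S.f c)).zpow_zpow n m),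
        show i * j * S.f c ^ m * i⁻¹ * (S.f c ^ m)⁻¹ * j⁻¹ =
          i * j * (S.f c ^ m * i⁻¹ * (S.f c ^ m)⁻¹) * j⁻¹ by group,
        conj_eq_of_commute (cc i hi m).inv_left.symm]
      obtain ⟨l, hl, hlt, e, he⟩ := hdec (i * j) (mul_mem hi hj)
      have h1 : i⁻¹ * j⁻¹ = l⁻¹ * S.f c ^ e :=
        calc i⁻¹ * j⁻¹ = (t * i * t⁻¹) * (t * j * t⁻¹) := by rw [hit, hjt]
          _ = t * (l * S.f c ^ e) * t⁻¹ := by rw [← he]; group
          _ = (t * l * t⁻¹) * (t * S.f c ^ e * t⁻¹) := by group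
          _ = _ := by rw [hlt, conj_eq_of_commute (htc.zpow_right e)]
      have h2 : i * j * i⁻¹ * j⁻¹ = S.f c ^ e * S.f c ^ e := by
        rw [mul_assoc, h1, he, show l * S.f c ^ e * (l⁻¹ * S.f c ^ e) = (l * S.f c ^ e * l⁻¹) * S.f c ^ e by group,
          conj_eq_of_commute (cc l hl e)]
      rw [h2]
      exact mul_mem (zpow_mem (mem_zpowers _) e) (zpow_mem (mem_zpowers _) e)
    have hDJ := S.eq_J_of_comm hp hg hDM hD81 hcom
    exact htJ (Tools.mem_normalizer_of fun x hx => by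
      have := hDt x (hDJ ▸ hx)
      rwa [hDJ] at this)
  · -- order 243
    have hP : IsPGroup 3 ↥(D ⊔ S.J) :=
      IsPGroup.to_sup_of_normal_right' hDp (S.J_isPGroup hp) fun x hx => S.M_norm hp hg (hDM hx)
    obtain ⟨b, hb⟩ := IsPGroup.iff_card.1 hP
    have hd : Nat.card ↥(D ⊔ S.J) ∣ Nat.card M := card_dvd_of_le (sup_le hDM hJM)
    rw [hb, hM972] at hd
    have hb5 : b ≤ 5 := by
      by_contra hgt
      exact absurd ((pow_dvd_pow 3 (show 6 ≤ b by omega)).trans hd) (by norm_num)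
    have heq : D = D ⊔ S.J := eq_of_le_of_card_ge le_sup_left (by
      rw [hb, hDa]; exact Nat.pow_le_pow_right (by norm_num) hb5)
    have hJD : S.J ≤ D := heq ▸ le_sup_right
    set A := S.J.map (MulAut.conj t).toMonoidHom
    have hAM : A ≤ M := by
      rintro _ ⟨x, hx, rfl⟩
      exact hDM (hDt x (hJD hx))
    have hA := S.eq_J_of_comm hp hg hAM (by rw [card_map_of_injective (MulAut.conj t).injective, S.card_J hp]) (by
      rintro _ ⟨x, hx, rfl⟩ _ ⟨y, hy, rfl⟩
      show t * x * t⁻¹ * (t * y * t⁻¹) * (t * x * t⁻¹)⁻¹ * (t * y * t⁻¹)⁻¹ ∈ _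
      rw [show t * x * t⁻¹ * (t * y * t⁻¹) * (t * x * t⁻¹)⁻¹ * (t * y * t⁻¹)⁻¹ =
        t * (x * y * x⁻¹ * y⁻¹) * t⁻¹ by group, (S.J_comm hp hx hy).eq]
      simp)
    exact htJ (Tools.mem_normalizer_of fun x hx => hA ▸ ⟨x, hx, rfl⟩)

theorem card_cent_c [Finite G] : Nat.card (centralizer ({S.f c} : Set G)) = 972 := by
  obtain ⟨g, hg⟩ := S.exists_cyc hp
  rw [S.C_eq_M hp hg, S.card_M hp hg]

theorem cent_c_norm [Finite G] : centralizer ({S.f c} : Set G) ≤ normalizer (S.J : Set G) := by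
  obtain ⟨g, hg⟩ := S.exists_cyc hp
  rw [S.C_eq_M hp hg]
  exact fun x hx => S.M_norm hp hg hx

/-- The inverted elements of odd order of `C(c)` lie in `J`. -/
theorem inverted_cent_c [Finite G] {x : G} (ho : Odd (orderOf x)) (hi : Inverted z x)
    (hx : Commute x (S.f c)) : x ∈ S.J := by
  obtain ⟨g, hg⟩ := S.exists_cyc hp
  have hxM : x ∈ S.M s g := S.C_eq_M hp hg ▸ mem_cent.2 hx
  obtain ⟨l, hl, i, hi3, e⟩ := S.mem_M hp hg hxM
  have hgL := S.g_norm_L hp hg
  have hi0 : i = 0 := by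
    by_contra hne
    have hgz : g ^ i * z⁻¹ * (g ^ i)⁻¹ ∈ S.L s :=
      (mem_normalizer_iff.1 (pow_mem hgL i) _).1 (inv_mem (S.L_z s))
    have h1 : x⁻¹ * (g ^ i)⁻¹ ∈ S.L s := by
      have h2 : z * x * z⁻¹ * (g ^ i)⁻¹ = z * l * (g ^ i * z⁻¹ * (g ^ i)⁻¹) := by rw [e]; group
      rw [show x⁻¹ = z * x * z⁻¹ from hi.symm, h2]
      exact mul_mem (mul_mem (S.L_z s) hl) hgz
    have h3 : g ^ (2 * i) ∈ S.L s := by
      rw [e] at h1
      have h4 := (mem_normalizer_iff.1 (pow_mem hgL i) _).1 h1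
      rw [show g ^ i * ((l * g ^ i)⁻¹ * (g ^ i)⁻¹) * (g ^ i)⁻¹ = l⁻¹ * (g ^ i * g ^ i)⁻¹ by group] at h4
      have h5 := inv_mem (mul_mem hl h4)
      rwa [mul_inv_cancel_left, inv_inv, ← pow_add, ← two_mul] at h5
    have hg2 : g ^ 2 ∈ S.L s ∨ g ^ 4 ∈ S.L s := by
      have : i = 1 ∨ i = 2 := by omega
      rcases this with rfl | rfl
      exacts [Or.inl h3, Or.inr h3]
    refine S.g_notMem_L hp hg ?_
    rcases hg2 with h | h
    · exact Tools.mem_of_sq_mem hg.odd (by rwa [← pow_two])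
    · have := mul_mem (inv_mem (S.g3_mem_L hp hg)) h
      rwa [show g ^ 4 = g ^ 3 * g from pow_succ g 3, inv_mul_cancel_left] at this
  subst hi0
  rw [pow_zero, mul_one] at e
  subst e
  obtain ⟨j, hj, w, hw, rfl⟩ := S.mem_L hp hl
  refine Tools.mem_of_sq_mem ho ?_
  have hw2 := (S.W_facts hp hw).2.2.2
  rw [show j * w * (j * w) = j * (w * j * w⁻¹) * (w * w) by group, hw2, mul_one]
  exact mul_mem hj ((mem_normalizer_iff.1 (S.W_norm hp hw) j).1 hj)

end Setup

end Cfsg.Agent.Lib.U43Type85
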