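import Cfsg.Agent.Lib.U43Type85.Move

/-!
# U4(3) type: the centraliser of `⟨a, b⟩`

`27` divides `|C(c)|`, so the centraliser of `⟨a, b⟩` is `J ⟨z⟩` with `J` of odd order properly containing
`⟨a, b⟩`.

Owner: helper85.
-/

set_option autoImplicit false

namespace Cfsg.Agent.Lib.U43Type85

open Subgroup Tools

theorem gen_check : (e9.all fun x => [0, 25, 150].any fun i => [0, 30, 145].any fun j => Nat.beq (mul i j) x) = true ∧
    inv 25 = 150 ∧ inv 30 = 145 := by decide +kernel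

namespace Setup

variable {G : Type*} [Group G] {z : G} (S : Setup z)

theorem pow_two_eq_inv {x : G} (h : x ^ 3 = 1) : x ^ 2 = x⁻¹ :=
  eq_inv_of_mul_eq_one_left (by rw [← pow_succ, h])

/-- `E = ⟨ab, ab⁻¹⟩`. -/
theorem E_gen₀ {x : G} (hx : x ∈ S.E) : ∃ i j : ℕ, x = S.f 25 ^ i * S.f 30 ^ j := by
  obtain ⟨n, hn, rfl⟩ := hx
  obtain ⟨i, hi, h⟩ := List.any_eq_true.1 (all_mem gen_check.1 hn)
  obtain ⟨j, hj, h⟩ := List.any_eq_true.1 h
  have h25 : S.f 25 ^ 3 = 1 := S.E_cube ⟨25, by simp [e9], rfl⟩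
  have h30 : S.f 30 ^ 3 = 1 := S.E_cube ⟨30, by simp [e9], rfl⟩
  have ei : ∃ k : ℕ, S.f i = S.f 25 ^ k := by
    simp only [List.mem_cons, List.not_mem_nil, or_false] at hi
    rcases hi with rfl | rfl | rfl
    · exact ⟨0, by rw [S.f_zero, pow_zero]⟩
    · exact ⟨1, (pow_one _).symm⟩
    · exact ⟨2, by rw [pow_two_eq_inv h25, ← S.f_inv (by norm_num), gen_check.2.1]⟩
  have ej : ∃ k : ℕ, S.f j = S.f 30 ^ k := by
    simp only [List.mem_cons, List.not_mem_nil, or_false] at hj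
    rcases hj with rfl | rfl | rfl
    · exact ⟨0, by rw [S.f_zero, pow_zero]⟩
    · exact ⟨1, (pow_one _).symm⟩
    · exact ⟨2, by rw [pow_two_eq_inv h30, ← S.f_inv (by norm_num), gen_check.2.2]⟩
  obtain ⟨k, ek⟩ := ei
  obtain ⟨l, el⟩ := ej
  refine ⟨k, l, ?_⟩
  have li : i < 1152 := (by decide : ∀ i ∈ [0, 25, 150], i < 1152) i hi
  have lj : j < 1152 := (by decide : ∀ j ∈ [0, 30, 145], j < 1152) j hj
  rw [← Nat.eq_of_beq_eq_true h, S.f_mul i li j lj, ek, el]

/-- The centraliser of `⟨a, b⟩`. -/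
def CE : Subgroup G := centralizer ({S.f 24} : Set G) ⊓ centralizer ({S.f 1} : Set G)

theorem mem_CE {g : G} : g ∈ S.CE ↔ Commute g (S.f 24) ∧ Commute g (S.f 1) :=
  and_congr mem_cent mem_cent

theorem CE_comm {g h : G} (hg : g ∈ S.CE) (hh : h ∈ S.E) : Commute g h :=
  S.commute_E hh (S.mem_CE.1 hg).1 (S.mem_CE.1 hg).2

theorem z_mem_CE : z ∈ S.CE :=
  S.mem_CE.2 ⟨(S.f_comm 24).symm, (S.f_comm 1).symm⟩

/-- Elements normalising `E` normalise its centraliser. -/
theorem CE_conj {g x : G} (hg : ∀ e ∈ S.E, g⁻¹ * e * g ∈ S.E) (hx : x ∈ S.CE) : g * x * g⁻¹ ∈ S.CE := by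
  refine S.mem_CE.2 ⟨?_, ?_⟩
  · have := commute_conj (g := g) (S.CE_comm hx (hg _ S.a_mem))
    rwa [show g * (g⁻¹ * S.f 24 * g) * g⁻¹ = S.f 24 by group] at this
  · have := commute_conj (g := g) (S.CE_comm hx (hg _ S.b_mem))
    rwa [show g * (g⁻¹ * S.f 1 * g) * g⁻¹ = S.f 1 by group] at this

theorem CE_z {g : G} (hg : g ∈ S.CE) (hz : Commute g z) : g ∈ S.E ∨ g * z ∈ S.E :=
  S.cent_E_z hz (S.mem_CE.1 hg).1 (S.mem_CE.1 hg).2

/-- `⟨z⟩` is a Sylow two-subgroup of the centraliser of `E`. -/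
theorem CE_two [Finite G] {P : Subgroup G} (hP : IsPGroup 2 P) (hle : P ≤ S.CE) (hz : z ∈ P) :
    ∀ p ∈ P, p = 1 ∨ p = z := by
  have key : ∀ p ∈ P, Commute p z → p = 1 ∨ p = z := by
    intro p hp hpz
    have he : ∀ q, q ∈ P → q ∈ S.E → q = 1 := by
      intro q hq hqE
      obtain ⟨k, hk⟩ := hP ⟨q, hq⟩
      have hk' : q ^ 2 ^ k = 1 := congrArg Subtype.val hk
      exact Tools.eq_one_of_coprime hk' (S.E_cube hqE) (Nat.Coprime.pow_left k (by norm_num))
    rcases S.CE_z (hle hp) hpz with h | h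
    · exact Or.inl (he p hp h)
    · exact Or.inr ((mul_eq_one_iff_eq_inv.1 (he _ (P.mul_mem hp hz) h)).trans S.z_inv)
  obtain ⟨u, huP, hu, hcen⟩ := Tools.exists_central hP hz S.z_ne
  have hu' : u = z := by
    refine (key u huP (hcen z hz)).resolve_left fun e => ?_
    rw [e, orderOf_one] at hu
    norm_num at hu
  exact fun p hp => key p hp (hu' ▸ hcen p hp).symm

/-- An involution of the centraliser of `E` is conjugate to `z` there. -/
theorem CE_conj_z [Finite G] {t : G} (ht : t ∈ S.CE) (h2 : orderOf t = 2) :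
    ∃ k ∈ S.CE, k * t * k⁻¹ = z := by
  haveI : Fact (Nat.Prime 2) := ⟨Nat.prime_two⟩
  obtain ⟨P, hzP, hPC, hP, -, hconj⟩ := sylow_in 2 (H := S.CE) (zpowers_le.2 S.z_mem_CE)
    (Tools.isPGroup_zpowers (k := 1) (by rw [pow_one, sq, S.z_sq]))
  obtain ⟨k, hk, hk'⟩ := hconj (zpowers t) (zpowers_le.2 ht)
    (Tools.isPGroup_zpowers (k := 1) (by rw [pow_one, sq, sq_of_orderOf h2]))
  refine ⟨k, hk, (S.CE_two hP hPC (hzP (mem_zpowers z)) _ (hk' t (mem_zpowers t))).resolve_left fun e => ?_⟩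
  rw [conj_eq_one_iff] at e
  rw [e, orderOf_one] at h2
  norm_num at h2

theorem card_CE_mod [Finite G] : Nat.card S.CE % 4 = 2 := by
  haveI : Fact (Nat.Prime 2) := ⟨Nat.prime_two⟩
  obtain ⟨P, hzP, hPC, hP, hcard, -⟩ := sylow_in 2 (H := S.CE) (zpowers_le.2 S.z_mem_CE)
    (Tools.isPGroup_zpowers (k := 1) (by rw [pow_one, sq, S.z_sq]))
  have hset : (P : Set G) = {1, z} := by
    ext p
    simp only [SetLike.mem_coe, Set.mem_insert_iff, Set.mem_singleton_iff]
    refine ⟨S.CE_two hP hPC (hzP (mem_zpowers z)) p, ?_⟩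
    rintro (rfl | rfl)
    exacts [P.one_mem, hzP (mem_zpowers _)]
  have h2 : Nat.card P = 2 := by
    rw [show Nat.card P = (P : Set G).ncard from Nat.card_coe_set_eq (P : Set G), hset,
      Set.ncard_pair S.z_ne.symm]
  rw [h2] at hcard
  have hf : (Nat.card S.CE).factorization 2 = 1 :=
    Nat.pow_right_injective le_rfl (hcard.symm.trans (pow_one 2).symm)
  have hd : 2 ∣ Nat.card S.CE := h2 ▸ card_dvd_of_le hPC
  have h4 : ¬ 2 ^ 2 ∣ Nat.card S.CE := fun h => by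
    have := (Nat.Prime.pow_dvd_iff_le_factorization Nat.prime_two Nat.card_pos.ne').1 h
    omega
  omega

variable {c s d : ℕ} (hp : IsPrm c s d)
include hp

/-- `E = ⟨c, d⟩`. -/
theorem E_gen {x : G} (hx : x ∈ S.E) : ∃ i j : ℕ, x = S.f c ^ i * S.f d ^ j := by
  obtain ⟨i, j, rfl⟩ := S.E_gen₀ hx
  rcases hp with ⟨rfl, -, rfl⟩ | ⟨rfl, -, rfl⟩
  · exact ⟨i, j, rfl⟩
  · exact ⟨j, i, (S.E_comm ⟨25, by simp [e9], rfl⟩ ⟨30, by simp [e9], rfl⟩).pow_pow i j⟩

theorem CE_le_cent : S.CE ≤ centralizer ({S.f c} : Set G) := fun _ hx =>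
  mem_cent.2 (S.CE_comm hx (S.basics hp).2.2.2.2.1)

/-- An element of `E` centralising two commuting involutions lies in one of the lines of `c` and `d`. -/
theorem E_type [Finite G] {e v w : G} (he : e ∈ S.E) (he1 : e ≠ 1) (hv : orderOf v = 2) (hw : orderOf w = 2)
    (hne : v ≠ w) (hvw : Commute v w) (hev : Commute e v) (hew : Commute e w) :
    e = S.f c ∨ e = (S.f c)⁻¹ ∨ e = S.f d ∨ e = (S.f d)⁻¹ := by
  obtain ⟨n, hn, rfl⟩ := he
  obtain ⟨hc, -, hd⟩ := hp.lt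
  have h := all_mem e9_types hn
  simp only [Bool.or_eq_true, memb_iff, List.any_eq_true] at h
  rcases h with (h | h) | ⟨k, hk, ek⟩
  · exact absurd (by rw [Nat.eq_of_beq_eq_true h, S.f_zero]) he1
  · have e25 := (congrArg S.f gen_check.2.1).symm.trans (S.f_inv (n := 25) (by norm_num))
    have e30 := (congrArg S.f gen_check.2.2).symm.trans (S.f_inv (n := 30) (by norm_num))
    simp only [List.mem_cons, List.not_mem_nil, or_false] at h
    rcases hp with ⟨rfl, -, rfl⟩ | ⟨rfl, -, rfl⟩ <;> rcases h with rfl | rfl | rfl | rfl <;>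
      simp [e25, e30]
  · have hk' : k < 1152 := (by decide : ∀ i ∈ [0, 576, 288, 864], i < 1152) k hk
    have e := S.conj_code hk' (by norm_num) (Nat.eq_of_beq_eq_true ek)
    have back : ∀ u, Commute (S.f n) u → Commute ((S.f k)⁻¹ * u * S.f k) (S.f 24) := fun u hu => by
      have := commute_conj (g := (S.f k)⁻¹) hu
      rw [inv_inv, conj_back e] at this
      exact this.symm
    have ord : ∀ u, orderOf u = 2 → orderOf ((S.f k)⁻¹ * u * S.f k) = 2 := fun u hu => by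
      rw [show (S.f k)⁻¹ * u * S.f k = (S.f k)⁻¹ * u * ((S.f k)⁻¹)⁻¹ by group, Tools.orderOf_conj, hu]
    have hcw : Commute ((S.f k)⁻¹ * v * S.f k) ((S.f k)⁻¹ * w * S.f k) := by
      have := commute_conj (g := (S.f k)⁻¹) hvw
      rwa [inv_inv] at this
    exact absurd (mul_left_cancel (mul_right_cancel
      (S.no_four_a (ord v hv) (ord w hw) hcw (back v hev) (back w hew)))) hne

theorem W_solve {f w : G} (hw : w ∈ S.W s) (f1 : f * z * f⁻¹ = S.f s) (f2 : f * S.f s * f⁻¹ = S.f s * z)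
    (f3 : f * (S.f s * z) * f⁻¹ = z) : ∃ w0 ∈ S.W s, w0 * (f * w0 * f⁻¹) = w := by
  have hsz := S.f_comm s
  have hss : S.f s * S.f s = 1 := sq_of_orderOf (S.basics hp).2.2.1
  rcases hw with rfl | rfl | rfl | hw
  · exact ⟨1, Or.inl rfl, by group⟩
  · exact ⟨S.f s, Or.inr (Or.inr (Or.inl rfl)), by rw [f2, ← mul_assoc, hss, one_mul]⟩
  · exact ⟨S.f s * z, Or.inr (Or.inr (Or.inr rfl)), by rw [f3, mul_assoc, S.z_sq, mul_one]⟩
  · rw [Set.mem_singleton_iff] at hw
    exact ⟨z, Or.inr (Or.inl rfl), by rw [f1, hw, hsz.eq]⟩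

/-- An element permuting `z, σ, σ z` and fixing an involution of the group of order sixteen. -/
theorem exists_fixed [Finite G] {g : G} (hgc : Commute g (S.f c)) (g1 : g * z * g⁻¹ = S.f s)
    (g2 : g * S.f s * g⁻¹ = S.f s * z) (g3 : g * (S.f s * z) * g⁻¹ = z) :
    ∃ i u, u ∈ S.A16 hp ∧ u ∉ S.W s ∧ Commute (S.f c ^ i * g) u := by
  obtain ⟨hc, hs, -⟩ := hp.lt
  obtain ⟨hc3, -, hs2, hsc, -⟩ := S.basics hp
  have hcz := S.f_comm c
  have hcW : ∀ w ∈ S.W s, Commute w (S.f c) := fun w hw => (S.W_facts hp hw).2.2.1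
  have hl : ∀ w, w ∈ w4 s → w ∈ aList s := by
    have h := hp.sixteen
    simp only [sixteenC, Bool.and_eq_true] at h
    intro w hw
    have := all_mem h.1.1.1.2 hw
    simp only [Bool.and_eq_true, memb_iff] at this
    exact this.2
  have gN : g ∈ normalizer (S.A16 hp : Set G) := by
    refine S.norm_of_W hp ?_ ?_
    · rw [conj_back g3]; exact Or.inr (Or.inr (Or.inr rfl))
    · rw [conj_back g1]; exact Or.inr (Or.inl rfl)
  have h := hp.sixteen
  simp only [sixteenC, Bool.and_eq_true] at h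
  have hlen := Nat.eq_of_beq_eq_true h.1.1.1.1.1.1.1.1.1.1
  have hW4 : (aList s).any (fun a => !memb a (w4 s)) = true := by
    by_contra hno
    rw [Bool.not_eq_true, List.any_eq_false] at hno
    have hsub : (aList s).toFinset ⊆ (w4 s).toFinset := fun a ha => by
      have := hno a (List.mem_toFinset.1 ha)
      simp only [Bool.not_eq_true', Bool.not_eq_false, memb_iff] at this
      exact List.mem_toFinset.2 this
    have := Finset.card_le_card hsub
    rw [List.toFinset_card_of_nodup (l := aList s) (List.nodup_range.filter _), hlen] at this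
    have := this.trans (List.toFinset_card_le _)
    simp [w4] at this
  obtain ⟨a, ha, ha'⟩ := List.any_eq_true.1 hW4
  simp only [Bool.not_eq_true'] at ha'
  obtain ⟨b, hb, eb⟩ : g * S.f a * g⁻¹ ∈ S.A16 hp := (mem_normalizer_iff.1 gN _).1 ⟨a, ha, rfl⟩
  have hwcode : ∀ w ∈ S.W s, ∃ n ∈ w4 s, S.f n = w := by
    rintro w (rfl | rfl | rfl | hw)
    · exact ⟨0, by simp [w4], S.f_zero⟩
    · exact ⟨12, by simp [w4], S.f_z⟩
    · exact ⟨s, by simp [w4], rfl⟩
    · exact ⟨mul s 12, by simp [w4], by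
        rw [Set.mem_singleton_iff.1 hw, S.f_mul s hs 12 (by norm_num), S.f_z]⟩
  have haW : S.f a ∉ S.W s := fun hW => by
    obtain ⟨n, hn, en⟩ := hwcode _ hW
    rw [← S.f_inj n (mem_aList.1 (hl n hn)).1 a (mem_aList.1 ha).1 en, memb_iff.2 hn] at ha'
    exact Bool.noConfusion ha'
  have hbW : memb b (w4 s) = false := by
    rw [Bool.eq_false_iff]
    intro hb'
    have hW := S.mem_w4 hp (memb_iff.1 hb')
    rw [eb] at hW
    have hback : g⁻¹ * (g * S.f a * g⁻¹) * g = S.f a := by group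
    rcases hW with e | e | e | e
    · exact haW (Or.inl (conj_eq_one_iff.1 e))
    · exact haW (Or.inr (Or.inr (Or.inr (by
        rw [Set.mem_singleton_iff, ← hback, e, conj_back g3]))))
    · exact haW (Or.inr (Or.inl (by rw [← hback, e, conj_back g1])))
    · exact haW (Or.inr (Or.inr (Or.inl (by
        rw [← hback, Set.mem_singleton_iff.1 e, conj_back g2]))))
  have h1 := all_mem h.1.1.1.1.2 hb
  rw [hbW, Bool.false_or] at h1
  have h2 := all_mem h1 ha
  rw [ha', Bool.false_or, List.any_eq_true] at h2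
  obtain ⟨j, hj, hm⟩ := h2
  obtain ⟨i, hji⟩ : ∃ i : ℕ, S.f j = S.f c ^ i ∧ j < 1152 := by
    simp only [List.mem_cons, List.not_mem_nil, or_false] at hj
    rcases hj with rfl | rfl | rfl
    · exact ⟨0, by rw [S.f_zero, pow_zero], by norm_num⟩
    · exact ⟨1, (pow_one _).symm, hc⟩
    · exact ⟨2, by rw [S.f_inv hc, pow_two_eq_inv hc3], inv_lt hc⟩
  obtain ⟨w, hw, ew⟩ : ∃ w ∈ S.W s, S.f c ^ i * (g * S.f a * g⁻¹) * (S.f c ^ i)⁻¹ * S.f a = w := by
    refine ⟨_, S.mem_w4 hp (memb_iff.1 hm), ?_⟩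
    rw [S.f_mul _ (cj_lt hji.2 (mem_aList.1 hb).1) a (mem_aList.1 ha).1, S.f_cj hji.2 (mem_aList.1 hb).1,
      hji.1, eb]
  set f := S.f c ^ i * g
  have fconj : ∀ x, f * x * f⁻¹ = S.f c ^ i * (g * x * g⁻¹) * (S.f c ^ i)⁻¹ := fun x => by
    simp only [f]; group
  have fW : ∀ x y, g * x * g⁻¹ = y → y ∈ S.W s → f * x * f⁻¹ = y := fun x y e hy => by
    rw [fconj, e, conj_eq_of_commute ((hcW y hy).symm.pow_left i)]
  have f1 := fW _ _ g1 (Or.inr (Or.inr (Or.inl rfl)))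
  have f2 := fW _ _ g2 (Or.inr (Or.inr (Or.inr rfl)))
  have f3 := fW _ _ g3 (Or.inr (Or.inl rfl))
  have haA : S.f a ∈ S.A16 hp := ⟨a, ha, rfl⟩
  have ha2 := ((S.mem_A16 hp).1 haA).2.2
  have efa : f * S.f a * f⁻¹ = w * S.f a := by
    rw [fconj, ← ew, mul_assoc _ (S.f a) (S.f a), ha2, mul_one]
  obtain ⟨w0, hw0, e0⟩ := S.W_solve hp hw f1 f2 f3
  have hw02 := (S.W_facts hp hw0).2.2.2
  refine ⟨i, w0 * S.f a, mul_mem (S.W_mem_A16 hp hw0) haA, fun hW => ?_, commute_of_conj_eq ?_⟩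
  · obtain ⟨n, hn, en⟩ := hwcode _ hw0
    obtain ⟨m, hm', em⟩ := hwcode _ hW
    have key : ∀ s ∈ [576, 864], ∀ n ∈ w4 s, ∀ m ∈ w4 s, mul n m ∈ w4 s := by decide +kernel
    have hs' : s ∈ [576, 864] := by rcases hp with ⟨-, rfl, -⟩ | ⟨-, rfl, -⟩ <;> simp
    refine haW ?_
    have := S.mem_w4 hp (key s hs' n hn m hm')
    rwa [S.f_mul n (mem_aList.1 (hl n hn)).1 m (mem_aList.1 (hl m hm')).1, en, em, ← mul_assoc, hw02,
      one_mul] at this
  · calc f * (w0 * S.f a) * f⁻¹ = (f * w0 * f⁻¹) * (f * S.f a * f⁻¹) := by group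
      _ = (f * w0 * f⁻¹) * (w0 * (f * w0 * f⁻¹)) * S.f a := by rw [efa, ← e0]; group
      _ = w0 * S.f a := by
        have hW' : f * w0 * f⁻¹ ∈ S.A16 hp := by
          rcases hw0 with rfl | rfl | rfl | hh
          · rw [mul_one, mul_inv_cancel]; exact one_mem _
          · rw [f1]; exact S.W_mem_A16 hp (Or.inr (Or.inr (Or.inl rfl)))
          · rw [f2]; exact S.W_mem_A16 hp (Or.inr (Or.inr (Or.inr rfl)))
          · rw [Set.mem_singleton_iff.1 hh, f3]; exact S.W_mem_A16 hp (Or.inr (Or.inl rfl))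
        rw [(S.A16_comm hp (S.W_mem_A16 hp hw0) hW').eq, ← mul_assoc (f * w0 * f⁻¹),
          ((S.mem_A16 hp).1 hW').2.2, one_mul]

/-- `27` divides the order of the centraliser of `c`. -/
theorem three_cent [Finite G] : 27 ∣ Nat.card (centralizer ({S.f c} : Set G)) := by
  by_contra hno
  haveI : Fact (Nat.Prime 3) := ⟨Nat.prime_three⟩
  obtain ⟨hc, hs, hd⟩ := hp.lt
  obtain ⟨hc3, hc1, hs2, hsc, hcE, hdE, -⟩ := S.basics hp
  set C := centralizer ({S.f c} : Set G)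
  have hEC : S.E ≤ C := fun x hx => mem_cent.2 (S.E_comm hx hcE)
  obtain ⟨P, hEP, hPC, hP, hcard, hconj⟩ := sylow_in 3 hEC S.E_isPGroup
  have hPE : P = S.E := by
    refine (eq_of_le_of_card_ge hEP ?_).symm
    rw [S.card_E, hcard]
    have hle : (Nat.card C).factorization 3 ≤ 2 := by
      by_contra hgt
      exact hno ((pow_dvd_pow 3 (show 3 ≤ (Nat.card C).factorization 3 by omega)).trans
        (Nat.ordProj_dvd _ 3))
    calc 3 ^ (Nat.card C).factorization 3 ≤ 3 ^ 2 := Nat.pow_le_pow_right (by norm_num) hle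
      _ = 9 := rfl
  subst hPE
  obtain ⟨g, hgc, -, g1, g2, g3, -, g9⟩ := S.exists_cycle hp
  set P0 : Subgroup G := zpowers (S.f c) ⊔ zpowers g
  have hP0 : IsPGroup 3 P0 := by
    refine IsPGroup.to_sup_of_normal_right' (Tools.isPGroup_zpowers (k := 1) (by rw [pow_one, hc3]))
      (Tools.isPGroup_zpowers (k := 2) g9) ?_
    rw [zpowers_le]
    refine Tools.mem_normalizer_of fun b hb => ?_
    obtain ⟨j, rfl⟩ := mem_zpowers_iff.1 hb
    rw [(hgc.symm.zpow_right j).eq, mul_inv_cancel_right]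
    exact hb
  have hP0C : P0 ≤ C :=
    sup_le (zpowers_le.2 (mem_cent.2 (Commute.refl _))) (zpowers_le.2 (mem_cent.2 hgc))
  obtain ⟨k, hkC, hk⟩ := hconj P0 hP0C hP0
  have g33 : g ^ 3 = 1 := by
    have := S.E_cube (hk g (mem_sup_right (mem_zpowers g)))
    rwa [conj_pow, conj_eq_one_iff] at this
  obtain ⟨i, u, huA, huW, hfu⟩ := S.exists_fixed hp hgc g1 g2 g3
  set f := S.f c ^ i * g
  have hfc : Commute f (S.f c) := ((Commute.refl (S.f c)).pow_left i).mul_left hgc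
  have hf3 : f ^ 3 = 1 := by
    rw [(hgc.symm.pow_left i).mul_pow, g33, ← pow_mul, mul_comm, pow_mul, hc3, one_pow, mul_one]
  have hfz : ¬ Commute f z := fun e => by
    have e' := conj_eq_of_commute e
    rw [show f * z * f⁻¹ = S.f c ^ i * (g * z * g⁻¹) * (S.f c ^ i)⁻¹ by simp only [f]; group, g1,
      conj_eq_of_commute (hsc.symm.pow_left i)] at e'
    exact (S.s_ne hp).1 e'
  have hf1 : f ≠ 1 := fun e => hfz (e ▸ Commute.one_left z)
  have hfP0 : f ∈ P0 :=
    mul_mem (pow_mem (mem_sup_left (mem_zpowers _)) i) (mem_sup_right (mem_zpowers g))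
  -- the second fixed involution
  set v := S.f c * u * (S.f c)⁻¹ with hv
  have hu1 : u ≠ 1 := fun e => huW (Or.inl e)
  have hcA : S.f c ∈ normalizer (S.A16 hp : Set G) := S.norm_of_cs hp hc hsc.symm
  have hvA : v ∈ S.A16 hp := (mem_normalizer_iff.1 hcA _).1 huA
  have hfv : Commute f v := by
    have := commute_conj (g := S.f c) hfu
    rwa [conj_eq_of_commute hfc.symm] at this
  have huv : u ≠ v := fun e => by
    have hcu : Commute u (S.f c) := (commute_of_conj_eq (hv ▸ e.symm)).symm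
    obtain ⟨n, hn, rfl⟩ := huA
    have h := hp.sixteen
    simp only [sixteenC, Bool.and_eq_true] at h
    have h' := all_mem h.1.1.1.1.1.2 hn
    rw [(S.cm2_iff (mem_aList.1 hn).1 hc).2 hcu, Bool.not_true, Bool.false_or, memb_iff] at h'
    exact huW (S.mem_w4 hp h')
  have hv1 : v ≠ 1 := fun e => hu1 (conj_eq_one_iff.1 e)
  -- `f` goes to `d` in `E`
  have he' := hk f hfP0
  have hkc : Commute k (S.f c) := mem_cent.1 hkC
  have he1 : k * f * k⁻¹ ≠ 1 := fun e => hf1 (conj_eq_one_iff.1 e)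
  have hu2 := orderOf_of_sq ((S.mem_A16 hp).1 huA).2.2 hu1
  have hv2 := orderOf_of_sq ((S.mem_A16 hp).1 hvA).2.2 hv1
  have hcases := S.E_type hp he' he1 (v := k * u * k⁻¹) (w := k * v * k⁻¹)
    (by rw [Tools.orderOf_conj, hu2]) (by rw [Tools.orderOf_conj, hv2])
    (fun e => huv (mul_left_cancel (mul_right_cancel e))) (commute_conj (S.A16_comm hp huA hvA))
    (commute_conj hfu) (commute_conj hfv)
  have hd' : k * f * k⁻¹ = S.f d ∨ k * f * k⁻¹ = (S.f d)⁻¹ := by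
    have notc : ∀ x, k * f * k⁻¹ = x → Commute k x → Commute x z → False := fun x e hkx hxz => by
      rw [← conj_back e, show k⁻¹ * x * k = x by rw [mul_assoc, ← hkx.eq, inv_mul_cancel_left]] at hfz
      exact hfz hxz
    rcases hcases with e | e | e | e
    · exact (notc _ e hkc (S.f_comm c)).elim
    · exact (notc _ e hkc.inv_right (S.f_comm c).inv_left).elim
    · exact Or.inl e
    · exact Or.inr e
  obtain ⟨m, -, hm⟩ := S.move_line hp hf3 hf1 huA hvA hu1 huv hv1 hfu hfv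
  -- the image of `P0`
  set B := P0.map (MulAut.conj m).toMonoidHom
  have hB : IsPGroup 3 B := hP0.map _
  have hmfc : ∀ x, Commute x f → Commute (m * x * m⁻¹) (S.f c) := fun x hx => by
    have := commute_conj (g := m) hx
    rcases hm with e | e <;> rw [e] at this
    · exact this
    · simpa using this.inv_right
  have hBC : B ≤ C := by
    rw [show B = zpowers (m * S.f c * m⁻¹) ⊔ zpowers (m * g * m⁻¹) by
      show P0.map _ = _; rw [Subgroup.map_sup, MonoidHom.map_zpowers, MonoidHom.map_zpowers]; rfl]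
    refine sup_le (zpowers_le.2 (mem_cent.2 (hmfc _ hfc.symm))) (zpowers_le.2 (mem_cent.2 (hmfc _ ?_)))
    exact (hgc.pow_right i).mul_right (Commute.refl g)
  obtain ⟨l, hlC, hl⟩ := hconj B hBC hB
  set n := l * m * k⁻¹
  have hnc : n * S.f c * n⁻¹ ∈ S.E := by
    have := hl _ ⟨S.f c, mem_sup_left (mem_zpowers _), rfl⟩
    rw [show n * S.f c * n⁻¹ = l * (m * (k⁻¹ * S.f c * k) * m⁻¹) * l⁻¹ by simp only [n]; group,
      show k⁻¹ * S.f c * k = S.f c by rw [mul_assoc, ← hkc.eq, inv_mul_cancel_left]]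
    exact this
  have hnd : n * S.f d * n⁻¹ = S.f c ∨ n * S.f d * n⁻¹ = (S.f c)⁻¹ := by
    have hlm : n * (k * f * k⁻¹) * n⁻¹ = l * (m * f * m⁻¹) * l⁻¹ := by simp only [n]; group
    have hlc : l * S.f c * l⁻¹ = S.f c := conj_eq_of_commute (mem_cent.1 hlC)
    have hlc' : l * (S.f c)⁻¹ * l⁻¹ = (S.f c)⁻¹ := conj_eq_of_commute (mem_cent.1 hlC).inv_right
    rcases hd' with e | e
    · rw [e] at hlm
      rcases hm with e' | e' <;> rw [e'] at hlm
      · exact Or.inl (hlm.trans hlc)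
      · exact Or.inr (hlm.trans hlc')
    · rw [e] at hlm
      have hlm' : n * S.f d * n⁻¹ = (l * (m * f * m⁻¹) * l⁻¹)⁻¹ := by rw [← hlm]; group
      rcases hm with e' | e' <;> rw [e'] at hlm'
      · exact Or.inr (by rw [hlm', hlc])
      · exact Or.inl (by rw [hlm', hlc', inv_inv])
  have hnE : ∀ x ∈ S.E, n * x * n⁻¹ ∈ S.E := by
    intro x hx
    obtain ⟨a, b, rfl⟩ := S.E_gen hp hx
    rw [show n * (S.f c ^ a * S.f d ^ b) * n⁻¹ = (n * S.f c ^ a * n⁻¹) * (n * S.f d ^ b * n⁻¹) by group,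
      ← conj_pow, ← conj_pow]
    refine mul_mem (pow_mem hnc a) (pow_mem ?_ b)
    rcases hnd with e | e <;> rw [e]
    exacts [hcE, inv_mem hcE]
  have hn := Tools.mem_normalizer_of hnE
  have hzn : n * z * n⁻¹ ∈ S.CE := S.CE_conj (fun e he => by
    have := (mem_normalizer_iff.1 (inv_mem hn) e).1 he
    rwa [inv_inv] at this) S.z_mem_CE
  obtain ⟨q, hq, eq⟩ := S.CE_conj_z hzn (by rw [Tools.orderOf_conj, S.orderOf_z])
  have hqz : Commute (q * n) z := commute_of_conj_eq (by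
    rw [show q * n * z * (q * n)⁻¹ = q * (n * z * n⁻¹) * q⁻¹ by group]; exact eq)
  obtain ⟨h, hh, eh⟩ := S.f_surj _ hqz
  have hqx : ∀ x ∈ S.E, q * n * x * (q * n)⁻¹ = n * x * n⁻¹ := fun x hx => by
    rw [show q * n * x * (q * n)⁻¹ = q * (n * x * n⁻¹) * q⁻¹ by group,
      conj_eq_of_commute (S.CE_comm hq (hnE x hx))]
  have code : ∀ x ∈ e9, ∀ y < 1152, n * S.f x * n⁻¹ = S.f y → cj h x = y := fun x hx y hy e => by
    refine S.code_of_conj hh (e9_lt x hx) hy ?_
    rw [eh, hqx _ ⟨x, hx, rfl⟩, e]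
  have hne : h ∈ neList := by
    refine List.mem_filter.2 ⟨List.mem_range.2 hh, ?_⟩
    obtain ⟨x, hx, ex⟩ := hnE _ S.a_mem
    obtain ⟨y, hy, ey⟩ := hnE _ S.b_mem
    rw [code 24 (by simp [e9]) x (e9_lt x hx) ex.symm, code 1 (by simp [e9]) y (e9_lt y hy) ey.symm,
      Bool.and_eq_true]
    exact ⟨memb_iff.2 hx, memb_iff.2 hy⟩
  have hN := hp.normE'
  simp only [normE, Bool.and_eq_true] at hN
  have := all_mem hN.1 hne
  simp only [Bool.and_eq_true, Bool.not_eq_true'] at this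
  have hd9 : d ∈ e9 := by rcases hp with ⟨-, -, rfl⟩ | ⟨-, -, rfl⟩ <;> simp [e9]
  have hbad : memb (cj h d) [c, inv c] = true := memb_iff.2 (by
    rcases hnd with e | e
    · rw [code d hd9 c hc e]; simp
    · rw [code d hd9 (inv c) (inv_lt hc) (by rw [S.f_inv hc]; exact e)]; simp)
  rw [this.1] at hbad
  exact Bool.noConfusion hbad

end Setup

end Cfsg.Agent.Lib.U43Type85
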