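import Cfsg.Agent.Lib.U43Type85.Codes

/-!
# U4(3) type: the three-cycle on `⟨z, σ⟩` in the centraliser of `c`

`c` has order three and centralises the outer involution `σ`.  The element exchanging `z` and `σ` gives,
composed with `γ`, an element of `C(c)` permuting `z, σ, σ z` cyclically.

Owner: helper85.
-/

set_option autoImplicit false

namespace Cfsg.Agent.Lib.U43Type85

open Subgroup Tools

/-- The two choices of `c`, `σ` and the element `d` inverted by `σ`. -/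
def IsPrm (c s d : ℕ) : Prop := (c = 25 ∧ s = 576 ∧ d = 30) ∨ (c = 30 ∧ s = 864 ∧ d = 25)

namespace IsPrm

variable {c s d : ℕ} (hp : IsPrm c s d)
include hp

theorem lt : c < 1152 ∧ s < 1152 ∧ d < 1152 := by
  rcases hp with ⟨rfl, rfl, rfl⟩ | ⟨rfl, rfl, rfl⟩ <;> norm_num

theorem basic : basicC c s d = true := by
  rcases hp with ⟨rfl, rfl, rfl⟩ | ⟨rfl, rfl, rfl⟩ <;> [exact basic_check.1; exact basic_check.2]

theorem four : fourC c s = true := by
  rcases hp with ⟨rfl, rfl, rfl⟩ | ⟨rfl, rfl, rfl⟩ <;> [exact four_check_c.1; exact four_check_c.2]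

theorem sixteen : sixteenC c s = true := by
  rcases hp with ⟨rfl, rfl, rfl⟩ | ⟨rfl, rfl, rfl⟩ <;> [exact sixteen_check.1; exact sixteen_check.2]

theorem cent : centC c s = true := by
  rcases hp with ⟨rfl, rfl, rfl⟩ | ⟨rfl, rfl, rfl⟩ <;> [exact cent_check_c.1; exact cent_check_c.2]

theorem normE' : normE c d = true := by
  rcases hp with ⟨rfl, rfl, rfl⟩ | ⟨rfl, rfl, rfl⟩ <;> [exact norm_check.1; exact norm_check.2]

end IsPrm

namespace Setup

variable {G : Type*} [Group G] {z : G} (S : Setup z) {c s d : ℕ} (hp : IsPrm c s d)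

/-- `⟨z, σ⟩`. -/
def W (s : ℕ) : Set G := {1, z, S.f s, S.f s * z}

include hp

theorem basics :
    S.f c ^ 3 = 1 ∧ S.f c ≠ 1 ∧ orderOf (S.f s) = 2 ∧ Commute (S.f s) (S.f c) ∧ S.f c ∈ S.E ∧
      S.f d ∈ S.E ∧ S.f s * S.f d * (S.f s)⁻¹ = (S.f d)⁻¹ ∧ S.f 288 * S.f c * (S.f 288)⁻¹ = (S.f c)⁻¹ ∧
      S.f 288 * S.f s * (S.f 288)⁻¹ = S.f s * z := by
  obtain ⟨hc, hs, hd⟩ := hp.lt
  have h := hp.basic
  simp only [basicC, Bool.and_eq_true, memb_iff] at h
  obtain ⟨⟨⟨⟨⟨⟨⟨⟨⟨⟨t1, t2⟩, -⟩, t4⟩, t5⟩, t6⟩, t7⟩, t8⟩, t9⟩, -⟩, -⟩ := h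
  have h3 := (S.isThree_iff hc).1 t1
  refine ⟨by rw [← h3, pow_orderOf_eq_one], fun e => ?_, (S.isInv_iff hs).1 t2, (S.cm2_iff hs hc).1 t6,
    ⟨c, t4, rfl⟩, ⟨d, t5, rfl⟩, ?_, ?_, ?_⟩
  · rw [e, orderOf_one] at h3; norm_num at h3
  · rw [S.conj_code hs hd (Nat.eq_of_beq_eq_true t7), S.f_inv hd]
  · rw [S.conj_code (by norm_num) hc (Nat.eq_of_beq_eq_true t8), S.f_inv hc]
  · rw [S.conj_code (by norm_num) hs (Nat.eq_of_beq_eq_true t9), S.f_mul s hs 12 (by norm_num), S.f_z]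

theorem s_ne : S.f s ≠ z ∧ S.f s * z ≠ 1 ∧ S.f s ≠ 1 := by
  obtain ⟨-, hs, -⟩ := hp.lt
  have h12 : s ≠ 12 := by rcases hp with ⟨-, rfl, -⟩ | ⟨-, rfl, -⟩ <;> norm_num
  have h0 : s ≠ 0 := by rcases hp with ⟨-, rfl, -⟩ | ⟨-, rfl, -⟩ <;> norm_num
  have h1 : S.f s ≠ z := fun e => h12 ((S.f_eq_z hs).1 e)
  exact ⟨h1, fun e => h1 ((mul_eq_one_iff_eq_inv.1 e).trans S.z_inv), fun e => h0 ((S.f_eq_one hs).1 e)⟩

theorem s_z : Commute (S.f s) z := S.f_comm s

theorem mem_w4 {w : ℕ} (hw : w ∈ w4 s) : S.f w ∈ S.W s := by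
  obtain ⟨-, hs, -⟩ := hp.lt
  simp only [w4, List.mem_cons, List.not_mem_nil, or_false] at hw
  rcases hw with rfl | rfl | rfl | rfl
  · exact Or.inl S.f_zero
  · exact Or.inr (Or.inl S.f_z)
  · exact Or.inr (Or.inr (Or.inl rfl))
  · exact Or.inr (Or.inr (Or.inr (by rw [Set.mem_singleton_iff, S.f_mul s hs 12 (by norm_num), S.f_z])))

theorem W_facts {w : G} (hw : w ∈ S.W s) :
    Commute w z ∧ Commute w (S.f s) ∧ Commute w (S.f c) ∧ w * w = 1 := by
  obtain ⟨-, -, hs2, hsc, -⟩ := S.basics hp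
  have hcz := S.f_comm c
  have hsz := S.f_comm s
  rcases hw with rfl | rfl | rfl | hw
  · exact ⟨Commute.one_left _, Commute.one_left _, Commute.one_left _, one_mul 1⟩
  · exact ⟨Commute.refl _, hsz.symm, hcz.symm, S.z_sq⟩
  · exact ⟨hsz, Commute.refl _, hsc, sq_of_orderOf hs2⟩
  · rw [Set.mem_singleton_iff] at hw
    subst hw
    exact ⟨hsz.mul_left (Commute.refl z), (Commute.refl (S.f s)).mul_left hsz.symm, hsc.mul_left hcz.symm,
      by rw [mul_assoc, ← mul_assoc z, ← hsz.eq, mul_assoc (S.f s) z z, S.z_sq, mul_one, sq_of_orderOf hs2]⟩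

/-- The common centraliser of `z`, `σ` and `c`. -/
theorem cent_both {x : G} (hxz : Commute x z) (hxs : Commute x (S.f s)) (hxc : Commute x (S.f c)) :
    ∃ w ∈ S.W s, ∃ i, i < 3 ∧ x = w * S.f c ^ i := by
  obtain ⟨hc, hs, -⟩ := hp.lt
  obtain ⟨hc3, -⟩ := S.basics hp
  obtain ⟨n, hn, rfl⟩ := S.f_surj x hxz
  have h := hp.four
  simp only [fourC, Bool.and_eq_true] at h
  have hcs : n ∈ (List.range 1152).filter fun m => cm2 m s :=
    List.mem_filter.2 ⟨List.mem_range.2 hn, (S.cm2_iff hn hs).2 hxs⟩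
  have h1 := all_mem h.1.1 hcs
  simp only [(S.cm2_iff hn hc).2 hxc, Bool.not_true, Bool.false_or, List.any_eq_true, memb_iff] at h1
  obtain ⟨w, hw, hm⟩ := h1
  have hwl : w < 1152 := by
    simp only [w4, List.mem_cons, List.not_mem_nil, or_false] at hw
    rcases hw with rfl | rfl | rfl | rfl <;> first | exact hs | exact mul_lt hs (by norm_num) | norm_num
  refine ⟨S.f w, S.mem_w4 hp hw, ?_⟩
  simp only [List.mem_cons, List.not_mem_nil, or_false] at hm
  rcases hm with rfl | rfl | rfl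
  · exact ⟨0, by norm_num, by rw [pow_zero, mul_one]⟩
  · exact ⟨1, by norm_num, by rw [S.f_mul w hwl c hc, pow_one]⟩
  · refine ⟨2, by norm_num, ?_⟩
    rw [S.f_mul w hwl _ (inv_lt hc), S.f_inv hc]
    congr 1
    exact inv_eq_of_mul_eq_one_right (by rw [← pow_succ', hc3])

theorem cent_both_odd [Finite G] {x : G} (hxz : Commute x z) (hxs : Commute x (S.f s)) (hxc : Commute x (S.f c))
    (ho : Odd (orderOf x)) : ∃ i, i < 3 ∧ x = S.f c ^ i := by
  obtain ⟨w, hw, i, hi, rfl⟩ := S.cent_both hp hxz hxs hxc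
  obtain ⟨hc3, -⟩ := S.basics hp
  obtain ⟨-, -, hwc, hw2⟩ := S.W_facts hp hw
  refine ⟨i, hi, ?_⟩
  obtain ⟨k, hk⟩ := ho
  have hcm : Commute w (S.f c ^ i) := hwc.pow_right i
  have h1 : (w * S.f c ^ i) ^ (3 * orderOf (w * S.f c ^ i)) = 1 := by
    rw [mul_comm, pow_mul, pow_orderOf_eq_one, one_pow]
  rw [hcm.mul_pow, ← pow_mul (S.f c), ← mul_assoc i 3, mul_comm i 3, mul_assoc 3 i, pow_mul (S.f c), hc3,
    one_pow, mul_one, hk, show 3 * (2 * k + 1) = 2 * (3 * k + 1) + 1 by ring, pow_succ, pow_mul, pow_two,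
    hw2, one_pow, one_mul] at h1
  rw [h1, one_mul]

/-- An element exchanging `z` and `σ` and normalising `⟨c⟩`. -/
theorem exists_exchange_c :
    ∃ m : G, m * z * m⁻¹ = S.f s ∧ m * S.f s * m⁻¹ = z ∧
      (m * S.f c * m⁻¹ = S.f c ∨ m * S.f c * m⁻¹ = (S.f c)⁻¹) := by
  obtain ⟨hc, hs, -⟩ := hp.lt
  obtain ⟨hc3, hc1, hs2, hsc, -⟩ := S.basics hp
  have h12 : s ≠ 12 := by rcases hp with ⟨-, rfl, -⟩ | ⟨-, rfl, -⟩ <;> norm_num
  obtain ⟨m, m1, m2⟩ := S.exists_exchange hs ((S.isInv_iff hs).2 hs2) h12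
  have k1 : Commute (m * S.f c * m⁻¹) z := by
    have := commute_conj (g := m) hsc.symm; rwa [m2] at this
  have k2 : Commute (m * S.f c * m⁻¹) (S.f s) := by
    have := commute_conj (g := m) (S.f_comm c); rwa [m1] at this
  obtain ⟨n, hn, en⟩ := S.f_surj _ k1
  have h := hp.four
  simp only [fourC, Bool.and_eq_true] at h
  rw [← en] at k2
  have hcs : n ∈ (List.range 1152).filter fun q => cm2 q s :=
    List.mem_filter.2 ⟨List.mem_range.2 hn, (S.cm2_iff hn hs).2 k2⟩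
  have h3 : isThree n = true := by
    rw [S.isThree_iff hn, en, Tools.orderOf_conj]
    haveI : Fact (Nat.Prime 3) := ⟨Nat.prime_three⟩
    exact orderOf_eq_prime_iff.2 ⟨hc3, hc1⟩
  have h1 := all_mem h.1.2 hcs
  simp only [h3, Bool.not_true, Bool.false_or, List.any_eq_true, List.mem_filter, List.mem_range,
    memb_iff, List.mem_cons, List.not_mem_nil, or_false] at h1
  obtain ⟨k, ⟨hk, hks⟩, hkc⟩ := h1
  have hks' : Commute (S.f k) (S.f s) := (S.cm2_iff hk hs).1 hks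
  refine ⟨S.f k * m, ?_, ?_, ?_⟩
  · rw [show S.f k * m * z * (S.f k * m)⁻¹ = S.f k * (m * z * m⁻¹) * (S.f k)⁻¹ by group, m1,
      conj_eq_of_commute hks']
  · rw [show S.f k * m * S.f s * (S.f k * m)⁻¹ = S.f k * (m * S.f s * m⁻¹) * (S.f k)⁻¹ by group, m2,
      conj_eq_of_commute (S.f_comm k)]
  · rw [show S.f k * m * S.f c * (S.f k * m)⁻¹ = S.f k * (m * S.f c * m⁻¹) * (S.f k)⁻¹ by group, ← en,
      ← S.f_cj hk hn]
    rcases hkc with e | e
    · exact Or.inl (congrArg S.f e)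
    · exact Or.inr (by rw [e, S.f_inv hc])

theorem cent_c_code {x : G} (hxz : Commute x z) (hxc : Commute x (S.f c)) :
    ∃ e ∈ S.E, ∃ w ∈ S.W s, x = e * w := by
  obtain ⟨hc, hs, -⟩ := hp.lt
  obtain ⟨n, hn, rfl⟩ := S.f_surj x hxz
  have h := hp.cent
  simp only [centC, Bool.and_eq_true] at h
  have hm : n ∈ (List.range 1152).filter fun q => cm2 q c :=
    List.mem_filter.2 ⟨List.mem_range.2 hn, (S.cm2_iff hn hc).2 hxc⟩
  have h1 := all_mem h.1.1.1 hm
  simp only [List.any_eq_true] at h1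
  obtain ⟨e, he, w, hw, eq⟩ := h1
  have hwl : w < 1152 := by
    simp only [w4, List.mem_cons, List.not_mem_nil, or_false] at hw
    rcases hw with rfl | rfl | rfl | rfl <;> first | exact hs | exact mul_lt hs (by norm_num) | norm_num
  exact ⟨S.f e, ⟨e, he, rfl⟩, S.f w, S.mem_w4 hp hw,
    by rw [Nat.eq_of_beq_eq_true eq, S.f_mul e (e9_lt e he) w hwl]⟩

/-- The odd-order part of `C(z) ∩ C(c)` is `E`. -/
theorem cent_c_odd [Finite G] {x : G} (hxz : Commute x z) (hxc : Commute x (S.f c)) (ho : Odd (orderOf x)) :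
    x ∈ S.E := by
  obtain ⟨hc, hs, -⟩ := hp.lt
  have h4 : x ^ 36 = 1 := by
    have hsub : zpowers x ≤ (centralizer ({z} : Set G) ⊓ centralizer ({S.f c} : Set G)) :=
      zpowers_le.2 ⟨mem_cent.2 hxz, mem_cent.2 hxc⟩
    have hcard : Nat.card ↥(centralizer ({z} : Set G) ⊓ centralizer ({S.f c} : Set G)) = 36 := by
      let φ : {n // n ∈ (List.range 1152).filter fun q => cm2 q c} →
          ↥(centralizer ({z} : Set G) ⊓ centralizer ({S.f c} : Set G)) := fun n =>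
        ⟨S.f n.1, mem_cent.2 (S.f_comm n.1), mem_cent.2 ((S.cm2_iff (List.mem_range.1 (List.mem_filter.1 n.2).1) hc).1
          (List.mem_filter.1 n.2).2)⟩
      have hb : Function.Bijective φ := by
        refine ⟨fun a b e => Subtype.ext (S.f_inj _ (List.mem_range.1 (List.mem_filter.1 a.2).1) _
          (List.mem_range.1 (List.mem_filter.1 b.2).1) (congrArg Subtype.val e)), ?_⟩
        rintro ⟨g, hg1, hg2⟩
        obtain ⟨n, hn, rfl⟩ := S.f_surj g (mem_cent.1 hg1)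
        exact ⟨⟨n, List.mem_filter.2 ⟨List.mem_range.2 hn, (S.cm2_iff hn hc).2 (mem_cent.1 hg2)⟩⟩, rfl⟩
      rw [← Nat.card_eq_of_bijective φ hb]
      have h := hp.cent
      simp only [centC, Bool.and_eq_true] at h
      have hlen := Nat.eq_of_beq_eq_true h.2
      rw [Nat.card_eq_fintype_card, Fintype.card_of_subtype
        ((List.range 1152).filter fun q => cm2 q c).toFinset (fun n => List.mem_toFinset),
        List.toFinset_card_of_nodup (List.nodup_range.filter _), hlen]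
    have := Tools.pow_card_eq_one_of_mem (hsub (mem_zpowers x))
    rwa [hcard] at this
  have h9 : x ^ 3 ^ 2 = 1 := by
    have hd : orderOf x ∣ 4 * 3 ^ 2 := orderOf_dvd_of_pow_eq_one h4
    refine orderOf_dvd_iff_pow_eq_one.1 ((Nat.Coprime.dvd_mul_left ?_).1 hd)
    exact Nat.Coprime.pow_right 2 (Nat.coprime_two_right.2 ho)
  obtain ⟨n, hn, rfl⟩ := S.f_surj x hxz
  have h3 := (S.cube_eq hn).2 (S.three_pow hn h9)
  have h := hp.cent
  simp only [centC, Bool.and_eq_true] at h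
  have h1 := all_mem h.1.2 (List.mem_filter.2 ⟨List.mem_range.2 hn, (S.cm2_iff hn hc).2 hxc⟩)
  simp only [beq_true h3, Bool.not_true, Bool.false_or, memb_iff] at h1
  exact ⟨n, h1, rfl⟩

/-- `⟨z, σ⟩` is a Sylow two-subgroup of `C(c)`: a two-subgroup containing it is equal to it. -/
theorem two_sylow [Finite G] {P : Subgroup G} (hP : IsPGroup 2 P) (hPc : P ≤ centralizer ({S.f c} : Set G))
    (hzP : z ∈ P) (hsP : S.f s ∈ P) : ∀ p ∈ P, p ∈ S.W s := by
  obtain ⟨hc, hs, -⟩ := hp.lt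
  obtain ⟨hc3, hc1, hs2, hsc, hcE, hdE, hsd, h288c, h288s⟩ := S.basics hp
  obtain ⟨u, huP, hu, hcen⟩ := Tools.exists_central hP hzP S.z_ne
  have hcc : ∀ p ∈ P, Commute p (S.f c) := fun p hp => mem_cent.1 (hPc hp)
  -- a two-element of `C(c) ∩ C(z)` normalising the four group lies in it
  have small : ∀ p, p ^ 8 = 1 → Commute p z → Commute p (S.f c) → p * S.f s * p⁻¹ ∈ S.W s → p ∈ S.W s := by
    intro p h8 hpz hpc hps
    obtain ⟨n, hn, rfl⟩ := S.f_surj p hpz
    have h := hp.cent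
    simp only [centC, Bool.and_eq_true] at h
    have h1 := all_mem h.1.1.2 (List.mem_filter.2 ⟨List.mem_range.2 hn, (S.cm2_iff hn hc).2 hpc⟩)
    have e8 : mul (mul (mul n n) (mul n n)) (mul (mul n n) (mul n n)) = 0 := by
      refine (S.f_eq_one (mul_lt (mul_lt (mul_lt hn hn) (mul_lt hn hn)) (mul_lt (mul_lt hn hn) (mul_lt hn hn)))).1 ?_
      rw [S.f_mul _ (mul_lt (mul_lt hn hn) (mul_lt hn hn)) _ (mul_lt (mul_lt hn hn) (mul_lt hn hn)),
        S.f_mul _ (mul_lt hn hn) _ (mul_lt hn hn), S.f_mul n hn n hn]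
      simpa only [pow_succ, pow_zero, one_mul, mul_assoc] using h8
    have e4 : memb (cj n s) (w4 s) = true := by
      rw [memb_iff]
      have key : ∀ g ∈ S.W s, ∃ w ∈ w4 s, w < 1152 ∧ S.f w = g := by
        intro g hg
        rcases hg with rfl | rfl | rfl | hg
        · exact ⟨0, by simp [w4], by norm_num, S.f_zero⟩
        · exact ⟨12, by simp [w4], by norm_num, S.f_z⟩
        · exact ⟨s, by simp [w4], hs, rfl⟩
        · exact ⟨mul s 12, by simp [w4], mul_lt hs (by norm_num),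
            by rw [Set.mem_singleton_iff.1 hg, S.f_mul s hs 12 (by norm_num), S.f_z]⟩
      obtain ⟨w, hw, hwl, ew⟩ := key _ hps
      rw [S.code_of_conj hn hs hwl ew.symm]
      exact hw
    simp only [beq_true e8, e4, Bool.not_true, Bool.false_or, memb_iff] at h1
    exact S.mem_w4 hp h1
  have huz : Commute u z := hcen z hzP
  have hus : Commute u (S.f s) := hcen _ hsP
  have huW : u ∈ S.W s := by
    refine small u ?_ huz (hcc u huP) ?_
    · rw [show 8 = 2 * 4 from rfl, pow_mul, pow_two, sq_of_orderOf hu, one_pow]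
    · rw [conj_eq_of_commute hus]; exact Or.inr (Or.inr (Or.inl rfl))
  -- an element of `N(⟨c⟩)` normalising the four group and moving `u` to `z`
  obtain ⟨m, m1, m2, m3⟩ := S.exists_exchange_c hp
  have hu1 : u ≠ 1 := fun e => by rw [e, orderOf_one] at hu; norm_num at hu
  have hk : ∃ k : G, k * u * k⁻¹ = z ∧
      (k * S.f c * k⁻¹ = S.f c ∨ k * S.f c * k⁻¹ = (S.f c)⁻¹) ∧
      (k * z * k⁻¹ ∈ S.W s ∧ k * S.f s * k⁻¹ ∈ S.W s) := by
    have hW : ∀ a, a = 1 ∨ a = z ∨ a = S.f s ∨ a = S.f s * z → a ∈ S.W s := fun a h => h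
    rcases huW with e | e | e | e
    · exact absurd e hu1
    · exact ⟨1, by simpa using e, by simp, by simp [hW]⟩
    · exact ⟨m, by rw [e, m2], m3, by rw [m1]; exact hW _ (by simp), by rw [m2]; exact hW _ (by simp)⟩
    · have e : u = S.f s * z := e
      have hz288 : S.f 288 * z * (S.f 288)⁻¹ = z := conj_eq_of_commute (S.f_comm 288)
      have hb := conj_back h288s
      refine ⟨m * (S.f 288)⁻¹, ?_, ?_, ?_, ?_⟩
      · rw [e, show m * (S.f 288)⁻¹ * (S.f s * z) * (m * (S.f 288)⁻¹)⁻¹ =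
          m * ((S.f 288)⁻¹ * (S.f s * z) * S.f 288) * m⁻¹ by group, hb, m2]
      · rw [show m * (S.f 288)⁻¹ * S.f c * (m * (S.f 288)⁻¹)⁻¹ =
          m * ((S.f 288)⁻¹ * S.f c * S.f 288) * m⁻¹ by group]
        have hbc : (S.f 288)⁻¹ * S.f c * S.f 288 = (S.f c)⁻¹ := by
          have := congrArg (·⁻¹) (conj_back h288c)
          simpa [mul_assoc] using this
        rw [hbc, show m * (S.f c)⁻¹ * m⁻¹ = (m * S.f c * m⁻¹)⁻¹ by group]
        rcases m3 with e' | e' <;> rw [e']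
        · exact Or.inr rfl
        · exact Or.inl (inv_inv _)
      · rw [show m * (S.f 288)⁻¹ * z * (m * (S.f 288)⁻¹)⁻¹ = m * ((S.f 288)⁻¹ * z * S.f 288) * m⁻¹ by group,
          conj_back hz288, m1]
        exact hW _ (by simp)
      · have hbs : (S.f 288)⁻¹ * S.f s * S.f 288 = S.f s * z := by
          have h2 := conj_back h288s
          calc (S.f 288)⁻¹ * S.f s * S.f 288
              = (S.f 288)⁻¹ * (S.f s * z * z) * S.f 288 := by rw [mul_assoc (S.f s), S.z_sq, mul_one]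
            _ = ((S.f 288)⁻¹ * (S.f s * z) * S.f 288) * ((S.f 288)⁻¹ * z * S.f 288) := by group
            _ = S.f s * z := by rw [h2, conj_back hz288]
        rw [show m * (S.f 288)⁻¹ * S.f s * (m * (S.f 288)⁻¹)⁻¹ = m * ((S.f 288)⁻¹ * S.f s * S.f 288) * m⁻¹ by group,
          hbs, show m * (S.f s * z) * m⁻¹ = (m * S.f s * m⁻¹) * (m * z * m⁻¹) by group, m1, m2,
          ← (S.f_comm s).eq]
        exact hW _ (by simp)
  obtain ⟨k, ku, kc, kz, ks⟩ := hk
  have himg : ∀ p ∈ P, Commute (k * p * k⁻¹) z ∧ Commute (k * p * k⁻¹) (S.f c) := by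
    intro p hp'
    refine ⟨by have := commute_conj (g := k) (hcen p hp').symm; rwa [ku] at this, ?_⟩
    have h1 := commute_conj (g := k) (hcc p hp')
    rcases kc with e | e <;> rw [e] at h1
    · exact h1
    · simpa using h1.inv_right
  have hP' : IsPGroup 2 (P.map (MulAut.conj k).toMonoidHom) := hP.map _
  intro p hp'
  -- the image of `P` has order at most four and contains the four group
  let P' := P.map (MulAut.conj k).toMonoidHom
  have hle : P' ≤ centralizer ({z} : Set G) ⊓ centralizer ({S.f c} : Set G) := by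
    rintro _ ⟨q, hq, rfl⟩
    exact ⟨mem_cent.2 (himg q hq).1, mem_cent.2 (himg q hq).2⟩
  have hnorm : ∀ q ∈ P, p * q * p⁻¹ ∈ P := fun q hq => mul_mem (mul_mem hp' hq) (inv_mem hp')
  have h4 : Nat.card P' ∣ 4 := by
    obtain ⟨i, hi⟩ := IsPGroup.iff_card.1 hP'
    have hcard : Nat.card ↥(centralizer ({z} : Set G) ⊓ centralizer ({S.f c} : Set G)) ∣ 36 := by
      have hsub : ∀ x ∈ centralizer ({z} : Set G) ⊓ centralizer ({S.f c} : Set G),
          x ∈ (centralizer ({z} : Set G) : Subgroup G) := fun x hx => hx.1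
      let φ : {n // n ∈ (List.range 1152).filter fun q => cm2 q c} →
          ↥(centralizer ({z} : Set G) ⊓ centralizer ({S.f c} : Set G)) := fun n =>
        ⟨S.f n.1, mem_cent.2 (S.f_comm n.1), mem_cent.2 ((S.cm2_iff (List.mem_range.1 (List.mem_filter.1 n.2).1) hc).1
          (List.mem_filter.1 n.2).2)⟩
      have hb : Function.Bijective φ := by
        refine ⟨fun a b e => Subtype.ext (S.f_inj _ (List.mem_range.1 (List.mem_filter.1 a.2).1) _
          (List.mem_range.1 (List.mem_filter.1 b.2).1) (congrArg Subtype.val e)), ?_⟩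
        rintro ⟨g, hg1, hg2⟩
        obtain ⟨n, hn, rfl⟩ := S.f_surj g (mem_cent.1 hg1)
        exact ⟨⟨n, List.mem_filter.2 ⟨List.mem_range.2 hn, (S.cm2_iff hn hc).2 (mem_cent.1 hg2)⟩⟩, rfl⟩
      rw [← Nat.card_eq_of_bijective φ hb]
      have h := hp.cent
      simp only [centC, Bool.and_eq_true] at h
      rw [Nat.card_eq_fintype_card, Fintype.card_of_subtype
        ((List.range 1152).filter fun q => cm2 q c).toFinset (fun n => List.mem_toFinset),
        List.toFinset_card_of_nodup (List.nodup_range.filter _), Nat.eq_of_beq_eq_true h.2]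
    have h36 : 2 ^ i ∣ 36 := hi ▸ (card_dvd_of_le hle).trans hcard
    rw [hi]
    have : 2 ^ i ∣ 4 * 9 := h36
    exact (Nat.Coprime.dvd_of_dvd_mul_right (Nat.Coprime.pow_left i (by norm_num)) this)
  -- the four group
  have hW4 : (S.W s).ncard = 4 := by
    obtain ⟨hsz, hsz1, hs1⟩ := S.s_ne hp
    rw [W, Set.ncard_eq_four]
    exact ⟨1, z, S.f s, S.f s * z, S.z_ne.symm, hs1.symm, hsz1.symm, hsz.symm,
      fun e => hs1 (mul_eq_right.1 e.symm), fun e => S.z_ne (mul_eq_left.1 e.symm), rfl⟩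
  have hWP : S.W s ⊆ (P : Set G) := by
    rintro a (rfl | rfl | rfl | ha)
    · exact P.one_mem
    · exact hzP
    · exact hsP
    · rw [Set.mem_singleton_iff.1 ha]; exact P.mul_mem hsP hzP
  have hPcard : Nat.card P ≤ 4 := by
    have : Nat.card P' = Nat.card P := card_map_of_injective (MulAut.conj k).injective
    rw [← this]
    exact Nat.le_of_dvd (by norm_num) h4
  have heq := Set.eq_of_subset_of_ncard_le hWP (by rw [hW4, ← Nat.card_coe_set_eq]; exact hPcard)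
    (Set.toFinite _)
  rw [heq]
  exact hp'

/-- The three-cycle. -/
theorem exists_cycle [Finite G] :
    ∃ g : G, Commute g (S.f c) ∧ Odd (orderOf g) ∧ g * z * g⁻¹ = S.f s ∧
      g * S.f s * g⁻¹ = S.f s * z ∧ g * (S.f s * z) * g⁻¹ = z ∧ (∃ i, i < 3 ∧ g ^ 3 = S.f c ^ i) ∧
      g ^ 9 = 1 := by
  obtain ⟨hc3, hc1, hs2, hsc, hcE, hdE, hsd, h288c, h288s⟩ := S.basics hp
  haveI : Fact (Nat.Prime 2) := ⟨Nat.prime_two⟩
  obtain ⟨hsz, hsz1, hs1⟩ := S.s_ne hp
  obtain ⟨m, m1, m2, m3⟩ := S.exists_exchange_c hp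
  have hss := sq_of_orderOf hs2
  have hzs : z * S.f s = S.f s * z := (S.f_comm s).symm.eq
  have hm3 : m * S.f c * m⁻¹ = (S.f c)⁻¹ := by
    refine m3.resolve_left fun e => ?_
    -- a transposition would enlarge the Sylow two-subgroup
    have hmc : Commute m (S.f c) := commute_of_conj_eq e
    obtain ⟨a, r, hr, hor⟩ := Nat.exists_eq_two_pow_mul_odd (orderOf_pos m).ne'
    have h2 : (m ^ r) ^ 2 ^ a = 1 := by rw [← pow_mul, mul_comm, ← hor, pow_orderOf_eq_one]
    obtain ⟨i, rfl⟩ := hr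
    have hmm : Commute (m ^ 2) z ∧ Commute (m ^ 2) (S.f s) := by
      constructor <;> refine commute_of_conj_eq ?_
      · rw [sq, show m * m * z * (m * m)⁻¹ = m * (m * z * m⁻¹) * m⁻¹ by group, m1, m2]
      · rw [sq, show m * m * S.f s * (m * m)⁻¹ = m * (m * S.f s * m⁻¹) * m⁻¹ by group, m2, m1]
    have r1 : m ^ (2 * i + 1) * z * (m ^ (2 * i + 1))⁻¹ = S.f s := by
      rw [pow_succ', pow_mul, show m * (m ^ 2) ^ i * z * (m * (m ^ 2) ^ i)⁻¹ =
        m * ((m ^ 2) ^ i * z * ((m ^ 2) ^ i)⁻¹) * m⁻¹ by group,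
        conj_eq_of_commute (hmm.1.pow_left i), m1]
    have r2 : m ^ (2 * i + 1) * S.f s * (m ^ (2 * i + 1))⁻¹ = z := by
      rw [pow_succ', pow_mul, show m * (m ^ 2) ^ i * S.f s * (m * (m ^ 2) ^ i)⁻¹ =
        m * ((m ^ 2) ^ i * S.f s * ((m ^ 2) ^ i)⁻¹) * m⁻¹ by group,
        conj_eq_of_commute (hmm.2.pow_left i), m2]
    set q := m ^ (2 * i + 1)
    let V : Subgroup G := zpowers z ⊔ zpowers (S.f s)
    have hV : IsPGroup 2 V := by
      refine IsPGroup.to_sup_of_normal_right' (Tools.isPGroup_zpowers (k := 1) (by rw [pow_one, sq, S.z_sq]))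
        (Tools.isPGroup_zpowers (k := 1) (by rw [pow_one, sq, hss])) ?_
      rw [zpowers_le]
      refine Tools.mem_normalizer_of fun b hb => ?_
      obtain ⟨j, rfl⟩ := mem_zpowers_iff.1 hb
      rw [((S.f_comm s).symm.zpow_right j).eq, mul_inv_cancel_right]
      exact hb
    have hnorm : q ∈ normalizer (V : Set G) := by
      refine Tools.mem_normalizer_of fun b hb => ?_
      have hmap : V.map (MulAut.conj q).toMonoidHom ≤ V := by
        rw [Subgroup.map_sup, MonoidHom.map_zpowers, MonoidHom.map_zpowers]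
        show zpowers (q * z * q⁻¹) ⊔ zpowers (q * S.f s * q⁻¹) ≤ _
        rw [r1, r2, sup_comm]
      exact hmap ⟨b, hb, rfl⟩
    have hP : IsPGroup 2 ↥(zpowers q ⊔ V) :=
      IsPGroup.to_sup_of_normal_right' (Tools.isPGroup_zpowers h2) hV (zpowers_le.2 hnorm)
    have hle : zpowers q ⊔ V ≤ centralizer ({S.f c} : Set G) :=
      sup_le (zpowers_le.2 (mem_cent.2 (hmc.pow_left _)))
        (sup_le (zpowers_le.2 (mem_cent.2 (S.f_comm c).symm)) (zpowers_le.2 (mem_cent.2 hsc)))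
    have hq := S.two_sylow hp hP hle (mem_sup_right (mem_sup_left (mem_zpowers z)))
      (mem_sup_right (mem_sup_right (mem_zpowers _))) q (mem_sup_left (mem_zpowers q))
    exact hsz (by rw [← r1, conj_eq_of_commute (S.W_facts hp hq).1])
  set g0 := m * S.f 288 with hg0
  have hz288 : S.f 288 * z * (S.f 288)⁻¹ = z := conj_eq_of_commute (S.f_comm 288)
  have conj0 : ∀ a, g0 * a * g0⁻¹ = m * (S.f 288 * a * (S.f 288)⁻¹) * m⁻¹ := fun a => by rw [hg0]; group
  have q1 : g0 * z * g0⁻¹ = S.f s := by rw [conj0, hz288, m1]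
  have q2 : g0 * S.f s * g0⁻¹ = S.f s * z := by
    rw [conj0, h288s, show m * (S.f s * z) * m⁻¹ = (m * S.f s * m⁻¹) * (m * z * m⁻¹) by group, m1, m2, hzs]
  have q3 : g0 * (S.f s * z) * g0⁻¹ = z := by
    rw [show g0 * (S.f s * z) * g0⁻¹ = (g0 * S.f s * g0⁻¹) * (g0 * z * g0⁻¹) by group, q1, q2, mul_assoc,
      hzs, ← mul_assoc, hss, one_mul]
  have qc : Commute g0 (S.f c) := by
    refine commute_of_conj_eq ?_
    rw [conj0, h288c, show m * (S.f c)⁻¹ * m⁻¹ = (m * S.f c * m⁻¹)⁻¹ by group, hm3, inv_inv]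
  obtain ⟨a, r, hr, hor⟩ := Nat.exists_eq_two_pow_mul_odd (orderOf_pos g0).ne'
  have hper : Commute (g0 ^ 3) z ∧ Commute (g0 ^ 3) (S.f s) := by
    constructor <;> refine commute_of_conj_eq ?_
    · rw [show g0 ^ 3 * z * (g0 ^ 3)⁻¹ = g0 * (g0 * (g0 * z * g0⁻¹) * g0⁻¹) * g0⁻¹ by rw [pow_succ, pow_two]; group, q1, q2, q3]
    · rw [show g0 ^ 3 * S.f s * (g0 ^ 3)⁻¹ = g0 * (g0 * (g0 * S.f s * g0⁻¹) * g0⁻¹) * g0⁻¹ by rw [pow_succ, pow_two]; group,
        q2, q3, q1]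
  obtain ⟨j, hj⟩ : ∃ j, 4 ^ a = 3 * j + 1 := by
    refine ⟨(4 ^ a) / 3, ?_⟩
    have : 4 ^ a % 3 = 1 := by rw [Nat.pow_mod]; norm_num
    omega
  set g := g0 ^ 4 ^ a with hg
  have hgact : ∀ x, (x = z ∨ x = S.f s ∨ x = S.f s * z) → g * x * g⁻¹ = g0 * x * g0⁻¹ := by
    intro x hx
    have hcx : Commute ((g0 ^ 3) ^ j) x := by
      rcases hx with rfl | rfl | rfl
      · exact hper.1.pow_left j
      · exact hper.2.pow_left j
      · exact (hper.2.pow_left j).mul_right (hper.1.pow_left j)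
    rw [hg, hj, pow_succ', pow_mul, show g0 * (g0 ^ 3) ^ j * x * (g0 * (g0 ^ 3) ^ j)⁻¹ =
      g0 * ((g0 ^ 3) ^ j * x * ((g0 ^ 3) ^ j)⁻¹) * g0⁻¹ by group, conj_eq_of_commute hcx]
  have hodd : Odd (orderOf g) := by
    refine Tools.odd_orderOf_iff.2 ⟨r, hr, ?_⟩
    rw [hg, ← pow_mul, show (4 : ℕ) = 2 ^ 2 by norm_num, ← pow_mul, show 2 * a = a + a by ring, pow_add,
      mul_assoc, ← hor, mul_comm, pow_mul, pow_orderOf_eq_one, one_pow]
  have g1 : g * z * g⁻¹ = S.f s := (hgact _ (Or.inl rfl)).trans q1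
  have g2 : g * S.f s * g⁻¹ = S.f s * z := (hgact _ (Or.inr (Or.inl rfl))).trans q2
  have g3 : g * (S.f s * z) * g⁻¹ = z := (hgact _ (Or.inr (Or.inr rfl))).trans q3
  have hcube : Commute (g ^ 3) z ∧ Commute (g ^ 3) (S.f s) := by
    constructor <;> refine commute_of_conj_eq ?_
    · rw [show g ^ 3 * z * (g ^ 3)⁻¹ = g * (g * (g * z * g⁻¹) * g⁻¹) * g⁻¹ by rw [pow_succ, pow_two]; group, g1, g2, g3]
    · rw [show g ^ 3 * S.f s * (g ^ 3)⁻¹ = g * (g * (g * S.f s * g⁻¹) * g⁻¹) * g⁻¹ by rw [pow_succ, pow_two]; group, g2, g3, g1]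
  have hgc : Commute g (S.f c) := qc.pow_left _
  obtain ⟨i, hi, e3⟩ := S.cent_both_odd hp hcube.1 hcube.2 (hgc.pow_left 3) (Tools.odd_orderOf_pow hodd 3)
  refine ⟨g, hgc, hodd, g1, g2, g3, ⟨i, hi, e3⟩, ?_⟩
  rw [show 9 = 3 * 3 from rfl, pow_mul, e3, ← pow_mul, mul_comm, pow_mul, hc3, one_pow]

end Setup

end Cfsg.Agent.Lib.U43Type85
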