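import Cfsg.Agent.Lib.U43Type85.CentE
import Cfsg.Agent.Lib.Goldschmidt53.RankTwoBadBW

/-!
# U4(3) type: the abelian group of order 81

`J` consists of the elements of odd order centralising `⟨a, b⟩`; it is elementary abelian of order 81 and
contains its centraliser.

Owner: helper85.
-/

set_option autoImplicit false

namespace Cfsg.Agent.Lib.U43Type85

open Subgroup Tools

namespace Setup

variable {G : Type*} [Group G] {z : G} (S : Setup z)

/-- The elements of odd order centralising `⟨a, b⟩`. -/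
def J : Subgroup G := closure {x | x ∈ S.CE ∧ Odd (orderOf x)}

theorem mem_J [Finite G] {x : G} : x ∈ S.J ↔ x ∈ S.CE ∧ Odd (orderOf x) := by
  obtain ⟨R, hR, -, hmem⟩ := Tools.exists_odd_part S.card_CE_mod
  have he : S.J = R := by
    refine le_antisymm ((closure_le _).2 fun y hy => (hmem y hy.1).2 hy.2) fun y hy => ?_
    exact subset_closure ⟨hR hy, (hmem y (hR hy)).1 hy⟩
  rw [he]
  exact ⟨fun h => ⟨hR h, (hmem x (hR h)).1 h⟩, fun h => (hmem x h.1).2 h.2⟩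

theorem J_le_CE [Finite G] : S.J ≤ S.CE := fun _ h => (S.mem_J.1 h).1

theorem E_le_J [Finite G] : S.E ≤ S.J := fun x hx => S.mem_J.2
  ⟨S.mem_CE.2 ⟨S.E_comm hx S.a_mem, S.E_comm hx S.b_mem⟩,
    Tools.odd_of_three_pow (k := 1) (by rw [pow_one]; exact S.E_cube hx)⟩

theorem odd_J [Finite G] : Odd (Nat.card S.J) := by
  rw [← Nat.not_even_iff_odd, even_iff_two_dvd]
  intro h
  haveI : Fact (Nat.Prime 2) := ⟨Nat.prime_two⟩
  obtain ⟨x, hx⟩ := exists_prime_orderOf_dvd_card' (G := S.J) 2 h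
  have := (S.mem_J.1 x.2).2
  rw [orderOf_coe, hx] at this
  exact absurd this (by decide)

theorem z_notMem_J [Finite G] : z ∉ S.J := fun h => by
  have := (S.mem_J.1 h).2
  rw [S.orderOf_z] at this
  exact absurd this (by decide)

theorem J_conj [Finite G] {g x : G} (hg : ∀ e ∈ S.E, g⁻¹ * e * g ∈ S.E) (hx : x ∈ S.J) :
    g * x * g⁻¹ ∈ S.J :=
  S.mem_J.2 ⟨S.CE_conj hg (S.J_le_CE hx), by rw [Tools.orderOf_conj]; exact (S.mem_J.1 hx).2⟩

theorem z_conj_J [Finite G] {x : G} (hx : x ∈ S.J) : z * x * z⁻¹ ∈ S.J :=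
  S.J_conj (fun e he => by rwa [mul_assoc, (S.E_z he).eq, inv_mul_cancel_left]) hx

theorem J_cent_z [Finite G] {x : G} (hx : x ∈ S.J) (hz : Commute x z) : x ∈ S.E := by
  refine (S.CE_z (S.J_le_CE hx) hz).resolve_right fun h => S.z_notMem_J ?_
  have := S.J.mul_mem (S.J.inv_mem hx) (S.E_le_J h)
  rwa [inv_mul_cancel_left] at this

theorem CE_cases [Finite G] {x : G} (hx : x ∈ S.CE) : x ∈ S.J ∨ x * z ∈ S.J := by
  obtain ⟨R, hR, hcard, hmem⟩ := Tools.exists_odd_part S.card_CE_mod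
  have he : ∀ y, y ∈ S.CE → (y ∈ R ↔ y ∈ S.J) := fun y hy => by rw [hmem y hy, S.mem_J, and_iff_right hy]
  have hidx : (R.subgroupOf S.CE).index = 2 := by
    have h1 := card_mul_index (R.subgroupOf S.CE)
    rw [Nat.card_congr (subgroupOfEquivOfLe hR).toEquiv] at h1
    exact Nat.eq_of_mul_eq_mul_left Nat.card_pos (h1.trans (by rw [← hcard, mul_comm]))
  have := Subgroup.mul_mem_iff_of_index_two hidx (a := ⟨x, hx⟩) (b := ⟨z, S.z_mem_CE⟩)
  simp only [mem_subgroupOf, MulMemClass.coe_mul, he x hx, he z S.z_mem_CE,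
    he _ (S.CE.mul_mem hx S.z_mem_CE), S.z_notMem_J, iff_false] at this
  exact (em (x ∈ S.J)).imp id this.2

variable {c s d : ℕ} (hp : IsPrm c s d)
include hp

theorem conj_mem_E {h : ℕ} (hh : h = s ∨ h = 288) {e : G} (he : e ∈ S.E) :
    S.f h * e * (S.f h)⁻¹ ∈ S.E := by
  obtain ⟨n, hn, rfl⟩ := he
  have hb := hp.basic
  simp only [basicC, Bool.and_eq_true] at hb
  have := all_mem hb.2 hn
  simp only [Bool.and_eq_true, memb_iff] at this
  rcases hh with rfl | rfl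
  · exact ⟨_, this.1, S.f_cj hp.lt.2.1 (e9_lt n hn)⟩
  · exact ⟨_, this.2, S.f_cj (by norm_num) (e9_lt n hn)⟩

theorem conj_mem_J [Finite G] {h : ℕ} (hh : h = s ∨ h = 288) {x : G} (hx : x ∈ S.J) :
    S.f h * x * (S.f h)⁻¹ ∈ S.J := by
  refine S.J_conj (fun e he => ?_) hx
  have := (mem_normalizer_iff.1 (inv_mem (Tools.mem_normalizer_of fun a ha => S.conj_mem_E hp hh ha)) e).1 he
  rwa [inv_inv] at this

/-- An element of the centraliser of `E` outside `E`. -/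
theorem exists_outside [Finite G] : ∃ y ∈ S.J, y ∉ S.E := by
  haveI : Fact (Nat.Prime 3) := ⟨Nat.prime_three⟩
  obtain ⟨hc3, hc1, -, -, hcE, -⟩ := S.basics hp
  set C := centralizer ({S.f c} : Set G)
  obtain ⟨P, hEP, hPC, hP, hcard, -⟩ :=
    sylow_in 3 (H := C) (fun x hx => mem_cent.2 (S.E_comm hx hcE)) S.E_isPGroup
  have h27 : 27 ≤ Nat.card P := by
    rw [hcard]
    exact Nat.pow_le_pow_right (by norm_num : 0 < 3)
      ((Nat.Prime.pow_dvd_iff_le_factorization Nat.prime_three Nat.card_pos.ne').1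
        (show 3 ^ 3 ∣ Nat.card C from S.three_cent hp))
  have hlt : S.E.subgroupOf P < ⊤ := by
    refine lt_top_iff_ne_top.2 fun e => ?_
    have := card_top (G := P)
    rw [← e, Nat.card_congr (subgroupOfEquivOfLe hEP).toEquiv, S.card_E] at this
    omega
  haveI := hP.isNilpotent
  obtain ⟨y, hy, hyE⟩ := SetLike.exists_of_lt (normalizerCondition_of_isNilpotent (G := P) _ hlt)
  have hy' : ∀ e ∈ S.E, (y : G) * e * (y : G)⁻¹ ∈ S.E := fun e he =>
    (mem_normalizer_iff.1 hy ⟨e, hEP he⟩).1 he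
  obtain ⟨k, hk⟩ := hP y
  have hyk : (y : G) ^ 3 ^ k = 1 := congrArg Subtype.val hk
  have hodd := Tools.odd_of_three_pow hyk
  refine ⟨y, S.mem_J.2 ⟨?_, hodd⟩, hyE⟩
  have hyn := Tools.mem_normalizer_of hy'
  have hzy : (y : G) * z * (y : G)⁻¹ ∈ S.CE := S.CE_conj (fun e he => by
    have := (mem_normalizer_iff.1 (inv_mem hyn) e).1 he
    rwa [inv_inv] at this) S.z_mem_CE
  obtain ⟨q, hq, eq⟩ := S.CE_conj_z hzy (by rw [Tools.orderOf_conj, S.orderOf_z])
  have hqz : Commute (q * y) z := commute_of_conj_eq (by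
    rw [show q * y * z * (q * y)⁻¹ = q * (y * z * (y : G)⁻¹) * q⁻¹ by group]; exact eq)
  obtain ⟨h, hh, eh⟩ := S.f_surj _ hqz
  have hact : ∀ x ∈ S.E, q * y * x * (q * y)⁻¹ = y * x * (y : G)⁻¹ := fun x hx => by
    rw [show q * y * x * (q * y)⁻¹ = q * (y * x * (y : G)⁻¹) * q⁻¹ by group,
      conj_eq_of_commute (S.CE_comm hq (hy' x hx))]
  have code : ∀ x ∈ e9, ∀ v < 1152, (y : G) * S.f x * (y : G)⁻¹ = S.f v → cj h x = v := fun x hx v hv e => by
    refine S.code_of_conj hh (e9_lt x hx) hv ?_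
    rw [eh, hact _ ⟨x, hx, rfl⟩, e]
  have hne : h ∈ neList := by
    refine List.mem_filter.2 ⟨List.mem_range.2 hh, ?_⟩
    obtain ⟨u, hu, eu⟩ := hy' _ S.a_mem
    obtain ⟨v, hv, ev⟩ := hy' _ S.b_mem
    rw [code 24 (by simp [e9]) u (e9_lt u hu) eu.symm, code 1 (by simp [e9]) v (e9_lt v hv) ev.symm,
      Bool.and_eq_true]
    exact ⟨memb_iff.2 hu, memb_iff.2 hv⟩
  have hhc : cm2 h c = true := by
    rw [S.cm2_iff hh hp.lt.1, eh]
    exact (mem_cent.1 (S.CE_le_cent hp hq)).mul_left (mem_cent.1 (hPC y.2))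
  have hN := hp.normE'
  simp only [normE, Bool.and_eq_true] at hN
  have h2 := all_mem hN.2 hne
  simp only [hhc, Bool.not_true, Bool.false_or, Bool.and_eq_true] at h2
  have key : ∀ x ∈ e9, cj h (cj h x) = x → Commute ((y : G) * y) (S.f x) := fun x hx e => by
    refine commute_of_conj_eq ?_
    have hx' : S.f x ∈ S.E := ⟨x, hx, rfl⟩
    have := congrArg S.f e
    rw [S.f_cj hh (cj_lt hh (e9_lt x hx)), S.f_cj hh (e9_lt x hx), eh, hact _ hx', hact _ (hy' _ hx')] at this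
    rw [show (y : G) * y * S.f x * ((y : G) * y)⁻¹ = y * (y * S.f x * (y : G)⁻¹) * (y : G)⁻¹ by group]
    exact this
  exact Tools.mem_of_sq_mem hodd (S.mem_CE.2 ⟨key 24 (by simp [e9]) (Nat.eq_of_beq_eq_true h2.1),
    key 1 (by simp [e9]) (Nat.eq_of_beq_eq_true h2.2)⟩)

omit hp in
theorem conj_inf_le [Finite G] {k t : G} {T : G} (hk : ∀ x ∈ S.J, k * x * k⁻¹ ∈ S.J)
    (ht : k * t * k⁻¹ = T) :
    (S.J ⊓ centralizer ({t} : Set G)).map (MulAut.conj k).toMonoidHom ≤ S.J ⊓ centralizer ({T} : Set G) := by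
  rintro _ ⟨x, hx, rfl⟩
  exact ⟨hk x hx.1, mem_cent.2 (ht ▸ commute_conj (g := k) (mem_cent.1 hx.2))⟩

/-- The order of `J`, its fixed points and its normalisation by the three-cycle. -/
theorem J_struct [Finite G] {g : G} (hgc : Commute g (S.f c)) (g1 : g * z * g⁻¹ = S.f s)
    (g2 : g * S.f s * g⁻¹ = S.f s * z) (hg3 : ∃ i, i < 3 ∧ g ^ 3 = S.f c ^ i) :
    Nat.card S.J = 81 ∧ (∀ x ∈ S.J, ∀ y ∈ S.J, Commute x y) ∧ (∀ x ∈ S.J, x ^ 3 = 1) ∧
      (∀ x ∈ S.J, g * x * g⁻¹ ∈ S.J) ∧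
      (∀ x, x ∈ S.J ↔ ∃ e1 ∈ S.E, ∃ e2 ∈ S.E, ∃ e3 ∈ S.E,
        x = e1 * (g * e2 * g⁻¹) * (g * g * e3 * (g * g)⁻¹)) := by
  obtain ⟨hc, hs, hd⟩ := hp.lt
  obtain ⟨hc3, hc1, hs2, hsc, hcE, hdE, hsd, h288c, h288s⟩ := S.basics hp
  have hsz := S.f_comm s
  have hss := sq_of_orderOf hs2
  have hzz := S.z_sq
  have hzs : z * S.f s = S.f s * z := hsz.symm.eq
  set A := S.J ⊓ centralizer ({z} : Set G) with hAdef
  set B := S.J ⊓ centralizer ({S.f s} : Set G) with hBdef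
  set D := S.J ⊓ centralizer ({S.f s * z} : Set G) with hDdef
  have hA : A = S.E := le_antisymm (fun x hx => S.J_cent_z hx.1 (mem_cent.1 hx.2))
    fun x hx => ⟨S.E_le_J hx, mem_cent.2 (S.E_z hx)⟩
  have hJc : ∀ x ∈ S.J, Commute x (S.f c) := fun x hx => mem_cent.1 (S.CE_le_cent hp (S.J_le_CE hx))
  have hback : ∀ x, x ∈ S.J → Commute x (S.f s) → g⁻¹ * x * g ∈ S.E := by
    intro x hx hxs
    refine S.cent_c_odd hp ?_ ?_ ?_
    · have := commute_conj (g := g⁻¹) hxs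
      rwa [inv_inv, conj_back g1] at this
    · have := commute_conj (g := g⁻¹) (hJc x hx)
      rwa [inv_inv, mul_assoc g⁻¹ (S.f c) g, ← hgc.eq, inv_mul_cancel_left] at this
    · rw [show g⁻¹ * x * g = g⁻¹ * x * g⁻¹⁻¹ by group, Tools.orderOf_conj]
      exact (S.mem_J.1 hx).2
  have hback2 : ∀ x, x ∈ S.J → Commute x (S.f s * z) → (g * g)⁻¹ * x * (g * g) ∈ S.E := by
    intro x hx hxs
    have g12 : g * g * z * (g * g)⁻¹ = S.f s * z := by
      rw [show g * g * z * (g * g)⁻¹ = g * (g * z * g⁻¹) * g⁻¹ by group, g1, g2]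
    refine S.cent_c_odd hp ?_ ?_ ?_
    · have := commute_conj (g := (g * g)⁻¹) hxs
      rwa [inv_inv, conj_back g12] at this
    · have := commute_conj (g := (g * g)⁻¹) (hJc x hx)
      rwa [inv_inv, mul_assoc (g * g)⁻¹ (S.f c) (g * g), ← (hgc.mul_left hgc).eq, inv_mul_cancel_left] at this
    · rw [show (g * g)⁻¹ * x * (g * g) = (g * g)⁻¹ * x * (g * g)⁻¹⁻¹ by rw [inv_inv], Tools.orderOf_conj]
      exact (S.mem_J.1 hx).2
  set E1 := S.E.map (MulAut.conj g).toMonoidHom with hE1def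
  set E2 := S.E.map (MulAut.conj (g * g)).toMonoidHom with hE2def
  have hBle : B ≤ E1 := fun x hx => ⟨_, hback x hx.1 (mem_cent.1 hx.2), by simp [mul_assoc]⟩
  have hDle : D ≤ E2 := fun x hx => ⟨_, hback2 x hx.1 (mem_cent.1 hx.2), by simp [mul_assoc]⟩
  have cE1 : Nat.card E1 = 9 := by rw [card_map_of_injective (MulAut.conj g).injective, S.card_E]
  have cE2 : Nat.card E2 = 9 := by rw [card_map_of_injective (MulAut.conj (g * g)).injective, S.card_E]
  have cA : Nat.card A = 9 := by rw [hA, S.card_E]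
  have hBD : Nat.card B = Nat.card D := by
    have h288J : ∀ x ∈ S.J, S.f 288 * x * (S.f 288)⁻¹ ∈ S.J := fun x hx => S.conj_mem_J hp (Or.inr rfl) hx
    have e2 : S.f 288 * (S.f s * z) * (S.f 288)⁻¹ = S.f s := by
      rw [show S.f 288 * (S.f s * z) * (S.f 288)⁻¹ =
        (S.f 288 * S.f s * (S.f 288)⁻¹) * (S.f 288 * z * (S.f 288)⁻¹) by group, h288s,
        conj_eq_of_commute (S.f_comm 288), mul_assoc, hzz, mul_one]
    have k1 := card_le_of_le (S.conj_inf_le h288J h288s)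
    have k2 := card_le_of_le (S.conj_inf_le h288J e2)
    rw [card_map_of_injective (MulAut.conj (S.f 288)).injective] at k1 k2
    exact le_antisymm k1 k2
  have hAB : A ⊓ centralizer ({S.f s} : Set G) = zpowers (S.f c) := by
    refine le_antisymm (fun x hx => ?_) (zpowers_le.2 ⟨⟨S.E_le_J hcE, mem_cent.2 (S.f_comm c)⟩, mem_cent.2 hsc.symm⟩)
    obtain ⟨i, -, rfl⟩ := S.cent_both_odd hp (mem_cent.1 hx.1.2) (mem_cent.1 hx.2) (hJc x hx.1.1)
      (S.mem_J.1 hx.1.1).2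
    exact pow_mem (mem_zpowers _) i
  have cAB : Nat.card ↥(A ⊓ centralizer ({S.f s} : Set G)) = 3 := by
    haveI : Fact (Nat.Prime 3) := ⟨Nat.prime_three⟩
    rw [hAB, Nat.card_zpowers, orderOf_eq_prime_iff.2 ⟨hc3, hc1⟩]
  have zsEq : z * S.f s = S.f s * z := hzs
  have hbw := Goldschmidt53.RankTwoBad.brauer_wielandt S.J S.odd_J hzz hss zsEq
    (fun x hx => S.z_conj_J hx) (fun x hx => S.conj_mem_J hp (Or.inl rfl) hx)
  rw [← hAdef, ← hBdef, cAB, cA, zsEq, ← hDdef, ← hBD] at hbw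
  -- the order
  have hJ : Nat.card S.J = Nat.card B * Nat.card B := by
    rw [mul_assoc] at hbw
    exact Nat.eq_of_mul_eq_mul_right (by norm_num : 0 < 9) (hbw.trans (mul_comm _ _))
  have hB9 : Nat.card B ∣ 3 ^ 2 := by
    have := card_dvd_of_le hBle
    rwa [cE1] at this
  obtain ⟨y, hyJ, hyE⟩ := S.exists_outside hp
  have hgt : 9 < Nat.card S.J := by
    rw [← S.card_E]
    refine lt_of_le_of_ne (card_le_of_le S.E_le_J) fun e => hyE ?_
    rwa [eq_of_le_of_card_ge S.E_le_J e.ge]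
  have cB : Nat.card B = 9 := by
    obtain ⟨k, hk, e⟩ := (Nat.dvd_prime_pow Nat.prime_three).1 hB9
    rw [e] at hJ ⊢
    interval_cases k <;> first | rfl | (exfalso; omega)
  have cD : Nat.card D = 9 := hBD ▸ cB
  have c81 : Nat.card S.J = 81 := by rw [hJ, cB]
  have hB : B = E1 := eq_of_le_of_card_ge hBle (by rw [cE1, cB])
  have hD : D = E2 := eq_of_le_of_card_ge hDle (by rw [cE2, cD])
  -- generation
  set K := A ⊔ B ⊔ D with hKdef
  have hKJ : K ≤ S.J := sup_le (sup_le inf_le_left inf_le_left) inf_le_left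
  have hnormK : ∀ k, (∀ x ∈ S.J, k * x * k⁻¹ ∈ S.J) → Commute k z → Commute k (S.f s) →
      ∀ x ∈ K, k * x * k⁻¹ ∈ K := by
    intro k hk hkz hks x hx
    have : K.map (MulAut.conj k).toMonoidHom ≤ K := by
      rw [hKdef, Subgroup.map_sup, Subgroup.map_sup]
      exact sup_le_sup (sup_le_sup (S.conj_inf_le hk (conj_eq_of_commute hkz))
        (S.conj_inf_le hk (conj_eq_of_commute hks))) (S.conj_inf_le hk (conj_eq_of_commute (hks.mul_right hkz)))
    exact this ⟨x, hx, rfl⟩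
  have hKeq : K = S.J := by
    refine eq_of_le_of_card_ge hKJ (le_of_eq ?_)
    have hkA : K ⊓ centralizer ({z} : Set G) = A :=
      le_antisymm (fun x hx => ⟨hKJ hx.1, hx.2⟩) fun x hx => ⟨mem_sup_left (mem_sup_left hx), hx.2⟩
    have hkB : K ⊓ centralizer ({S.f s} : Set G) = B :=
      le_antisymm (fun x hx => ⟨hKJ hx.1, hx.2⟩) fun x hx => ⟨mem_sup_left (mem_sup_right hx), hx.2⟩
    have hkD : K ⊓ centralizer ({S.f s * z} : Set G) = D :=
      le_antisymm (fun x hx => ⟨hKJ hx.1, hx.2⟩) fun x hx => ⟨mem_sup_right hx, hx.2⟩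
    have h2 := Goldschmidt53.RankTwoBad.brauer_wielandt K (S.odd_J.of_dvd_nat (card_dvd_of_le hKJ)) hzz hss zsEq
      (hnormK z (fun x hx => S.z_conj_J hx) (Commute.refl z) hsz.symm)
      (hnormK _ (fun x hx => S.conj_mem_J hp (Or.inl rfl) hx) hsz (Commute.refl _))
    rw [hkA, cAB, cA, hkB, cB, zsEq, hkD, cD] at h2
    rw [c81]
    omega
  obtain ⟨i, -, hi⟩ := hg3
  have g3E : ∀ e ∈ S.E, g * (g * g * e * (g * g)⁻¹) * g⁻¹ = e := fun e he => by
    rw [show g * (g * g * e * (g * g)⁻¹) * g⁻¹ = g ^ 3 * e * (g ^ 3)⁻¹ by rw [pow_succ, pow_two]; group, hi,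
      conj_eq_of_commute ((S.E_comm hcE he).pow_left i)]
  have hgJ : ∀ x ∈ S.J, g * x * g⁻¹ ∈ S.J := by
    have : K.map (MulAut.conj g).toMonoidHom ≤ S.J := by
      rw [hKdef, Subgroup.map_sup, Subgroup.map_sup]
      refine sup_le (sup_le ?_ ?_) ?_
      · rw [hA, ← hE1def, ← hB]
        exact inf_le_left
      · rw [hB]
        rintro _ ⟨_, ⟨e, he, rfl⟩, rfl⟩
        have : g * g * e * (g * g)⁻¹ ∈ D := hD ▸ ⟨e, he, rfl⟩
        show g * (g * e * g⁻¹) * g⁻¹ ∈ _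
        rw [show g * (g * e * g⁻¹) * g⁻¹ = g * g * e * (g * g)⁻¹ by group]
        exact this.1
      · rw [hD]
        rintro _ ⟨_, ⟨e, he, rfl⟩, rfl⟩
        show g * (g * g * e * (g * g)⁻¹) * g⁻¹ ∈ _
        rw [g3E e he]
        exact S.E_le_J he
    intro x hx
    exact this ⟨x, hKeq ▸ hx, rfl⟩
  have hgN := Tools.mem_normalizer_of hgJ
  have hEc : ∀ x ∈ S.J, ∀ e ∈ S.E, Commute e x := fun x hx e he => (S.CE_comm (S.J_le_CE hx) he).symm
  have hcen : ∀ k, k ∈ normalizer (S.J : Set G) → ∀ x ∈ S.J, ∀ e ∈ S.E, Commute (k * e * k⁻¹) x := by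
    intro k hk x hx e he
    have h1 := (mem_normalizer_iff.1 (inv_mem hk) x).1 hx
    rw [inv_inv] at h1
    have := commute_conj (g := k) (hEc _ h1 e he)
    rwa [show k * (k⁻¹ * x * k) * k⁻¹ = x by group] at this
  have hle : K ≤ centralizer (S.J : Set G) := by
    refine sup_le (sup_le ?_ ?_) ?_
    · rw [hA]; exact fun e he => mem_centralizer_iff.2 fun x hx => (hEc x hx e he).eq.symm
    · rw [hB]; rintro _ ⟨e, he, rfl⟩; exact mem_centralizer_iff.2 fun x hx => (hcen g hgN x hx e he).eq.symm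
    · rw [hD]; rintro _ ⟨e, he, rfl⟩
      exact mem_centralizer_iff.2 fun x hx => (hcen _ (mul_mem hgN hgN) x hx e he).eq.symm
  have hcomm : ∀ x ∈ S.J, ∀ y ∈ S.J, Commute x y := fun x hx y hy =>
    ((mem_centralizer_iff.1 (hle (hKeq ▸ hx))) y hy).symm
  have hE1J : ∀ e ∈ S.E, g * e * g⁻¹ ∈ S.J := fun e he => hgJ e (S.E_le_J he)
  have hE2J : ∀ e ∈ S.E, g * g * e * (g * g)⁻¹ ∈ S.J := fun e he => by
    rw [show g * g * e * (g * g)⁻¹ = g * (g * e * g⁻¹) * g⁻¹ by group]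
    exact hgJ _ (hE1J e he)
  have hdec : ∀ x, x ∈ S.J ↔ ∃ e1 ∈ S.E, ∃ e2 ∈ S.E, ∃ e3 ∈ S.E,
      x = e1 * (g * e2 * g⁻¹) * (g * g * e3 * (g * g)⁻¹) := by
    intro x
    constructor
    · intro hx
      let T : Subgroup G :=
        { carrier := {x | ∃ e1 ∈ S.E, ∃ e2 ∈ S.E, ∃ e3 ∈ S.E,
            x = e1 * (g * e2 * g⁻¹) * (g * g * e3 * (g * g)⁻¹)}
          one_mem' := ⟨1, one_mem _, 1, one_mem _, 1, one_mem _, by group⟩
          mul_mem' := by
            rintro _ _ ⟨a1, ha1, a2, ha2, a3, ha3, rfl⟩ ⟨b1, hb1, b2, hb2, b3, hb3, rfl⟩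
            refine ⟨a1 * b1, mul_mem ha1 hb1, a2 * b2, mul_mem ha2 hb2, a3 * b3, mul_mem ha3 hb3, ?_⟩
            rw [Tools.mul_three_comm (hcomm _ (hE1J _ ha2) _ (S.E_le_J hb1)) (hcomm _ (hE2J _ ha3) _ (S.E_le_J hb1))
              (hcomm _ (hE2J _ ha3) _ (hE1J _ hb2))]
            group
          inv_mem' := by
            rintro _ ⟨a1, ha1, a2, ha2, a3, ha3, rfl⟩
            refine ⟨a1⁻¹, inv_mem ha1, a2⁻¹, inv_mem ha2, a3⁻¹, inv_mem ha3, ?_⟩
            rw [Tools.inv_three_comm (hcomm _ (S.E_le_J ha1) _ (hE1J _ ha2)) (hcomm _ (S.E_le_J ha1) _ (hE2J _ ha3))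
              (hcomm _ (hE1J _ ha2) _ (hE2J _ ha3))]
            group }
      have : K ≤ T := by
        refine sup_le (sup_le ?_ ?_) ?_
        · rw [hA]; exact fun e he => ⟨e, he, 1, one_mem _, 1, one_mem _, by group⟩
        · rw [hB]; rintro _ ⟨e, he, rfl⟩
          exact ⟨1, one_mem _, e, he, 1, one_mem _, by simp⟩
        · rw [hD]; rintro _ ⟨e, he, rfl⟩
          exact ⟨1, one_mem _, 1, one_mem _, e, he, by simp [mul_assoc]⟩
      exact this (hKeq ▸ hx)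
    · rintro ⟨e1, h1, e2, h2, e3, h3, rfl⟩
      exact mul_mem (mul_mem (S.E_le_J h1) (hE1J _ h2)) (hE2J _ h3)
  refine ⟨c81, hcomm, fun x hx => ?_, hgJ, hdec⟩
  obtain ⟨e1, h1, e2, h2, e3, h3, rfl⟩ := (hdec x).1 hx
  rw [((hcomm _ (S.E_le_J h1) _ (hE2J _ h3)).mul_left (hcomm _ (hE1J _ h2) _ (hE2J _ h3))).mul_pow,
    (hcomm _ (S.E_le_J h1) _ (hE1J _ h2)).mul_pow, conj_pow, conj_pow, S.E_cube h1, S.E_cube h2, S.E_cube h3]
  group

end Setup

end Cfsg.Agent.Lib.U43Type85
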