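import Cfsg.Agent.Lib.U43Type85.Tools

/-!
# U4(3) type: counting lemmas on finite groups

Owner: helper85.
-/

set_option autoImplicit false

namespace Cfsg.Agent.Lib.U43Type85.Tools

open Subgroup
open scoped Pointwise

variable {G : Type*} [Group G] [Finite G]

/-- Elements of the extension of a subgroup by an element normalising it. -/
theorem mem_sup_pow {H : Subgroup G} {g : G} (hg : g ∈ normalizer (H : Set G)) {n : ℕ} (hn : 0 < n)
    (hgn : g ^ n ∈ H) {x : G} (hx : x ∈ H ⊔ zpowers g) : ∃ h ∈ H, ∃ i, i < n ∧ x = h * g ^ i := by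
  rw [← SetLike.mem_coe, coe_mul_of_right_le_normalizer_left _ _ (zpowers_le.2 hg)] at hx
  obtain ⟨h, hh, _, ⟨m, rfl⟩, rfl⟩ := hx
  have hn' : (0 : ℤ) < n := by exact_mod_cast hn
  obtain ⟨i, hi⟩ := Int.eq_ofNat_of_zero_le (Int.emod_nonneg m hn'.ne')
  refine ⟨h * (g ^ n) ^ (m / (n : ℤ)), mul_mem hh (zpow_mem hgn _), i, ?_, ?_⟩
  · have := Int.emod_lt_of_pos m hn'
    rw [hi] at this
    exact_mod_cast this
  · show h * g ^ m = _
    rw [mul_assoc, ← zpow_natCast g n, ← zpow_mul, ← zpow_natCast g i, ← zpow_add, ← hi,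
      Int.mul_ediv_add_emod]

theorem card_sup_le {H : Subgroup G} {g : G} (hg : g ∈ normalizer (H : Set G)) {n : ℕ} (hn : 0 < n)
    (hgn : g ^ n ∈ H) : Nat.card ↥(H ⊔ zpowers g) ≤ Nat.card H * n := by
  let f : H × Fin n → ↥(H ⊔ zpowers g) := fun p =>
    ⟨p.1 * g ^ (p.2 : ℕ), mul_mem (mem_sup_left p.1.2) (pow_mem (mem_sup_right (mem_zpowers g)) _)⟩
  have hf : Function.Surjective f := fun x => by
    obtain ⟨h, hh, i, hi, e⟩ := mem_sup_pow hg hn hgn x.2
    exact ⟨(⟨h, hh⟩, ⟨i, hi⟩), Subtype.ext e.symm⟩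
  refine (Nat.card_le_card_of_surjective f hf).trans ?_
  rw [Nat.card_prod, Nat.card_fin]

/-- A subgroup properly contained in another has at most half its order. -/
theorem two_mul_card_le {A B : Subgroup G} (h : A ≤ B) {x : G} (hx : x ∈ B) (hx' : x ∉ A) :
    2 * Nat.card A ≤ Nat.card B := by
  obtain ⟨k, hk⟩ := card_dvd_of_le h
  have hk0 : k ≠ 0 := fun e => Nat.card_pos.ne' (hk.trans (by rw [e, mul_zero]))
  have hk1 : k ≠ 1 := fun e => hx' (by
    rw [e, mul_one] at hk
    rwa [eq_of_le_of_card_ge h hk.le])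
  rw [hk, mul_comm 2]
  exact Nat.mul_le_mul_left _ (by omega)

/-- Two subgroups of `H` meet in a large subgroup. -/
theorem card_mul_card_le {A B H : Subgroup G} (hA : A ≤ H) (hB : B ≤ H) :
    Nat.card A * Nat.card B ≤ Nat.card H * Nat.card ↥(A ⊓ B) := by
  have h := index_inf_le (H := A.subgroupOf H) (K := B.subgroupOf H)
  have ea := card_mul_index (A.subgroupOf H)
  have eb := card_mul_index (B.subgroupOf H)
  have ei := card_mul_index (A.subgroupOf H ⊓ B.subgroupOf H)
  rw [Nat.card_congr (subgroupOfEquivOfLe hA).toEquiv] at ea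
  rw [Nat.card_congr (subgroupOfEquivOfLe hB).toEquiv] at eb
  have hI : Nat.card ↥(A.subgroupOf H ⊓ B.subgroupOf H) = Nat.card ↥(A ⊓ B) := by
    rw [show A.subgroupOf H ⊓ B.subgroupOf H = (A ⊓ B).subgroupOf H from (comap_inf A B _).symm]
    exact Nat.card_congr (subgroupOfEquivOfLe (inf_le_left.trans hA)).toEquiv
  rw [hI] at ei
  set a := Nat.card A
  set b := Nat.card B
  set n := Nat.card H
  set i := Nat.card ↥(A ⊓ B)
  have hn : 0 < n := Nat.card_pos
  refine Nat.le_of_mul_le_mul_right ?_ hn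
  calc a * b * n = a * b * (i * (A.subgroupOf H ⊓ B.subgroupOf H).index) := by rw [ei]
    _ ≤ a * b * (i * ((A.subgroupOf H).index * (B.subgroupOf H).index)) := by gcongr
    _ = i * (a * (A.subgroupOf H).index) * (b * (B.subgroupOf H).index) := by ring
    _ = n * i * n := by rw [ea, eb]; ring

/-- The class of an element under a subgroup containing it. -/
theorem card_class (H : Subgroup G) (z : G) :
    Nat.card {t : G // ∃ k ∈ H, k * z * k⁻¹ = t} * Nat.card ↥(H ⊓ centralizer ({z} : Set G)) =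
      Nat.card H := by
  set K := (centralizer ({z} : Set G)).subgroupOf H
  let f : H ⧸ K → {t : G // ∃ k ∈ H, k * z * k⁻¹ = t} :=
    Quotient.lift (fun k : H => ⟨(k : G) * z * (k : G)⁻¹, k, k.2, rfl⟩) (fun a b hab => by
      refine Subtype.ext ?_
      have hm : a⁻¹ * b ∈ K := QuotientGroup.leftRel_apply.1 hab
      have hc : Commute ((a : G)⁻¹ * b) z := (mem_centralizer_singleton_iff.1 hm :)
      show (a : G) * z * (a : G)⁻¹ = b * z * (b : G)⁻¹
      conv_lhs => rw [← conj_eq_of_commute hc]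
      group)
  have hf : Function.Bijective f := by
    refine ⟨fun x y h => ?_, fun ⟨t, k, hk, e⟩ => ⟨Quotient.mk'' ⟨k, hk⟩, Subtype.ext e⟩⟩
    induction x using QuotientGroup.induction_on with | H a =>
    induction y using QuotientGroup.induction_on with | H b =>
    refine QuotientGroup.eq.2 ?_
    have e : (a : G) * z * (a : G)⁻¹ = b * z * (b : G)⁻¹ := congrArg Subtype.val h
    refine mem_subgroupOf.2 (mem_centralizer_singleton_iff.2 (commute_of_conj_eq ?_).eq)
    show (a : G)⁻¹ * b * z * ((a : G)⁻¹ * b)⁻¹ = z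
    rw [show (a : G)⁻¹ * b * z * ((a : G)⁻¹ * b)⁻¹ = (a : G)⁻¹ * (b * z * (b : G)⁻¹) * a by group, ← e]
    group
  rw [← Nat.card_eq_of_bijective f hf]
  have hK : Nat.card K = Nat.card ↥(H ⊓ centralizer ({z} : Set G)) := by
    rw [inf_comm, ← Nat.card_congr (subgroupOfEquivOfLe
      (inf_le_right : centralizer ({z} : Set G) ⊓ H ≤ H)).toEquiv, inf_subgroupOf_right]
  rw [← hK, mul_comm]
  exact K.card_mul_index

/-- An even permutation of three points of order at most two fixing a point is trivial. -/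
theorem perm_three_eq_one {α : Type*} [Fintype α] [DecidableEq α] (hα : Fintype.card α = 3)
    {p : Equiv.Perm α} {x : α} (hx : p x = x) (hs : Equiv.Perm.sign p = 1) : p = 1 := by
  refine Equiv.Perm.card_support_le_one.1 ?_
  have h2 : p.support.card ≤ 2 := by
    have hsub : p.support ⊆ Finset.univ.erase x := fun y hy =>
      Finset.mem_erase.2 ⟨fun e => Equiv.Perm.mem_support.1 hy (e ▸ hx), Finset.mem_univ y⟩
    have := Finset.card_le_card hsub
    rw [Finset.card_erase_of_mem (Finset.mem_univ x), Finset.card_univ, hα] at this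
    exact this
  by_contra h1
  have h := Equiv.Perm.card_support_eq_two.1 (show p.support.card = 2 by omega)
  rw [h.sign_eq] at hs
  exact absurd hs (by decide)

/-- A group of even order has an even number of solutions of `x ^ 2 = 1`; an involution acting on them fixes
one apart from `1`. -/
theorem exists_fixed_involution {D : Subgroup G} (hD : Even (Nat.card D)) {t : G} (ht : t * t = 1)
    (htD : ∀ x ∈ D, t * x * t⁻¹ ∈ D) : ∃ u ∈ D, orderOf u = 2 ∧ Commute t u := by
  classical
  haveI := Fintype.ofFinite D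
  let s : Finset D := Finset.univ.filter fun x => x * x = 1
  have hs : Even s.card := by
    have hinv : Function.Involutive (fun x : D => x⁻¹) := inv_inv
    have := Equiv.Perm.card_fixedPoints_modEq (p := 2) (n := 1) (f := fun x : D => x⁻¹)
      (by funext x; show x⁻¹⁻¹ = x; exact inv_inv x)
    have hfix : Fintype.card (Function.fixedPoints (fun x : D => x⁻¹)) = s.card := by
      rw [← Fintype.card_coe]
      refine Fintype.card_congr (Equiv.subtypeEquivRight fun x => ?_)
      simp [s, Function.IsFixedPt, inv_eq_iff_mul_eq_one]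
    rw [hfix, ← Nat.card_eq_fintype_card] at this
    rw [Nat.even_iff] at hD ⊢
    unfold Nat.ModEq at this
    omega
  let f : {x // x ∈ s} → {x // x ∈ s} := fun x => ⟨⟨t * (x.1 : G) * t⁻¹, htD _ x.1.2⟩, by
    have h : x.1 * x.1 = 1 := (Finset.mem_filter.1 x.2).2
    have h' : (x.1 : G) * x.1 = 1 := congrArg Subtype.val h
    refine Finset.mem_filter.2 ⟨Finset.mem_univ _, Subtype.ext ?_⟩
    show t * (x.1 : G) * t⁻¹ * (t * (x.1 : G) * t⁻¹) = 1
    rw [show t * (x.1 : G) * t⁻¹ * (t * (x.1 : G) * t⁻¹) = t * ((x.1 : G) * x.1) * t⁻¹ by group, h', mul_one,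
      mul_inv_cancel]⟩
  have hfsq : f^[2 ^ 1] = id := by
    funext x
    refine Subtype.ext (Subtype.ext ?_)
    show t * (t * (x.1 : G) * t⁻¹) * t⁻¹ = x.1
    rw [show t * (t * (x.1 : G) * t⁻¹) * t⁻¹ = t * t * x.1 * (t * t)⁻¹ by group, ht, one_mul, inv_one, mul_one]
  have hmod := Equiv.Perm.card_fixedPoints_modEq (p := 2) (n := 1) (f := (f : Function.End {x // x ∈ s}))
    (by exact hfsq)
  rw [Fintype.card_coe] at hmod
  have h1 : ((⟨1, Finset.mem_filter.2 ⟨Finset.mem_univ _, one_mul 1⟩⟩ : {x // x ∈ s})) ∈ Function.fixedPoints f := by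
    refine Subtype.ext (Subtype.ext ?_)
    show t * 1 * t⁻¹ = 1
    rw [mul_one, mul_inv_cancel]
  have hpos : 0 < Fintype.card (Function.fixedPoints f) := Fintype.card_pos_iff.2 ⟨⟨_, h1⟩⟩
  have h2 : 1 < Fintype.card (Function.fixedPoints f) := by
    rw [Nat.even_iff] at hs
    unfold Nat.ModEq at hmod
    omega
  obtain ⟨⟨u, hu⟩, hne⟩ := Fintype.exists_ne_of_one_lt_card h2 ⟨_, h1⟩
  have hu2 : ((u.1 : D) : G) * u.1 = 1 := congrArg Subtype.val (Finset.mem_filter.1 u.2).2
  refine ⟨u.1, u.1.2, ?_, commute_of_conj_eq (congrArg (fun y => ((y.1 : D) : G)) hu)⟩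
  refine orderOf_eq_prime_iff.2 ⟨by rw [sq, hu2], fun e => hne ?_⟩
  exact Subtype.ext (Subtype.ext (Subtype.ext e))

end Cfsg.Agent.Lib.U43Type85.Tools
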