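import Cfsg.Agent.Lib.U43Type85.CentJ
import Cfsg.Agent.Lib.U43Type85.Tools2

/-!
# U4(3) type: the group `M = J ⟨z, σ, g⟩` of order 972

An element of `M` outside `J` fixes at most nine elements of `J` modulo `⟨c⟩`.

Owner: helper85.
-/

set_option autoImplicit false

namespace Cfsg.Agent.Lib.U43Type85

open Subgroup Tools

namespace Setup

variable {G : Type*} [Group G] {z : G} (S : Setup z)

/-- The properties of the three-cycle. -/
structure Cyc (c s : ℕ) (g : G) : Prop where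
  comm : Commute g (S.f c)
  odd : Odd (orderOf g)
  g1 : g * z * g⁻¹ = S.f s
  g2 : g * S.f s * g⁻¹ = S.f s * z
  g3 : g * (S.f s * z) * g⁻¹ = z
  cube : ∃ i, i < 3 ∧ g ^ 3 = S.f c ^ i
  nine : g ^ 9 = 1

/-- `J ⟨z, σ⟩`. -/
def L (s : ℕ) : Subgroup G := S.J ⊔ zpowers z ⊔ zpowers (S.f s)

/-- `J ⟨z, σ, g⟩`. -/
def M (s : ℕ) (g : G) : Subgroup G := S.L s ⊔ zpowers g

/-- The elements centralising `c` and `X` modulo `⟨c⟩`. -/
def modStab (c : ℕ) (X : Subgroup G) : Subgroup G where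
  carrier := {m | Commute m (S.f c) ∧ ∀ x ∈ X, m * x * m⁻¹ * x⁻¹ ∈ zpowers (S.f c)}
  one_mem' := ⟨Commute.one_left _, fun x _ => by simp⟩
  mul_mem' := by
    rintro m n ⟨hm, hm'⟩ ⟨hn, hn'⟩
    refine ⟨hm.mul_left hn, fun x hx => ?_⟩
    obtain ⟨k, hk⟩ := mem_zpowers_iff.1 (hn' x hx)
    rw [show m * n * x * (m * n)⁻¹ * x⁻¹ = m * (n * x * n⁻¹ * x⁻¹) * m⁻¹ * (m * x * m⁻¹ * x⁻¹) by group, ← hk,
      conj_eq_of_commute (hm.zpow_right k)]
    exact mul_mem (zpow_mem (mem_zpowers _) k) (hm' x hx)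
  inv_mem' := by
    rintro m ⟨hm, hm'⟩
    refine ⟨hm.inv_left, fun x hx => ?_⟩
    obtain ⟨k, hk⟩ := mem_zpowers_iff.1 (hm' x hx)
    have h : m⁻¹ * S.f c ^ k * m = m⁻¹ * (m * x * m⁻¹ * x⁻¹) * m := congrArg (fun y => m⁻¹ * y * m) hk
    rw [mul_assoc m⁻¹ _ m, ← (hm.zpow_right k).eq, inv_mul_cancel_left] at h
    have h2 : m⁻¹ * x * m⁻¹⁻¹ * x⁻¹ = (m⁻¹ * (m * x * m⁻¹ * x⁻¹) * m)⁻¹ := by group
    rw [h2, ← h]
    exact inv_mem (zpow_mem (mem_zpowers _) k)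

theorem L_mem_J {x : G} (h : x ∈ S.J) (s : ℕ) : x ∈ S.L s := mem_sup_left (mem_sup_left h)

theorem M_mem_L {x : G} {s : ℕ} (h : x ∈ S.L s) (g : G) : x ∈ S.M s g := mem_sup_left h

theorem L_z (s : ℕ) : z ∈ S.L s := mem_sup_left (mem_sup_right (mem_zpowers z))

theorem L_s (s : ℕ) : S.f s ∈ S.L s := mem_sup_right (mem_zpowers _)

variable {c s d : ℕ} (hp : IsPrm c s d)
include hp

theorem exists_cyc [Finite G] : ∃ g, S.Cyc c s g := by
  obtain ⟨g, h1, h2, h3, h4, h5, h6, h7⟩ := S.exists_cycle hp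
  exact ⟨g, h1, h2, h3, h4, h5, h6, h7⟩

theorem card_J [Finite G] : Nat.card S.J = 81 := by
  obtain ⟨g, hg⟩ := S.exists_cyc hp
  exact (S.J_struct hp hg.comm hg.g1 hg.g2 hg.cube).1

theorem J_comm [Finite G] {x y : G} (hx : x ∈ S.J) (hy : y ∈ S.J) : Commute x y := by
  obtain ⟨g, hg⟩ := S.exists_cyc hp
  exact (S.J_struct hp hg.comm hg.g1 hg.g2 hg.cube).2.1 x hx y hy

theorem J_cube [Finite G] {x : G} (hx : x ∈ S.J) : x ^ 3 = 1 := by
  obtain ⟨g, hg⟩ := S.exists_cyc hp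
  exact (S.J_struct hp hg.comm hg.g1 hg.g2 hg.cube).2.2.1 x hx

theorem J_isPGroup [Finite G] : IsPGroup 3 S.J := fun x => ⟨1, Subtype.ext (S.J_cube hp x.2)⟩

theorem J_c [Finite G] : S.f c ∈ S.J := S.E_le_J (S.basics hp).2.2.2.2.1

theorem J_commute_c [Finite G] {x : G} (hx : x ∈ S.J) : Commute x (S.f c) :=
  S.J_comm hp hx (S.J_c hp)

theorem cyc_norm [Finite G] {g : G} (hg : S.Cyc c s g) : g ∈ normalizer (S.J : Set G) :=
  Tools.mem_normalizer_of (S.J_struct hp hg.comm hg.g1 hg.g2 hg.cube).2.2.2.1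

/-- `C(J) ≤ J`. -/
theorem cent_J [Finite G] : centralizer (S.J : Set G) ≤ S.J := by
  intro x hx
  have hc : ∀ y ∈ S.J, Commute x y := fun y hy => (mem_centralizer_iff.1 hx y hy).symm
  refine (S.CE_cases (S.mem_CE.2 ⟨hc _ (S.E_le_J S.a_mem), hc _ (S.E_le_J S.b_mem)⟩)).resolve_right fun h => ?_
  have hz : ∀ y ∈ S.J, Commute y z := fun y hy => by
    have := ((hc y hy).inv_left.mul_left (S.J_comm hp h hy)).symm
    rwa [inv_mul_cancel_left] at this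
  have := card_le_of_le (show S.J ≤ S.E from fun y hy => S.J_cent_z hy (hz y hy))
  rw [S.card_J hp, S.card_E] at this
  omega

theorem W_norm [Finite G] {w : G} (hw : w ∈ S.W s) : w ∈ normalizer (S.J : Set G) := by
  have hz : z ∈ normalizer (S.J : Set G) := Tools.mem_normalizer_of fun a ha => S.z_conj_J ha
  have hs : S.f s ∈ normalizer (S.J : Set G) :=
    Tools.mem_normalizer_of fun a ha => S.conj_mem_J hp (Or.inl rfl) ha
  rcases hw with rfl | rfl | rfl | hw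
  · exact one_mem _
  · exact hz
  · exact hs
  · rw [Set.mem_singleton_iff.1 hw]; exact mul_mem hs hz

theorem W_mem_L {w : G} (hw : w ∈ S.W s) : w ∈ S.L s := by
  rcases hw with rfl | rfl | rfl | hw
  · exact one_mem _
  · exact S.L_z s
  · exact S.L_s s
  · rw [Set.mem_singleton_iff.1 hw]; exact mul_mem (S.L_s s) (S.L_z s)

theorem s_norm_Jz [Finite G] : S.f s ∈ normalizer ((S.J ⊔ zpowers z : Subgroup G) : Set G) := by
  refine Tools.mem_normalizer_of fun a ha => ?_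
  have : (S.J ⊔ zpowers z).map (MulAut.conj (S.f s)).toMonoidHom ≤ S.J ⊔ zpowers z := by
    rw [Subgroup.map_sup, MonoidHom.map_zpowers]
    refine sup_le_sup ?_ (zpowers_le.2 ?_)
    · rintro _ ⟨x, hx, rfl⟩; exact S.conj_mem_J hp (Or.inl rfl) hx
    · show S.f s * z * (S.f s)⁻¹ ∈ _
      rw [conj_eq_of_commute (S.f_comm s)]; exact mem_zpowers z
  exact this ⟨a, ha, rfl⟩

theorem mem_L [Finite G] {x : G} (hx : x ∈ S.L s) : ∃ j ∈ S.J, ∃ w ∈ S.W s, x = j * w := by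
  have hss := sq_of_orderOf (S.basics hp).2.2.1
  obtain ⟨h, hh, b, hb, rfl⟩ :=
    mem_sup_pow (S.s_norm_Jz hp) two_pos (by rw [sq, hss]; exact one_mem _) hx
  obtain ⟨j, hj, a, ha, rfl⟩ :=
    mem_sup_pow (Tools.mem_normalizer_of fun y hy => S.z_conj_J hy) two_pos (by rw [sq, S.z_sq]; exact one_mem _) hh
  refine ⟨j, hj, z ^ a * S.f s ^ b, ?_, mul_assoc _ _ _⟩
  have ha' : a = 0 ∨ a = 1 := by omega
  have hb' : b = 0 ∨ b = 1 := by omega
  rcases ha' with rfl | rfl <;> rcases hb' with rfl | rfl <;>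
    simp only [pow_zero, pow_one, one_mul, mul_one]
  · exact Or.inl rfl
  · exact Or.inr (Or.inr (Or.inl rfl))
  · exact Or.inr (Or.inl rfl)
  · exact Or.inr (Or.inr (Or.inr (by rw [Set.mem_singleton_iff, (S.f_comm s).eq])))

theorem s_notMem_Jz [Finite G] : S.f s ∉ S.J ⊔ zpowers z := by
  intro h
  obtain ⟨hc, hs, hd⟩ := hp.lt
  obtain ⟨-, -, -, -, -, hdE, hsd, -⟩ := S.basics hp
  have hle : S.J ⊔ zpowers z ≤ S.CE := sup_le S.J_le_CE (zpowers_le.2 S.z_mem_CE)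
  rw [conj_eq_of_commute (S.CE_comm (hle h) hdE)] at hsd
  have h2 : S.f d ^ 2 = 1 := by rw [sq]; exact mul_eq_one_iff_eq_inv.2 hsd
  have h1 := Tools.eq_one_of_coprime h2 (S.E_cube hdE) (by norm_num)
  have := (S.f_eq_one hd).1 h1
  rcases hp with ⟨-, -, e⟩ | ⟨-, -, e⟩ <;> omega

theorem card_L [Finite G] : Nat.card ↥(S.L s) = 324 := by
  have hss := sq_of_orderOf (S.basics hp).2.2.1
  have u1 := card_sup_le (H := S.J) (g := z) (Tools.mem_normalizer_of fun y hy => S.z_conj_J hy) two_pos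
    (by rw [sq, S.z_sq]; exact one_mem _)
  have u2 := card_sup_le (H := S.J ⊔ zpowers z) (g := S.f s) (S.s_norm_Jz hp) two_pos
    (by rw [sq, hss]; exact one_mem _)
  have l1 := two_mul_card_le (le_sup_left : S.J ≤ S.J ⊔ zpowers z) (mem_sup_right (mem_zpowers z)) S.z_notMem_J
  have l2 := two_mul_card_le (le_sup_left : S.J ⊔ zpowers z ≤ S.L s) (S.L_s s) (S.s_notMem_Jz hp)
  rw [S.card_J hp] at u1 l1
  change 2 * _ ≤ Nat.card ↥(S.J ⊔ zpowers z ⊔ zpowers (S.f s)) at l2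
  change Nat.card ↥(S.J ⊔ zpowers z ⊔ zpowers (S.f s)) = 324
  omega

theorem W_comm {v w : G} (hv : v ∈ S.W s) (hw : w ∈ S.W s) : Commute v w :=
  S.A16_comm hp (S.W_mem_A16 hp hv) (S.W_mem_A16 hp hw)

/-- Conjugation by `L` on `W` is trivial modulo `J`. -/
theorem L_conj_W [Finite G] {l w : G} (hl : l ∈ S.L s) (hw : w ∈ S.W s) :
    ∃ j ∈ S.J, l * w * l⁻¹ = j * w := by
  obtain ⟨j, hj, v, hv, rfl⟩ := S.mem_L hp hl
  refine ⟨j * (w * j⁻¹ * w⁻¹), mul_mem hj ((mem_normalizer_iff.1 (S.W_norm hp hw) _).1 (inv_mem hj)), ?_⟩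
  rw [show j * v * w * (j * v)⁻¹ = j * (v * w * v⁻¹) * j⁻¹ by group, conj_eq_of_commute (S.W_comm hp hv hw)]
  group

theorem g_norm_L [Finite G] {g : G} (hg : S.Cyc c s g) : g ∈ normalizer (S.L s : Set G) := by
  refine Tools.mem_normalizer_of fun a ha => ?_
  have : (S.L s).map (MulAut.conj g).toMonoidHom ≤ S.L s := by
    unfold L
    rw [Subgroup.map_sup, Subgroup.map_sup, MonoidHom.map_zpowers, MonoidHom.map_zpowers]
    refine sup_le (sup_le ?_ (zpowers_le.2 ?_)) (zpowers_le.2 ?_)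
    · rintro _ ⟨x, hx, rfl⟩
      exact S.L_mem_J ((mem_normalizer_iff.1 (S.cyc_norm hp hg) x).1 hx) s
    · show g * z * g⁻¹ ∈ S.L s
      rw [hg.g1]; exact S.L_s s
    · show g * S.f s * g⁻¹ ∈ S.L s
      rw [hg.g2]; exact mul_mem (S.L_s s) (S.L_z s)
  exact this ⟨a, ha, rfl⟩

theorem g_notMem_L [Finite G] {g : G} (hg : S.Cyc c s g) : g ∉ S.L s := by
  intro h
  obtain ⟨j, hj, e⟩ := S.L_conj_W hp h (w := z) (Or.inr (Or.inl rfl))
  rw [hg.g1] at e
  exact S.s_notMem_Jz hp (e ▸ mul_mem (mem_sup_left hj) (mem_sup_right (mem_zpowers z)))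

theorem g3_mem_L [Finite G] {g : G} (hg : S.Cyc c s g) : g ^ 3 ∈ S.L s := by
  obtain ⟨i, -, hi⟩ := hg.cube
  rw [hi]; exact pow_mem (S.L_mem_J (S.J_c hp) s) i

theorem mem_M [Finite G] {g x : G} (hg : S.Cyc c s g) (hx : x ∈ S.M s g) :
    ∃ l ∈ S.L s, ∃ i, i < 3 ∧ x = l * g ^ i :=
  mem_sup_pow (S.g_norm_L hp hg) (by norm_num) (S.g3_mem_L hp hg) hx

theorem M_le_N [Finite G] {g : G} (hg : S.Cyc c s g) :
    S.M s g ≤ normalizer (S.J : Set G) ⊓ centralizer ({S.f c} : Set G) := by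
  obtain ⟨-, -, -, hsc, -⟩ := S.basics hp
  refine sup_le (sup_le (sup_le (le_inf le_normalizer fun x hx => mem_cent.2 (S.J_commute_c hp hx))
    (zpowers_le.2 ⟨S.W_norm hp (Or.inr (Or.inl rfl)), mem_cent.2 (S.f_comm c).symm⟩))
    (zpowers_le.2 ⟨S.W_norm hp (Or.inr (Or.inr (Or.inl rfl))), mem_cent.2 hsc⟩))
    (zpowers_le.2 ⟨S.cyc_norm hp hg, mem_cent.2 hg.comm⟩)

theorem M_cent [Finite G] {g x : G} (hg : S.Cyc c s g) (hx : x ∈ S.M s g) : Commute x (S.f c) :=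
  mem_cent.1 (S.M_le_N hp hg hx).2

theorem M_norm [Finite G] {g x : G} (hg : S.Cyc c s g) (hx : x ∈ S.M s g) : x ∈ normalizer (S.J : Set G) :=
  (S.M_le_N hp hg hx).1

theorem card_M [Finite G] {g : G} (hg : S.Cyc c s g) : Nat.card ↥(S.M s g) = 972 := by
  haveI : Fact (Nat.Prime 3) := ⟨Nat.prime_three⟩
  have hu : Nat.card ↥(S.M s g) ≤ Nat.card ↥(S.L s) * 3 :=
    card_sup_le (S.g_norm_L hp hg) (by norm_num) (S.g3_mem_L hp hg)
  have hL : Nat.card ↥(S.L s) ∣ Nat.card ↥(S.M s g) := card_dvd_of_le le_sup_left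
  rw [S.card_L hp] at hu hL
  set P := zpowers g ⊔ S.J
  have hP : IsPGroup 3 P := IsPGroup.to_sup_of_normal_right' (Tools.isPGroup_zpowers (k := 2) hg.nine)
    (S.J_isPGroup hp) (zpowers_le.2 (S.cyc_norm hp hg))
  have hl := two_mul_card_le (le_sup_right : S.J ≤ P) (mem_sup_left (mem_zpowers g))
    fun h => S.g_notMem_L hp hg (S.L_mem_J h s)
  rw [S.card_J hp] at hl
  obtain ⟨k, hk⟩ := IsPGroup.iff_card.1 hP
  have hk5 : 5 ≤ k := by
    by_contra hlt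
    rw [hk] at hl
    interval_cases k <;> omega
  have h243 : 3 ^ 5 ∣ Nat.card ↥(S.M s g) := (pow_dvd_pow 3 hk5).trans (hk ▸ card_dvd_of_le
    (sup_le le_sup_right (le_sup_left.trans (le_sup_left.trans le_sup_left)) : P ≤ S.M s g))
  have := Nat.card_pos (α := ↥(S.M s g))
  omega

theorem card_inf_conj [Finite G] {k : G} (hk : k ∈ normalizer (S.J : Set G)) (t : G) :
    Nat.card ↥(S.J ⊓ centralizer ({k * t * k⁻¹} : Set G)) = Nat.card ↥(S.J ⊓ centralizer ({t} : Set G)) := by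
  have k1 := card_le_of_le (S.conj_inf_le (fun x hx => (mem_normalizer_iff.1 hk x).1 hx) (rfl : k * t * k⁻¹ = _))
  have k2 := card_le_of_le (S.conj_inf_le (k := k⁻¹) (t := k * t * k⁻¹) (T := t)
    (fun x hx => (mem_normalizer_iff.1 (inv_mem hk) x).1 hx) (by group))
  rw [card_map_of_injective (MulAut.conj k).injective] at k1
  rw [card_map_of_injective (MulAut.conj k⁻¹).injective] at k2
  exact le_antisymm k2 k1

theorem inf_z [Finite G] : S.J ⊓ centralizer ({z} : Set G) = S.E :=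
  le_antisymm (fun x hx => S.J_cent_z hx.1 (mem_cent.1 hx.2))
    fun x hx => ⟨S.E_le_J hx, mem_cent.2 (S.E_z hx)⟩

theorem card_inf_W [Finite G] {g w : G} (hg : S.Cyc c s g) (hw : w ∈ S.W s) (hw1 : w ≠ 1) :
    Nat.card ↥(S.J ⊓ centralizer ({w} : Set G)) = 9 := by
  have hz : Nat.card ↥(S.J ⊓ centralizer ({z} : Set G)) = 9 := by rw [S.inf_z hp, S.card_E]
  have hs : Nat.card ↥(S.J ⊓ centralizer ({S.f s} : Set G)) = 9 := by
    rw [← hg.g1, S.card_inf_conj hp (S.cyc_norm hp hg), hz]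
  rcases hw with rfl | rfl | rfl | hw
  · exact absurd rfl hw1
  · exact hz
  · exact hs
  · rw [Set.mem_singleton_iff.1 hw, ← hg.g2, S.card_inf_conj hp (S.cyc_norm hp hg), hs]

theorem commute_of_modStab [Finite G] {w : G} {X : Subgroup G} (hw : w ∈ S.W s)
    (hst : w ∈ S.modStab c X) {x : G} (hx : x ∈ X) : Commute w x := by
  obtain ⟨-, -, hwc, hw2⟩ := S.W_facts hp hw
  obtain ⟨hc3, -⟩ := S.basics hp
  obtain ⟨k, hk⟩ := mem_zpowers_iff.1 (hst.2 x hx)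
  set C := S.f c ^ k with hC
  have h1 : w * x * w⁻¹ = C * x := by rw [hk]; group
  have hwC : Commute w C := hwc.zpow_right k
  have h2 : C * C = 1 := by
    have : C * (C * x) = 1 * x := by
      calc C * (C * x) = w * C * w⁻¹ * (w * x * w⁻¹) := by rw [h1, conj_eq_of_commute hwC]
        _ = w * (C * x) * w⁻¹ := by group
        _ = w * (w * x * w⁻¹) * w⁻¹ := by rw [h1]
        _ = w * w * x * (w * w)⁻¹ := by group
        _ = 1 * x := by rw [hw2]; group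
    rw [← mul_assoc] at this
    exact mul_right_cancel this
  have h3 : C ^ 3 = 1 := by rw [hC, ← zpow_natCast (S.f c ^ k), ← zpow_mul, mul_comm, zpow_mul, zpow_natCast, hc3, one_zpow]
  have hC1 : C = 1 := Tools.eq_one_of_coprime (by rw [pow_two, h2] : C ^ 2 = 1) h3 (by norm_num)
  rw [hC1, one_mul] at h1
  exact commute_of_conj_eq h1

/-- An element of `M` outside `J` fixes at most nine elements of `J` modulo `⟨c⟩`. -/
theorem fix_small [Finite G] {g m : G} (hg : S.Cyc c s g) (hm : m ∈ S.M s g) (hmJ : m ∉ S.J)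
    {X : Subgroup G} (hX : X ≤ S.J) (hfix : ∀ x ∈ X, m * x * m⁻¹ * x⁻¹ ∈ zpowers (S.f c)) :
    Nat.card X ≤ 9 := by
  obtain ⟨hc3, hc1, hs2, hsc, -⟩ := S.basics hp
  have hss := sq_of_orderOf hs2
  have hsz := S.f_comm s
  have hmst : m ∈ S.modStab c X := ⟨S.M_cent hp hg hm, hfix⟩
  have hJst : ∀ {Y : Subgroup G}, Y ≤ S.J → ∀ j ∈ S.J, j ∈ S.modStab c Y := fun hY j hj =>
    ⟨S.J_commute_c hp hj, fun x hx => by
      rw [conj_eq_of_commute (S.J_comm hp hj (hY hx)), mul_inv_cancel]; exact one_mem _⟩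
  have hWst : ∀ {Y : Subgroup G} {j w : G}, Y ≤ S.J → j ∈ S.J → j * w ∈ S.modStab c Y →
      w ∈ S.modStab c Y := fun hY hj h => by
    have := mul_mem (inv_mem (hJst hY _ hj)) h
    rwa [inv_mul_cancel_left] at this
  obtain ⟨l, hl, i, hi, e⟩ := S.mem_M hp hg hm
  subst e
  by_cases hi0 : i = 0
  · subst hi0
    rw [pow_zero, mul_one] at hmst hmJ
    obtain ⟨j, hj, w, hw, rfl⟩ := S.mem_L hp hl
    have hw1 : w ≠ 1 := fun e => hmJ (by rw [e, mul_one]; exact hj)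
    have hwX := hWst hX hj hmst
    rw [← S.card_inf_W hp hg hw hw1]
    exact card_le_of_le fun x hx => ⟨hX hx, mem_cent.2 (S.commute_of_modStab hp hw hwX hx).symm⟩
  by_contra hbig
  have h27 : 27 ≤ Nat.card X := by
    obtain ⟨k, hk, e⟩ := (Nat.dvd_prime_pow Nat.prime_three).1
      (show Nat.card X ∣ 3 ^ 4 by rw [show (3 : ℕ) ^ 4 = Nat.card S.J by rw [S.card_J hp]; norm_num]; exact card_dvd_of_le hX)
    rw [e] at hbig ⊢
    interval_cases k <;> omega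
  set Xz := X.map (MulAut.conj z).toMonoidHom
  have hXz : Xz ≤ S.J := by
    rintro _ ⟨x, hx, rfl⟩; exact S.z_conj_J (hX hx)
  set Y := X ⊓ Xz
  have hY : Y ≤ S.J := inf_le_left.trans hX
  have h9 : 9 ≤ Nat.card Y := by
    have := card_mul_card_le hX hXz
    rw [card_map_of_injective (MulAut.conj z).injective, S.card_J hp] at this
    have h' : 27 * 27 ≤ 81 * Nat.card ↥Y := (Nat.mul_le_mul h27 h27).trans this
    omega
  set m := l * g ^ i with hmdef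
  have hmY : m ∈ S.modStab c Y := ⟨hmst.1, fun x hx => hmst.2 x hx.1⟩
  have hzc : Commute z (S.f c) := (S.f_comm c).symm
  have hzmz : z * m * z⁻¹ ∈ S.modStab c Y := by
    refine ⟨by simpa [conj_eq_of_commute hzc] using commute_conj (g := z) hmst.1, ?_⟩
    rintro x ⟨-, y, hy, rfl⟩
    show z * m * z⁻¹ * (z * y * z⁻¹) * (z * m * z⁻¹)⁻¹ * (z * y * z⁻¹)⁻¹ ∈ _
    obtain ⟨k, hk⟩ := mem_zpowers_iff.1 (hmst.2 y hy)
    rw [show z * m * z⁻¹ * (z * y * z⁻¹) * (z * m * z⁻¹)⁻¹ * (z * y * z⁻¹)⁻¹ =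
      z * (m * y * m⁻¹ * y⁻¹) * z⁻¹ by group, ← hk, conj_eq_of_commute (hzc.zpow_right k)]
    exact zpow_mem (mem_zpowers _) k
  have hu : z * m * z⁻¹ * m⁻¹ ∈ S.modStab c Y := mul_mem hzmz (inv_mem hmY)
  obtain ⟨w', w'', hw', hw'', hgi, hzw, hgi'⟩ : ∃ w' w'', w' ∈ S.W s ∧ w'' ∈ S.W s ∧
      g ^ i * z * (g ^ i)⁻¹ = w' ∧ z * w' = w'' ∧ g ^ i * w'' * (g ^ i)⁻¹ = z := by
    have hi' : i = 1 ∨ i = 2 := by omega
    rcases hi' with rfl | rfl
    · exact ⟨S.f s, S.f s * z, Or.inr (Or.inr (Or.inl rfl)), Or.inr (Or.inr (Or.inr rfl)),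
        by rw [pow_one, hg.g1], hsz.symm.eq, by rw [pow_one, hg.g3]⟩
    · refine ⟨S.f s * z, S.f s, Or.inr (Or.inr (Or.inr rfl)), Or.inr (Or.inr (Or.inl rfl)), ?_, ?_, ?_⟩
      · rw [show g ^ 2 * z * (g ^ 2)⁻¹ = g * (g * z * g⁻¹) * g⁻¹ by rw [pow_two]; group, hg.g1, hg.g2]
      · rw [← mul_assoc, ← hsz.eq, mul_assoc, S.z_sq, mul_one]
      · rw [show g ^ 2 * S.f s * (g ^ 2)⁻¹ = g * (g * S.f s * g⁻¹) * g⁻¹ by rw [pow_two]; group, hg.g2, hg.g3]
  have hw''Y : w'' ∈ S.modStab c Y := by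
    obtain ⟨j, hj, e⟩ := S.L_conj_W hp hl hw'
    have : z * m * z⁻¹ * m⁻¹ = z * j * z⁻¹ * (z * w') :=
      calc z * m * z⁻¹ * m⁻¹ = z * (l * (g ^ i * z⁻¹ * (g ^ i)⁻¹) * l⁻¹) := by rw [hmdef]; group
        _ = z * (j * w') := by rw [S.z_inv, hgi, e]
        _ = _ := by group
    rw [this, hzw] at hu
    exact hWst hY (S.z_conj_J hj) hu
  have hzY : z ∈ S.modStab c Y := by
    have h := mul_mem (mul_mem hmY hw''Y) (inv_mem hmY)
    obtain ⟨j, hj, e⟩ := S.L_conj_W hp hl (w := z) (Or.inr (Or.inl rfl))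
    rw [show m * w'' * m⁻¹ = l * (g ^ i * w'' * (g ^ i)⁻¹) * l⁻¹ by rw [hmdef]; group, hgi', e] at h
    exact hWst hY hj h
  have hsub : Y ≤ zpowers (S.f c) := by
    intro x hx
    have k1 : Commute x z := (S.commute_of_modStab hp (Or.inr (Or.inl rfl)) hzY hx).symm
    have k2 : Commute x (S.f s) := by
      have k3 : Commute x (z * w') := hzw.symm ▸ (S.commute_of_modStab hp hw'' hw''Y hx).symm
      have hi' : i = 1 ∨ i = 2 := by omega
      have k4 : Commute x w' := by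
        have := k1.mul_right k3
        rwa [← mul_assoc, S.z_sq, one_mul] at this
      rcases hi' with rfl | rfl
      · rwa [← hgi, pow_one, hg.g1] at k4
      · rw [← hgi, show g ^ 2 * z * (g ^ 2)⁻¹ = g * (g * z * g⁻¹) * g⁻¹ by rw [pow_two]; group, hg.g1,
          hg.g2] at k4
        have := k4.mul_right k1
        rwa [mul_assoc, S.z_sq, mul_one] at this
    obtain ⟨n, -, rfl⟩ := S.cent_both_odd hp k1 k2 (S.J_commute_c hp (hY hx)) (S.mem_J.1 (hY hx)).2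
    exact pow_mem (mem_zpowers _) n
  have := (Nat.card_zpowers (S.f c)) ▸ card_le_of_le hsub
  have := Nat.le_of_dvd (by norm_num) (orderOf_dvd_of_pow_eq_one hc3)
  omega

/-- `J` is the only abelian subgroup of order 81 of `M`, and a three-subgroup of order 81 of `M` whose
commutators lie in `⟨c⟩` is `J`. -/
theorem eq_J_of_comm [Finite G] {g : G} (hg : S.Cyc c s g) {A : Subgroup G} (hA : A ≤ S.M s g)
    (hAc : Nat.card A = 81) (hcom : ∀ x ∈ A, ∀ y ∈ A, x * y * x⁻¹ * y⁻¹ ∈ zpowers (S.f c)) : A = S.J := by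
  haveI : Fact (Nat.Prime 3) := ⟨Nat.prime_three⟩
  refine eq_of_le_of_card_ge (fun m hm => ?_) (by rw [hAc, S.card_J hp])
  by_contra hmJ
  have hAp : IsPGroup 3 A := IsPGroup.of_card (n := 4) hAc
  have hP : IsPGroup 3 ↥(A ⊔ S.J) :=
    IsPGroup.to_sup_of_normal_right' hAp (S.J_isPGroup hp) fun x hx => S.M_norm hp hg (hA hx)
  have hle : A ⊔ S.J ≤ S.M s g := sup_le hA (le_sup_left.trans (le_sup_left.trans le_sup_left))
  obtain ⟨k, hk⟩ := IsPGroup.iff_card.1 hP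
  have hd := card_dvd_of_le hle
  rw [hk, S.card_M hp hg] at hd
  have hk5 : k ≤ 5 := by
    by_contra hgt
    exact absurd ((pow_dvd_pow 3 (show 6 ≤ k by omega)).trans hd) (by norm_num)
  have h := card_mul_card_le (le_sup_left : A ≤ A ⊔ S.J) (le_sup_right : S.J ≤ A ⊔ S.J)
  rw [hAc, S.card_J hp, hk] at h
  have h5 : (3 : ℕ) ^ k ≤ 243 := le_of_le_of_eq (Nat.pow_le_pow_right (by norm_num) hk5) (by norm_num)
  have h9 := S.fix_small hp hg (hA hm) hmJ (X := A ⊓ S.J) inf_le_right fun x hx => hcom m hm x hx.1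
  have h10 : 3 ^ k * Nat.card ↥(A ⊓ S.J) ≤ 243 * 9 := Nat.mul_le_mul h5 h9
  omega

end Setup

end Cfsg.Agent.Lib.U43Type85
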