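import Cfsg.Agent.Lib.U43Type85.Model

/-!
# U4(3) type: checks on codes around an element `c` of order three centralising an outer involution

The parameters `(c, σ, d)` are `(25, 576, 30)` or `(30, 864, 25)`.

Owner: helper85.
-/

set_option autoImplicit false

namespace Cfsg.Agent.Lib.U43Type85

/-- Membership in a list of codes. -/
def memb (n : ℕ) (l : List ℕ) : Bool := l.any fun a => Nat.beq n a

/-- The codes of `⟨a, b⟩`. -/
def e9 : List ℕ := [0, 1, 6, 24, 25, 30, 144, 145, 150]

/-- The cube. -/
def cube (n : ℕ) : ℕ := mul (mul n n) n

/-- The four group `⟨z, σ⟩`. -/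
def w4 (s : ℕ) : List ℕ := [0, 12, s, mul s 12]

/-- The elementary group of order sixteen. -/
def aList (s : ℕ) : List ℕ :=
  (List.range 1152).filter fun n => cm2 n s && Nat.beq (mul n n) 0

/-- The outer elements of the group of order sixteen. -/
def outA (s : ℕ) : List ℕ := (aList s).filter fun n => !inQ n

/-- The six inner elements of the group of order sixteen apart from `1`, `z`. -/
def inA (s : ℕ) : List ℕ := (aList s).filter fun n => inQ n && !Nat.beq n 0 && !Nat.beq n 12

/-- The normaliser of the group of order sixteen. -/
def naList (s : ℕ) : List ℕ :=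
  (List.range 1152).filter fun h => (aList s).all fun a => memb (cj h a) (aList s)

/-- `c`, `σ`, `d`: the configuration checks. -/
def basicC (c s d : ℕ) : Bool :=
  isThree c && isInv s && isThree d && memb c e9 && memb d e9 && cm2 s c && Nat.beq (cj s d) (inv d) &&
    Nat.beq (cj 288 c) (inv c) && Nat.beq (cj 288 s) (mul s 12) &&
    e9.all (fun x => !cm2 x s || memb x [0, c, inv c]) &&
    e9.all (fun x => memb (cj s x) e9 && memb (cj 288 x) e9)

theorem basic_check : basicC 25 576 30 = true ∧ basicC 30 864 25 = true := by decide +kernel

/-- The centraliser of `⟨z, σ⟩` meets that of `c` in `⟨z, σ⟩ × ⟨c⟩`; its subgroups of order three are conjugate. -/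
def fourC (c s : ℕ) : Bool :=
  let cs := (List.range 1152).filter fun n => cm2 n s
  cs.all (fun n => !cm2 n c || (w4 s).any fun w => memb n [w, mul w c, mul w (inv c)]) &&
    cs.all (fun k => !isThree k || cs.any fun h => memb (cj h k) [c, inv c]) &&
    cs.all (fun h => (aList s).all fun a => memb (cj h a) (aList s))

theorem four_check_c : fourC 25 576 = true ∧ fourC 30 864 = true := by decide +kernel

/-- The group of order sixteen. -/
def sixteenC (c s : ℕ) : Bool :=
  let A := aList s
  Nat.beq A.length 16 && memb s A && memb 12 A &&
    A.all (fun a => A.all fun b => memb (mul a b) A && cm2 a b) &&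
    (List.range 1152).all (fun n => !(A.all fun a => cm2 n a) || memb n A) &&
    A.all (fun a => !cm2 a c || memb a (w4 s)) &&
    A.all (fun a => memb a (w4 s) || A.all fun b => memb b (w4 s) ||
      [0, c, inv c].any fun i => memb (mul (cj i a) b) (w4 s)) &&
    (w4 s).all (fun w => cm2 w c && memb w A) &&
    (outA s).all (fun u => (naList s).any fun h => Nat.beq (cj h s) u) &&
    (inA s).all (fun x => (inA s).all fun y => (naList s).any fun h => Nat.beq (cj h x) y) &&
    (inA s).any (fun x => (inA s).any fun y => Nat.beq (mul x y) 12)

theorem sixteen_check : sixteenC 25 576 = true ∧ sixteenC 30 864 = true := by decide +kernel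

/-- The centraliser of `c` and the normaliser of `⟨a, b⟩`. -/
def centC (c s : ℕ) : Bool :=
  let cc := (List.range 1152).filter fun n => cm2 n c
  cc.all (fun n => e9.any fun x => (w4 s).any fun w => Nat.beq n (mul x w)) &&
    cc.all (fun n => !(Nat.beq (mul (mul (mul n n) (mul n n)) (mul (mul n n) (mul n n))) 0) ||
      !(memb (cj n s) (w4 s)) || memb n (w4 s)) &&
    cc.all (fun n => !(Nat.beq (cube n) 0) || memb n e9) &&
    Nat.beq cc.length 36

theorem cent_check_c : centC 25 576 = true ∧ centC 30 864 = true := by decide +kernel

/-- The normaliser of `⟨a, b⟩`. -/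
def neList : List ℕ :=
  (List.range 1152).filter fun h => memb (cj h 24) e9 && memb (cj h 1) e9

/-- No element of `N(⟨a, b⟩)` moves `d` into `⟨c⟩`, and elements fixing `c` act on it as involutions. -/
def normE (c d : ℕ) : Bool :=
  neList.all (fun h => !memb (cj h d) [c, inv c] && !memb (cj h (inv d)) [c, inv c]) &&
    neList.all (fun v => !cm2 v c || (Nat.beq (cj v (cj v 24)) 24 && Nat.beq (cj v (cj v 1)) 1))

theorem norm_check : normE 25 30 = true ∧ normE 30 25 = true := by decide +kernel

theorem e9_check : (e9.all fun x => e9.all fun y => memb (mul x y) e9 && cm2 x y) = true ∧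
    ((List.range 1152).all fun n =>
      !(cm2 n 24 && cm2 n 1) || memb n e9 || memb (mul n 12) e9) = true := by
  decide +kernel

/-- Elements of order three centralise no involution of `Q` apart from `z`. -/
def threeQ : Bool :=
  let l := (List.range 1152).filter fun t => isInv t && inQ t && !Nat.beq t 12
  (List.range 1152).all fun k => !isThree k || l.all fun t => !cm2 t k

theorem threeQ_check : threeQ = true := by decide +kernel

theorem cube_check : ((List.range 1152).all fun n =>
    !(Nat.beq (cube (cube n)) 0) || Nat.beq (cube n) 0) = true := by decide +kernel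

/-- The only involution centralising `a` is `z`. -/
theorem a_check : ((List.range 1152).all fun n => !(isInv n && cm2 n 24) || Nat.beq n 12) = true := by
  decide +kernel

/-- The elements of order three commuting with `⟨z, σ⟩` classify the elements of `⟨a, b⟩`. -/
theorem e9_types : (e9.all fun x => Nat.beq x 0 || memb x [25, 30, 145, 150] ||
    [0, 576, 288, 864].any fun h => Nat.beq (cj h 24) x) = true := by decide +kernel

end Cfsg.Agent.Lib.U43Type85
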