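import Mathlib
import Cfsg.Agent.Lib.Involutions.IndexTwo

/-!
# U4(3) type: general lemmas on finite groups

Owner: helper85.
-/

set_option autoImplicit false

namespace Cfsg.Agent.Lib.U43Type85.Tools

open Subgroup
open scoped Pointwise

variable {G : Type*} [Group G]

/-- A Sylow subgroup of a subgroup, inside the ambient group. -/
theorem sylow_in [Finite G] (p : ℕ) [Fact p.Prime] {H A : Subgroup G} (hA : A ≤ H) (hp : IsPGroup p A) :
    ∃ P : Subgroup G, A ≤ P ∧ P ≤ H ∧ IsPGroup p P ∧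
      Nat.card P = p ^ (Nat.card H).factorization p ∧
      ∀ B ≤ H, IsPGroup p B → ∃ k ∈ H, ∀ b ∈ B, k * b * k⁻¹ ∈ P := by
  have hA' : IsPGroup p (A.subgroupOf H) := hp.of_equiv (subgroupOfEquivOfLe hA).symm
  obtain ⟨S, hS⟩ := hA'.exists_le_sylow
  refine ⟨(S : Subgroup H).map H.subtype, fun a ha => ⟨⟨a, hA ha⟩, hS ha, rfl⟩,
    map_subtype_le _, S.2.map _, ?_, fun B hB hBp => ?_⟩
  · rw [card_map_of_injective (subtype_injective H)]
    exact S.card_eq_multiplicity
  · have hB' : IsPGroup p (B.subgroupOf H) := hBp.of_equiv (subgroupOfEquivOfLe hB).symm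
    obtain ⟨T, hT⟩ := hB'.exists_le_sylow
    obtain ⟨k, hk⟩ := MulAction.exists_smul_eq H T S
    refine ⟨k, k.2, fun b hb => ?_⟩
    have h1 : (⟨b, hB hb⟩ : H) ∈ T := hT hb
    have h2 : k * ⟨b, hB hb⟩ * k⁻¹ ∈ k • T := by
      show k * ⟨b, hB hb⟩ * k⁻¹ ∈ (MulAut.conj k • (T : Subgroup H))
      exact Subgroup.smul_mem_pointwise_smul _ (MulAut.conj k) _ h1
    rw [hk] at h2
    exact ⟨_, h2, rfl⟩

/-- A nontrivial two-group has a central involution. -/
theorem exists_central [Finite G] {P : Subgroup G} (hP : IsPGroup 2 P) {x : G} (hx : x ∈ P) (hx1 : x ≠ 1) :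
    ∃ u ∈ P, orderOf u = 2 ∧ ∀ p ∈ P, Commute u p := by
  have : Nontrivial P := ⟨⟨⟨x, hx⟩, 1, fun e => hx1 (congrArg Subtype.val e)⟩⟩
  haveI := hP.center_nontrivial
  obtain ⟨k, hk⟩ := IsPGroup.iff_card.1 (hP.to_subgroup (center P))
  have hk0 : k ≠ 0 := fun e => by
    rw [e, pow_zero] at hk
    exact absurd hk (Finite.one_lt_card (α := center P)).ne'
  obtain ⟨u, hu⟩ := exists_prime_orderOf_dvd_card' (G := center P) 2 (hk ▸ dvd_pow_self 2 hk0)
  refine ⟨u.1.1, u.1.2, by rw [orderOf_coe, orderOf_coe, hu], fun p hp => ?_⟩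
  exact congrArg Subtype.val (mem_center_iff.1 u.2 ⟨p, hp⟩).symm

theorem isPGroup_zpowers [Finite G] {p k : ℕ} [hp : Fact p.Prime] {x : G} (h : x ^ p ^ k = 1) :
    IsPGroup p (zpowers x) := by
  obtain ⟨i, -, hi⟩ := (Nat.dvd_prime_pow hp.out).1 (orderOf_dvd_of_pow_eq_one h)
  exact IsPGroup.of_card (by rw [Nat.card_zpowers, hi])

theorem pow_card_eq_one_of_mem [Finite G] {H : Subgroup G} {x : G} (hx : x ∈ H) : x ^ Nat.card H = 1 :=
  orderOf_dvd_iff_pow_eq_one.1 (orderOf_dvd_natCard H hx)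

theorem mul_three_comm {a b c a' b' c' : G} (h1 : Commute b a') (h2 : Commute c a') (h3 : Commute c b') :
    a * b * c * (a' * b' * c') = a * a' * (b * b') * (c * c') :=
  calc a * b * c * (a' * b' * c') = a * b * (c * a') * b' * c' := by group
    _ = a * b * (a' * c) * b' * c' := by rw [h2.eq]
    _ = a * (b * a') * (c * b') * c' := by group
    _ = a * (a' * b) * (b' * c) * c' := by rw [h1.eq, h3.eq]
    _ = a * a' * (b * b') * (c * c') := by group

theorem inv_three_comm {a b c : G} (h1 : Commute a b) (h2 : Commute a c) (h3 : Commute b c) :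
    (a * b * c)⁻¹ = a⁻¹ * b⁻¹ * c⁻¹ := by
  rw [mul_inv_rev, ← (h2.mul_left h3).inv_inv.eq, mul_inv_rev, ← h1.inv_inv.eq]

theorem eq_one_of_coprime {x : G} {m n : ℕ} (hm : x ^ m = 1) (hn : x ^ n = 1) (h : m.Coprime n) :
    x = 1 := by
  have := pow_gcd_eq_one.2 ⟨hm, hn⟩
  rwa [h.gcd_eq_one, pow_one] at this

theorem odd_orderOf_iff [Finite G] {x : G} : Odd (orderOf x) ↔ ∃ n, Odd n ∧ x ^ n = 1 :=
  ⟨fun h => ⟨_, h, pow_orderOf_eq_one x⟩,
    fun ⟨_, hn, h⟩ => hn.of_dvd_nat (orderOf_dvd_of_pow_eq_one h)⟩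

theorem odd_orderOf_pow [Finite G] {x : G} (h : Odd (orderOf x)) (n : ℕ) : Odd (orderOf (x ^ n)) :=
  h.of_dvd_nat (orderOf_pow_dvd n)

theorem orderOf_conj (g x : G) : orderOf (g * x * g⁻¹) = orderOf x :=
  MulEquiv.orderOf_eq (MulAut.conj g) x

theorem odd_of_three_pow [Finite G] {x : G} {k : ℕ} (h : x ^ 3 ^ k = 1) : Odd (orderOf x) :=
  odd_orderOf_iff.2 ⟨_, (by decide : Odd 3).pow, h⟩

/-- An element of odd order lies in every subgroup containing its square. -/
theorem mem_of_sq_mem [Finite G] {H : Subgroup G} {x : G} (ho : Odd (orderOf x)) (h : x * x ∈ H) :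
    x ∈ H := by
  obtain ⟨k, hk⟩ := ho
  have h2 : x = (x * x) ^ (k + 1) := by
    rw [← pow_two, ← pow_mul, show 2 * (k + 1) = orderOf x + 1 by omega, pow_succ, pow_orderOf_eq_one,
      one_mul]
  exact h2 ▸ pow_mem h _

/-- A group of order twice an odd number has its elements of odd order as a subgroup. -/
theorem exists_odd_part [Finite G] {H : Subgroup G} (h : Nat.card H % 4 = 2) :
    ∃ R : Subgroup G, R ≤ H ∧ 2 * Nat.card R = Nat.card H ∧
      ∀ g ∈ H, (g ∈ R ↔ Odd (orderOf g)) := by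
  obtain ⟨K, hK⟩ := Involutions.IndexTwo.exists_index_two_of_mod_four h
  have hcard : Nat.card K * 2 = Nat.card H := by rw [← hK]; exact K.card_mul_index
  refine ⟨K.map H.subtype, map_subtype_le _, ?_, fun g hg => ?_⟩
  · rw [card_map_of_injective (subtype_injective H)]; omega
  · constructor
    · rintro ⟨w, hw, rfl⟩
      have ho : Odd (Nat.card K) := Nat.odd_iff.2 (by omega)
      refine ho.of_dvd_nat ?_
      show orderOf ((w : H) : G) ∣ _
      rw [orderOf_coe]
      exact orderOf_dvd_natCard K hw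
    · intro ho
      refine ⟨⟨g, hg⟩, ?_, rfl⟩
      have hsq : (⟨g, hg⟩ : H) * ⟨g, hg⟩ ∈ K := (Subgroup.mul_mem_iff_of_index_two hK).2 Iff.rfl
      refine mem_of_sq_mem ?_ hsq
      rwa [← orderOf_coe]

/-- Membership in the normaliser of a subgroup of a finite group. -/
theorem mem_normalizer_of [Finite G] {A : Subgroup G} {g : G} (h : ∀ a ∈ A, g * a * g⁻¹ ∈ A) :
    g ∈ normalizer (A : Set G) := by
  have hle : A.map (MulAut.conj g).toMonoidHom ≤ A := by
    rintro _ ⟨a, ha, rfl⟩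
    exact h a ha
  have heq := eq_of_le_of_card_ge hle (le_of_eq (card_map_of_injective (MulAut.conj g).injective).symm)
  refine mem_normalizer_iff.2 fun a => ⟨h a, fun ha => ?_⟩
  rw [← heq] at ha
  obtain ⟨b, hb, e⟩ := ha
  have : b = a := mul_left_cancel (mul_right_cancel (show g * b * g⁻¹ = g * a * g⁻¹ from e))
  exact this ▸ hb

/-- Conjugation by an element inverting itself. -/
theorem conj_back {g a b : G} (h : g * a * g⁻¹ = b) : g⁻¹ * b * g = a := by rw [← h]; group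

theorem commute_conj {g a b : G} (h : Commute a b) : Commute (g * a * g⁻¹) (g * b * g⁻¹) :=
  h.map (MulAut.conj g)

theorem commute_of_conj_eq {g a : G} (h : g * a * g⁻¹ = a) : Commute g a := mul_inv_eq_iff_eq_mul.1 h

theorem conj_eq_of_commute {g a : G} (h : Commute g a) : g * a * g⁻¹ = a :=
  mul_inv_eq_iff_eq_mul.2 h.eq

end Cfsg.Agent.Lib.U43Type85.Tools
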