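import Cfsg.Agent.Lib.U43Type85.Iface
import Cfsg.Agent.Lib.U43Type85.CheckC
import Cfsg.Agent.Lib.U43Type85.Tools

/-!
# U4(3) type: the elements around `c` from their codes

Owner: helper85.
-/

set_option autoImplicit false

namespace Cfsg.Agent.Lib.U43Type85

open Subgroup Tools

theorem memb_iff {n : ℕ} {l : List ℕ} : memb n l = true ↔ n ∈ l := by
  simp only [memb, List.any_eq_true]
  exact ⟨fun ⟨a, ha, e⟩ => Nat.eq_of_beq_eq_true e ▸ ha, fun h => ⟨n, h, Nat.beq_refl n⟩⟩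

theorem all_mem {l : List ℕ} {p : ℕ → Bool} (h : l.all p = true) {k : ℕ} (hk : k ∈ l) : p k = true :=
  List.all_eq_true.1 h k hk

theorem e9_lt : ∀ x ∈ e9, x < 1152 := by decide

namespace Setup

variable {G : Type*} [Group G] {z : G} (S : Setup z)

theorem conj_code {m n k : ℕ} (hm : m < 1152) (hn : n < 1152) (h : cj m n = k) :
    S.f m * S.f n * (S.f m)⁻¹ = S.f k := by rw [← S.f_cj hm hn, h]

theorem code_of_conj {m n k : ℕ} (hm : m < 1152) (hn : n < 1152) (hk : k < 1152)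
    (h : S.f m * S.f n * (S.f m)⁻¹ = S.f k) : cj m n = k :=
  S.f_inj _ (cj_lt hm hn) _ hk ((S.f_cj hm hn).trans h)

theorem f_cube {n : ℕ} (hn : n < 1152) : S.f (cube n) = S.f n ^ 3 := by
  rw [cube, S.f_mul _ (mul_lt hn hn) n hn, S.f_mul n hn n hn, pow_succ, sq]

theorem cube_eq {n : ℕ} (hn : n < 1152) : cube n = 0 ↔ S.f n ^ 3 = 1 := by
  rw [← S.f_cube hn, cube, S.f_eq_one (mul_lt (mul_lt hn hn) hn)]

theorem three_pow {n : ℕ} (hn : n < 1152) {k : ℕ} (h : S.f n ^ 3 ^ k = 1) : S.f n ^ 3 = 1 := by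
  induction k generalizing n with
  | zero =>
    rw [pow_zero, pow_one] at h
    rw [h, one_pow]
  | succ k ih =>
    have hc : cube n < 1152 := mul_lt (mul_lt hn hn) hn
    have h' := ih hc (by rw [S.f_cube hn, ← pow_mul, ← pow_succ']; exact h)
    have e : cube (cube n) = 0 := (S.cube_eq hc).2 h'
    have hk := all_range cube_check hn
    rw [beq_true e] at hk
    exact (S.cube_eq hn).1 (Nat.eq_of_beq_eq_true (by simpa using hk))

/-- `⟨a, b⟩`. -/
def E : Subgroup G where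
  carrier := {g | ∃ n ∈ e9, S.f n = g}
  one_mem' := ⟨0, by simp [e9], S.f_zero⟩
  mul_mem' := by
    rintro _ _ ⟨x, hx, rfl⟩ ⟨y, hy, rfl⟩
    have h := all_mem (all_mem e9_check.1 hx) hy
    simp only [Bool.and_eq_true, memb_iff] at h
    exact ⟨_, h.1, S.f_mul x (e9_lt x hx) y (e9_lt y hy)⟩
  inv_mem' := by
    rintro _ ⟨x, hx, rfl⟩
    have key : ∀ x ∈ e9, inv x ∈ e9 := by decide +kernel
    exact ⟨_, key x hx, S.f_inv (e9_lt x hx)⟩

theorem mem_E {g : G} : g ∈ S.E ↔ ∃ n ∈ e9, S.f n = g := Iff.rfl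

theorem E_z {g : G} (h : g ∈ S.E) : Commute g z := by
  obtain ⟨n, -, rfl⟩ := h
  exact S.f_comm n

theorem E_comm {g h : G} (hg : g ∈ S.E) (hh : h ∈ S.E) : Commute g h := by
  obtain ⟨x, hx, rfl⟩ := hg
  obtain ⟨y, hy, rfl⟩ := hh
  have h := all_mem (all_mem e9_check.1 hx) hy
  simp only [Bool.and_eq_true] at h
  exact (S.cm2_iff (e9_lt x hx) (e9_lt y hy)).1 h.2

theorem E_cube {g : G} (hg : g ∈ S.E) : g ^ 3 = 1 := by
  obtain ⟨x, hx, rfl⟩ := hg
  have key : ∀ x ∈ e9, cube x = 0 := by decide +kernel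
  exact (S.cube_eq (e9_lt x hx)).1 (key x hx)

theorem E_isPGroup : IsPGroup 3 S.E := fun g => ⟨1, Subtype.ext (S.E_cube g.2)⟩

theorem card_E : Nat.card S.E = 9 := by
  let e : {n // n ∈ e9} → S.E := fun n => ⟨S.f n.1, n.1, n.2, rfl⟩
  have hb : Function.Bijective e := by
    refine ⟨fun x y h => Subtype.ext (S.f_inj _ (e9_lt _ x.2) _ (e9_lt _ y.2) (congrArg Subtype.val h)), ?_⟩
    rintro ⟨g, n, hn, rfl⟩
    exact ⟨⟨n, hn⟩, rfl⟩
  rw [← Nat.card_eq_of_bijective e hb, Nat.card_eq_fintype_card]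
  rfl

theorem a_mem : S.f 24 ∈ S.E := ⟨24, by simp [e9], rfl⟩

theorem b_mem : S.f 1 ∈ S.E := ⟨1, by simp [e9], rfl⟩

/-- An element commuting with `a`, `b` and `z` lies in `E` or in `E z`. -/
theorem cent_E_z {g : G} (hz : Commute g z) (ha : Commute g (S.f 24)) (hb : Commute g (S.f 1)) :
    g ∈ S.E ∨ g * z ∈ S.E := by
  obtain ⟨n, hn, rfl⟩ := S.f_surj g hz
  have h := all_range e9_check.2 hn
  simp only [(S.cm2_iff hn (by norm_num)).2 ha, (S.cm2_iff hn (by norm_num)).2 hb, Bool.and_self,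
    Bool.not_true, Bool.false_or, Bool.or_eq_true, memb_iff] at h
  rcases h with h | h
  · exact Or.inl ⟨n, h, rfl⟩
  · refine Or.inr ⟨_, h, ?_⟩
    rw [S.f_mul n hn 12 (by norm_num), S.f_z]

theorem E_le_cent {g : G} (hg : g ∈ S.E) :
    g ∈ centralizer ({S.f 24} : Set G) ⊓ centralizer ({S.f 1} : Set G) :=
  ⟨mem_cent.2 (S.E_comm hg S.a_mem), mem_cent.2 (S.E_comm hg S.b_mem)⟩

theorem commute_E {g h : G} (hh : h ∈ S.E) (ha : Commute g (S.f 24)) (hb : Commute g (S.f 1)) :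
    Commute g h := by
  obtain ⟨n, hn, rfl⟩ := hh
  have key : ∀ n ∈ e9, ∃ i ∈ [0, 24, 144], ∃ j ∈ [0, 1, 6], mul i j = n := by decide +kernel
  obtain ⟨i, hi, j, hj, rfl⟩ := key n hn
  have hI : Commute g (S.f i) := by
    simp only [List.mem_cons, List.not_mem_nil, or_false] at hi
    rcases hi with rfl | rfl | rfl
    · rw [S.f_zero]; exact Commute.one_right g
    · exact ha
    · rw [show 144 = inv 24 by decide +kernel, S.f_inv (by norm_num)]; exact ha.inv_right
  have hJ : Commute g (S.f j) := by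
    simp only [List.mem_cons, List.not_mem_nil, or_false] at hj
    rcases hj with rfl | rfl | rfl
    · rw [S.f_zero]; exact Commute.one_right g
    · exact hb
    · rw [show 6 = inv 1 by decide +kernel, S.f_inv (by norm_num)]; exact hb.inv_right
  have li : i < 1152 := (by decide : ∀ i ∈ [0, 24, 144], i < 1152) i hi
  have lj : j < 1152 := (by decide : ∀ j ∈ [0, 1, 6], j < 1152) j hj
  rw [S.f_mul i li j lj]
  exact hI.mul_right hJ

include S in
theorem z_inv : z⁻¹ = z := inv_eq_of_mul_eq_one_right S.z_sq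

/-- The only involution of `C(z)` centralising `a` is `z`. -/
theorem invol_a {u : G} (hu : orderOf u = 2) (hz : Commute u z) (ha : Commute u (S.f 24)) : u = z := by
  obtain ⟨n, hn, rfl⟩ := S.f_surj u hz
  have h := all_range a_check hn
  simp only [(S.isInv_iff hn).2 hu, (S.cm2_iff hn (by norm_num)).2 ha, Bool.and_self, Bool.not_true,
    Bool.false_or] at h
  rw [Nat.eq_of_beq_eq_true h, S.f_z]

/-- Two commuting involutions centralising `a` are equal. -/
theorem no_four_a [Finite G] {v w : G} (hv : orderOf v = 2) (hw : orderOf w = 2) (hvw : Commute v w)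
    (hva : Commute v (S.f 24)) (hwa : Commute w (S.f 24)) : v = w := by
  haveI : Fact (Nat.Prime 2) := ⟨Nat.prime_two⟩
  set C := centralizer ({S.f 24} : Set G)
  have hzC : z ∈ C := mem_cent.2 (S.E_z S.a_mem).symm
  obtain ⟨P, hzP, hPC, hP, -, hconj⟩ := sylow_in 2 (H := C) (A := zpowers z) (zpowers_le.2 hzC)
    (Tools.isPGroup_zpowers (k := 1) (by rw [pow_one, sq, S.z_sq]))
  have hzP' : z ∈ P := hzP (mem_zpowers z)
  obtain ⟨u, huP, hu, hcen⟩ := Tools.exists_central hP hzP' S.z_ne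
  have hcz : ∀ p ∈ P, Commute p z := fun p hp =>
    S.invol_a hu (hcen z hzP') (mem_cent.1 (hPC huP)) ▸ (hcen p hp).symm
  have huniq : ∀ p ∈ P, orderOf p = 2 → p = z := fun p hp h2 =>
    S.invol_a h2 (hcz p hp) (mem_cent.1 (hPC hp))
  have hsup : IsPGroup 2 ↥(zpowers v ⊔ zpowers w) := by
    refine IsPGroup.to_sup_of_normal_right' (Tools.isPGroup_zpowers (k := 1) (by rw [pow_one, sq, sq_of_orderOf hv]))
      (Tools.isPGroup_zpowers (k := 1) (by rw [pow_one, sq, sq_of_orderOf hw])) ?_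
    rw [zpowers_le]
    refine Tools.mem_normalizer_of fun a ha => ?_
    obtain ⟨i, rfl⟩ := mem_zpowers_iff.1 ha
    rw [(hvw.zpow_right i).eq, mul_inv_cancel_right]
    exact ha
  obtain ⟨k, -, hk⟩ := hconj _ (sup_le (zpowers_le.2 (mem_cent.2 hva)) (zpowers_le.2 (mem_cent.2 hwa))) hsup
  have e1 := huniq _ (hk v (mem_sup_left (mem_zpowers v))) (by rw [Tools.orderOf_conj, hv])
  have e2 := huniq _ (hk w (mem_sup_right (mem_zpowers w))) (by rw [Tools.orderOf_conj, hw])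
  exact mul_left_cancel (mul_right_cancel (e1.trans e2.symm))

end Setup

end Cfsg.Agent.Lib.U43Type85
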