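import Cfsg.Agent.Lib.U43Type85.Twist

/-!
# U4(3) type: elements of the centraliser from a conjugate of `z` in `Q`

Owner: helper85.
-/

set_option autoImplicit false

namespace Cfsg.Agent.Lib.U43Type85

open Subgroup

variable {G : Type*} [Group G] {z : G}

namespace Pair

variable (P : Pair z)

/-- The commutator of a product of the embeddings in terms of codes. -/
theorem kx_code_eq {X Y U V : ℕ} (hX : X < 24) (hY : Y < 24) (hU : U < 24) (hV : V < 24) :
    enc X Y 0 = enc U V 0 ↔ P.kx X Y = P.kx U V :=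
  ⟨P.kx_eq_of_enc hX hY hU hV, P.kx_eq hX hY hU hV⟩

theorem kcomm_iff {X Y U V : ℕ} (hX : X < 24) (hY : Y < 24) (hU : U < 24) (hV : V < 24) :
    kcomm X Y U V = true ↔ Commute (P.kx X Y) (P.kx U V) := by
  have h : Commute (P.kx X Y) (P.kx U V) ↔ k2 X Y U V = k2 U V X Y := by
    show _ * _ = _ * _ ↔ _
    rw [P.kx_mul hX hY hU hV, P.kx_mul hU hV hX hY]
    exact (P.kx_code_eq (tmul_lt X hX U hU) (tmul_lt Y hY V hV) (tmul_lt U hU X hX)
      (tmul_lt V hV Y hY)).symm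
  rw [h]
  exact ⟨Nat.eq_of_beq_eq_true, fun e => beq_true e⟩

theorem kx_conj {k l X Y : ℕ} (hk : k < 24) (hl : l < 24) (hX : X < 24) (hY : Y < 24) :
    P.kx k l * P.kx X Y * (P.kx k l)⁻¹ = P.kx (autc k false X) (autc l false Y) := by
  rw [P.kx_inv hk hl, P.kx_mul hk hl hX hY,
    P.kx_mul (tmul_lt k hk X hX) (tmul_lt l hl Y hY) (tinv_lt k hk) (tinv_lt l hl)]
  rfl

theorem code_zero {X Y : ℕ} (hX : X < 24) (hY : Y < 24) : enc X Y 0 = 0 ↔ P.kx X Y = 1 := by
  rw [← P.kx_zero, ← P.kx_code_eq hX hY (by norm_num) (by norm_num)]; rfl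

theorem code_twelve {X Y : ℕ} (hX : X < 24) (hY : Y < 24) : enc X Y 0 = 12 ↔ P.kx X Y = z := by
  have e : enc 12 0 0 = 12 := by decide +kernel
  refine ⟨fun h => ?_, fun h => ?_⟩
  · exact (P.kx_eq_of_enc hX hY (U := 12) (V := 0) (by norm_num) (by norm_num) (h.trans e.symm)).trans P.kx_z
  · exact (P.kx_eq hX hY (U := 12) (V := 0) (by norm_num) (by norm_num) (h.trans P.kx_z.symm)).trans e

theorem z_mul_x : z * P.kx 3 3 = P.kx (tmul 12 3) (tmul 0 3) :=
  calc z * P.kx 3 3 = P.kx 12 0 * P.kx 3 3 := congrArg (· * P.kx 3 3) P.kx_z.symm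
    _ = _ := P.kx_mul (by norm_num) (by norm_num) (by norm_num) (by norm_num)

theorem InQ.z_mem : P.InQ z :=
  ⟨12, by norm_num, 0, by norm_num, rfl, rfl, P.kx_z.symm⟩

theorem code_x {X Y : ℕ} (hX : X < 24) (hY : Y < 24) : enc X Y 0 = 75 ↔ P.kx X Y = P.kx 3 3 := by
  rw [← P.kx_code_eq hX hY (by norm_num) (by norm_num)]
  exact Iff.of_eq (congrArg _ (by decide +kernel))

theorem x_facts : P.kx 3 3 * P.kx 3 3 = 1 ∧ P.kx 3 3 ≠ 1 ∧ P.kx 3 3 ≠ z ∧ P.InQ (P.kx 3 3) ∧
    Commute (P.kx 3 3) z := by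
  refine ⟨?_, fun h => ?_, fun h => ?_,
    ⟨3, by norm_num, 3, by norm_num, rfl, rfl, rfl⟩, P.kx_commute_z (by norm_num) (by norm_num)⟩
  · rw [P.kx_mul (by norm_num) (by norm_num) (by norm_num) (by norm_num)]
    exact (P.code_zero (tmul_lt 3 (by norm_num) 3 (by norm_num))
      (tmul_lt 3 (by norm_num) 3 (by norm_num))).1 (by decide +kernel)
  · exact absurd ((P.code_zero (by norm_num) (by norm_num)).2 h) (by decide +kernel)
  · exact absurd ((P.code_twelve (by norm_num) (by norm_num)).2 h) (by decide +kernel)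

theorem isQI_of {u v : ℕ} (hu : u < 24) (hv : v < 24) (h2 : P.kx u v * P.kx u v = 1)
    (h1 : P.kx u v ≠ 1) (hz : P.kx u v ≠ z) : isQI u v = true := by
  rw [P.kx_mul hu hv hu hv] at h2
  have e : k2 u v u v = 0 := (P.code_zero (tmul_lt u hu u hu) (tmul_lt v hv v hv)).2 h2
  simp only [isQI, beq_true e, beq_false (fun h => h1 ((P.code_zero hu hv).1 h)),
    beq_false (fun h => hz ((P.code_twelve hu hv).1 h)), Bool.not_false, Bool.and_self]

/-- `g` moves `z` to the fixed involution `x` of `Q`. -/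
def Norm75 (g : G) : Prop := g * z * g⁻¹ = P.kx 3 3

theorem exists_norm75 (hH : Hyp P) : ∃ g, P.Norm75 g := by
  obtain ⟨g, ⟨u, hu, v, hv, qu, qv, e⟩, hne⟩ := hH.wc
  have hsq : g * z * g⁻¹ * (g * z * g⁻¹) = 1 := by
    rw [show g * z * g⁻¹ * (g * z * g⁻¹) = g * (z * z) * g⁻¹ by group, P.z_sq, mul_one,
      mul_inv_cancel]
  have h1 : g * z * g⁻¹ ≠ 1 := fun h => P.z_ne (by simpa using h)
  have hq := P.isQI_of hu hv (e ▸ hsq) (e ▸ h1) (e ▸ hne)
  have hc := all_l8 (all_l8 to_x_check hu qu) hv qv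
  simp only [hq, Bool.not_true, Bool.false_or] at hc
  obtain ⟨k, hk, hc⟩ := any_range hc
  obtain ⟨l, hl, hc⟩ := any_range hc
  refine ⟨P.kx k l * g, ?_⟩
  show P.kx k l * g * z * (P.kx k l * g)⁻¹ = _
  rw [show P.kx k l * g * z * (P.kx k l * g)⁻¹ = P.kx k l * (g * z * g⁻¹) * (P.kx k l)⁻¹ by group, e,
    P.kx_conj hk hl hu hv]
  exact (P.code_x (autc_lt false hk hu) (autc_lt false hl hv)).1 (Nat.eq_of_beq_eq_true hc)

variable {P} {g : G} (hg : P.Norm75 g) (hH : Hyp P)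
include hg

theorem x_back : g⁻¹ * P.kx 3 3 * g = z := by rw [← hg]; group

theorem commute_x_of {w : G} (hw : Commute (g⁻¹ * w * g) z) : Commute w (P.kx 3 3) := by
  have := hw.map (MulAut.conj g)
  simp only [MulAut.conj_apply] at this
  rw [hg] at this
  simpa [mul_assoc] using this

theorem back_commute {c : G} (hc : Commute c (P.kx 3 3)) : Commute (g⁻¹ * c * g) z := by
  have := hc.map (MulAut.conj g⁻¹)
  simp only [MulAut.conj_apply, inv_inv] at this
  rwa [x_back hg] at this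

include hH

theorem z_back : P.InQ (g⁻¹ * z * g) := by
  classical
  have hx := P.x_facts
  have hcard := hH.inter g (hg ▸ hx.2.2.2.1) (hg ▸ hx.2.2.1)
  by_contra hz
  have hy : ∃ y, P.InQ y ∧ P.InQ (g⁻¹ * y * g) ∧ y ≠ 1 ∧ y ≠ P.kx 3 3 := by
    by_contra hno
    push Not at hno
    have hfin : Finite {v : G // P.InQ v ∧ P.InQ (g⁻¹ * v * g)} :=
      Nat.finite_of_card_ne_zero (by rw [hcard]; norm_num)
    let φ : {v : G // P.InQ v ∧ P.InQ (g⁻¹ * v * g)} → Bool := fun v => decide (v.1 = 1)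
    have hinj : Function.Injective φ := fun a b e => Subtype.ext (by
      by_cases ha : a.1 = 1
      · rw [ha]
        simp only [φ, ha, decide_true] at e
        exact (of_decide_eq_true e.symm).symm
      · have hb : b.1 ≠ 1 := fun hb => by simp [φ, ha, hb] at e
        rw [hno _ a.2.1 a.2.2 ha, hno _ b.2.1 b.2.2 hb])
    have := Nat.card_le_card_of_injective φ hinj
    rw [hcard, Nat.card_eq_fintype_card, Fintype.card_bool] at this
    omega
  obtain ⟨y, hyQ, hyQ', hy1, hyx⟩ := hy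
  obtain ⟨X, hX, Y, hY, qX, qY, rfl⟩ := id hyQ
  have hyc : Commute (P.kx X Y) (P.kx 3 3) := commute_x_of hg (InQ.commute_z P hyQ')
  have hc := all_l8 (all_l8 inter_check hX qX) hY qY
  simp only [(P.kcomm_iff hX hY (by norm_num) (by norm_num)).2 hyc,
    beq_false (fun h => hy1 ((P.code_zero hX hY).1 h)),
    beq_false (fun h => hyx ((P.code_x hX hY).1 h)), Bool.not_false, Bool.and_self, Bool.not_true,
    Bool.false_or, Bool.or_eq_true] at hc
  rcases hc with (h12 | h87) | hU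
  · refine hz ?_
    have e := (P.code_twelve hX hY).1 (Nat.eq_of_beq_eq_true h12)
    simp only [e] at hyQ'
    exact hyQ'
  · have e87 : P.kx X Y = z * P.kx 3 3 := by
      rw [P.z_mul_x]
      exact P.kx_eq_of_enc hX hY (tmul_lt 12 (by norm_num) 3 (by norm_num))
        (tmul_lt 0 (by norm_num) 3 (by norm_num))
        ((Nat.eq_of_beq_eq_true h87).trans (by decide +kernel))
    rw [e87, show g⁻¹ * (z * P.kx 3 3) * g = (g⁻¹ * z * g) * (g⁻¹ * P.kx 3 3 * g) by group,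
      x_back hg] at hyQ'
    have hzQ : P.InQ z := InQ.z_mem P
    refine hz ?_
    simpa [mul_assoc, P.z_sq] using InQ.mul P hyQ' hzQ
  · obtain ⟨U, hU, qU, hU'⟩ := any_l8 hU
    obtain ⟨V, hV, qV, hU'⟩ := any_l8 hU'
    simp only [Bool.and_eq_true] at hU'
    have hcx : Commute (P.kx U V) (P.kx 3 3) :=
      (P.kcomm_iff hU hV (by norm_num) (by norm_num)).1 hU'.1
    have hz' : P.kx U V * P.kx X Y * (P.kx U V)⁻¹ * (P.kx X Y)⁻¹ = z := by
      rw [P.kx_inv hU hV, P.kx_inv hX hY, P.kx_mul hU hV hX hY,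
        P.kx_mul (tmul_lt U hU X hX) (tmul_lt V hV Y hY) (tinv_lt U hU) (tinv_lt V hV),
        P.kx_mul (tmul_lt _ (tmul_lt U hU X hX) _ (tinv_lt U hU))
          (tmul_lt _ (tmul_lt V hV Y hY) _ (tinv_lt V hV)) (tinv_lt X hX) (tinv_lt Y hY)]
      refine (P.code_twelve (tmul_lt _ (tmul_lt _ (tmul_lt U hU X hX) _ (tinv_lt U hU)) _
        (tinv_lt X hX)) (tmul_lt _ (tmul_lt _ (tmul_lt V hV Y hY) _ (tinv_lt V hV)) _
        (tinv_lt Y hY))).1 (Nat.eq_of_beq_eq_true hU'.2)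
    refine hz ?_
    have e := congrArg (fun a => g⁻¹ * a * g) hz'
    rw [← e, show g⁻¹ * (P.kx U V * P.kx X Y * (P.kx U V)⁻¹ * (P.kx X Y)⁻¹) * g =
      (g⁻¹ * P.kx U V * g) * (g⁻¹ * P.kx X Y * g) * (g⁻¹ * P.kx U V * g)⁻¹ *
        (g⁻¹ * P.kx X Y * g)⁻¹ by group]
    exact InQ.mul P (InQ.conj P (back_commute hg hcx) hyQ') (InQ.inv P hyQ')

theorem inter_eq {v : G} (h1 : P.InQ v) (h2 : P.InQ (g⁻¹ * v * g)) :
    v = 1 ∨ v = z ∨ v = P.kx 3 3 ∨ v = z * P.kx 3 3 := by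
  classical
  have hx := P.x_facts
  have hzQ : P.InQ z := InQ.z_mem P
  have hcard := hH.inter g (hg ▸ hx.2.2.2.1) (hg ▸ hx.2.2.1)
  set S : Set G := {v | P.InQ v ∧ P.InQ (g⁻¹ * v * g)} with hS
  have hfin : S.Finite := Set.finite_coe_iff.1 (Nat.finite_of_card_ne_zero
    (show Nat.card S ≠ 0 by rw [show Nat.card S = 4 from hcard]; norm_num))
  have hb : g⁻¹ * P.kx 3 3 * g = z := x_back hg
  have hzx : z * P.kx 3 3 ∈ S := ⟨InQ.mul P hzQ hx.2.2.2.1, by
    rw [show g⁻¹ * (z * P.kx 3 3) * g = (g⁻¹ * z * g) * (g⁻¹ * P.kx 3 3 * g) by group]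
    exact InQ.mul P (z_back hg hH) (by simpa only [hb] using hzQ)⟩
  have hsub : ({1, z, P.kx 3 3, z * P.kx 3 3} : Set G) ⊆ S := by
    rintro a (rfl | rfl | rfl | rfl)
    · exact ⟨InQ.one P, by simpa using InQ.one P⟩
    · exact ⟨hzQ, z_back hg hH⟩
    · exact ⟨hx.2.2.2.1, by simpa only [hb] using hzQ⟩
    · exact hzx
  have hne : z ≠ P.kx 3 3 := fun e => hx.2.2.1 e.symm
  have hzx1 : z * P.kx 3 3 ≠ 1 := fun e => hne ((mul_eq_one_iff_eq_inv.1 e).trans
    (inv_eq_of_mul_eq_one_right hx.1))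
  have h4 : ({1, z, P.kx 3 3, z * P.kx 3 3} : Set G).ncard = 4 := by
    rw [Set.ncard_eq_four]
    exact ⟨1, z, P.kx 3 3, z * P.kx 3 3, P.z_ne.symm, hx.2.1.symm, hzx1.symm, hne,
      fun e => hx.2.1 (mul_eq_left.1 e.symm), fun e => P.z_ne (mul_eq_right.1 e.symm), rfl⟩
  have heq := Set.eq_of_subset_of_ncard_le hsub (by
    rw [h4, ← Nat.card_coe_set_eq]; exact hcard.le) hfin
  have hv : v ∈ S := ⟨h1, h2⟩
  rwa [← heq] at hv

/-- The elements of `C(z)` in the other `Q`. -/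
theorem com_mem {w q : G} (hwz : Commute w z) (hw : P.InQ (g⁻¹ * w * g)) (hq : P.InQ q)
    (hqx : Commute q (P.kx 3 3)) :
    w * q * w⁻¹ * q⁻¹ = 1 ∨ w * q * w⁻¹ * q⁻¹ = z ∨ w * q * w⁻¹ * q⁻¹ = P.kx 3 3 ∨
      w * q * w⁻¹ * q⁻¹ = z * P.kx 3 3 := by
  refine inter_eq hg hH (InQ.mul P (InQ.conj P hwz hq) (InQ.inv P hq)) ?_
  rw [show g⁻¹ * (w * q * w⁻¹ * q⁻¹) * g = (g⁻¹ * w * g) *
    ((g⁻¹ * q * g) * (g⁻¹ * w * g)⁻¹ * (g⁻¹ * q * g)⁻¹) by group]
  exact InQ.mul P hw (InQ.conj P (back_commute hg hqx) (InQ.inv P hw))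

theorem inE0_of {X Y : ℕ} (hX : X < 24) (hY : Y < 24)
    (h : P.kx X Y = 1 ∨ P.kx X Y = z ∨ P.kx X Y = P.kx 3 3 ∨ P.kx X Y = z * P.kx 3 3) :
    inE0 (enc X Y 0) = true := by
  rcases h with h | h | h | h
  · rw [(P.code_zero hX hY).2 h]; rfl
  · rw [(P.code_twelve hX hY).2 h]; rfl
  · rw [(P.code_x hX hY).2 h]; rfl
  · rw [P.z_mul_x] at h
    rw [P.kx_eq hX hY (tmul_lt 12 (by norm_num) 3 (by norm_num))
      (tmul_lt 0 (by norm_num) 3 (by norm_num)) h]
    decide +kernel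

theorem preserve_type {w : G} (hwz : Commute w z) (hw : P.InQ (g⁻¹ * w * g)) (hwK : w ∉ P.K)
    {k l : ℕ} (hk : k < 24) (hl : l < 24) {e f : Bool} (h1 : P.MapsTo w false false k e)
    (h2 : P.MapsTo w true true l f) : e = true ∧ f = true := by
  have hconj : ∀ X < 24, ∀ Y < 24,
      w * P.kx X Y * w⁻¹ = P.kx (autc k e X) (autc l f Y) := fun X hX Y hY => by
    rw [kx, kx, show w * (P.ι false X * P.ι true Y) * w⁻¹ =
      (w * P.ι false X * w⁻¹) * (w * P.ι true Y * w⁻¹) by group, h1 X hX, h2 Y hY]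
  by_cases hef : e = f
  · subst hef
    cases e
    · exfalso
      refine hwK ?_
      obtain ⟨X, hX, Y, hY, qX, qY, hcv⟩ := P.self ((P.kx k l)⁻¹ * w)
        ((P.kx_commute_z hk hl).inv_left.mul_left hwz) fun i a ha _ => by
        have hb : ∀ i a, a < 24 → P.kx (bif i then 0 else a) (bif i then a else 0) = P.ι i a := by
          intro i a ha; rw [P.ι_eq_kx i ha]; cases i <;> rfl
        rw [← hb i a ha]
        set X := (bif i then 0 else a)
        set Y := (bif i then a else 0)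
        have hX : X < 24 := by cases i <;> simp [X, ha]
        have hY : Y < 24 := by cases i <;> simp [Y, ha]
        show (P.kx k l)⁻¹ * w * P.kx X Y = P.kx X Y * ((P.kx k l)⁻¹ * w)
        have e1 := mul_inv_eq_iff_eq_mul.1 (hconj X hX Y hY)
        rw [← P.kx_conj hk hl hX hY] at e1
        rw [mul_assoc, e1]
        group
      have : w = P.kx k l * P.kx X Y := by
        show w = P.kx k l * (P.ι false X * P.ι true Y)
        rw [← hcv, mul_inv_cancel_left]
      rw [this]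
      exact P.K.mul_mem ⟨k, hk, l, hl, rfl⟩ ⟨X, hX, Y, hY, rfl⟩
    · exact ⟨rfl, rfl⟩
  · exfalso
    have hf : f = !e := by cases e <;> cases f <;> simp_all
    subst hf
    have hc := all_bool (all_range (all_range mixed_check hk) hl) e
    have hx := hconj 3 (by norm_num) 3 (by norm_num)
    have hwx : Commute w (P.kx 3 3) := commute_x_of hg (InQ.commute_z P hw)
    rw [hwx.eq, mul_inv_cancel_right] at hx
    have hq : ∀ U < 24, ∀ V < 24, q8 U = true → q8 V = true → kcomm U V 3 3 = true →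
        inE0 (autCom k l e (!e) U V) = true := fun U hU V hV qU qV hc' => by
      refine inE0_of hg hH (tmul_lt _ (autc_lt e hk hU) _ (tinv_lt U hU))
        (tmul_lt _ (autc_lt _ hl hV) _ (tinv_lt V hV)) ?_
      rw [← P.kx_mul (autc_lt e hk hU) (autc_lt _ hl hV) (tinv_lt U hU) (tinv_lt V hV),
        ← P.kx_inv hU hV, ← hconj U hU V hV]
      exact com_mem hg hH hwz hw ⟨U, hU, V, hV, qU, qV, rfl⟩
        ((P.kcomm_iff hU hV (by norm_num) (by norm_num)).1 hc')
    have e75 : enc (autc k e 3) (autc l (!e) 3) 0 = 75 :=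
      (P.code_x (autc_lt e hk (by norm_num)) (autc_lt _ hl (by norm_num))).2 hx.symm
    simp only [beq_true e75, hq 3 (by norm_num) 0 (by norm_num) rfl rfl (by decide +kernel),
      hq 4 (by norm_num) 4 (by norm_num) rfl rfl (by decide +kernel), Bool.and_self, Bool.not_true] at hc
    exact Bool.noConfusion hc

/-- An element outside `ι₁ ι₂` swapping the sides, and one acting as `δ` up to inner automorphisms. -/
theorem exists_movers :
    (∃ w, Commute w z ∧ (w * w = 1 ∨ w * w = P.kx 3 3) ∧ ∃ k < 24, ∃ e, P.MapsTo w false true k e) ∧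
    ∃ w, Commute w z ∧ ∃ k < 24, ∃ l < 24, P.MapsTo w false false k true ∧ P.MapsTo w true true l true := by
  obtain ⟨u, hu, v, hv, qu, qv, ec⟩ := z_back hg hH
  have hx := P.x_facts
  have hzz : (g⁻¹ * z * g) * (g⁻¹ * z * g) = 1 := by
    rw [show g⁻¹ * z * g * (g⁻¹ * z * g) = g⁻¹ * (z * z) * g by group, P.z_sq, mul_one, inv_mul_cancel]
  have hqi : isQI u v = true := P.isQI_of hu hv (ec ▸ hzz)
    (fun e => P.z_ne (by
      have := congrArg (fun a => g * a * g⁻¹) (ec.trans e)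
      simp only [show g * (g⁻¹ * z * g) * g⁻¹ = z by group] at this
      simpa using this))
    (fun e => hx.2.2.1 (by
      have := congrArg (fun a => g * a * g⁻¹) (ec.trans e)
      simp only [show g * (g⁻¹ * z * g) * g⁻¹ = z by group] at this
      exact (this.trans hg).symm))
  have hc := all_l8 (all_l8 four_check hu qu) hv qv
  simp only [hqi, Bool.not_true, Bool.false_or] at hc
  obtain ⟨A, hA, qA, hc⟩ := any_l8 hc
  obtain ⟨B, hB, qB, hc⟩ := any_l8 hc
  obtain ⟨C, hC, qC, hc⟩ := any_l8 hc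
  obtain ⟨D, hD, qD, hc⟩ := any_l8 hc
  simp only [Bool.and_eq_true] at hc
  obtain ⟨⟨⟨⟨c1, c2⟩, o1⟩, o2⟩, o3⟩ := hc
  -- images in the other `Q`
  have good : ∀ U < 24, ∀ V < 24, q8 U = true → q8 V = true → kcomm U V u v = true →
      offE (enc U V 0) u v = true →
      let w := g * P.kx U V * g⁻¹
      Commute w z ∧ P.InQ (g⁻¹ * w * g) ∧ (w * w = 1 ∨ w * w = P.kx 3 3) ∧ w ∉ P.K := by
    intro U hU V hV qU qV hc' ho w
    have hq : P.InQ (P.kx U V) := ⟨U, hU, V, hV, qU, qV, rfl⟩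
    have hback : g⁻¹ * w * g = P.kx U V := by simp only [w]; group
    have hwz : Commute w z := by
      have := ((P.kcomm_iff hU hV hu hv).1 hc').map (MulAut.conj g)
      rw [← ec] at this
      simpa [w, mul_assoc] using this
    have hw2 : w * w = 1 ∨ w * w = P.kx 3 3 := by
      have sq : ∀ a < 24, ∀ b < 24, q8 a = true → q8 b = true →
          k2 a b a b = 0 ∨ k2 a b a b = 12 := by decide +kernel
      rw [show w * w = g * (P.kx U V * P.kx U V) * g⁻¹ by simp only [w]; group, P.kx_mul hU hV hU hV]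
      rcases sq U hU V hV qU qV with e | e
      · exact Or.inl (by rw [(P.code_zero (tmul_lt U hU U hU) (tmul_lt V hV V hV)).1 e, mul_one,
          mul_inv_cancel])
      · exact Or.inr (by rw [(P.code_twelve (tmul_lt U hU U hU) (tmul_lt V hV V hV)).1 e]; exact hg)
    refine ⟨hwz, hback ▸ hq, hw2, fun hK => ?_⟩
    have hwQ : P.InQ w := P.inQ_of_pow hK (n := 2) (by
      rw [show 2 ^ 2 = 4 from rfl, show w = g * P.kx U V * g⁻¹ from rfl, conj_pow,
        InQ.pow P hq, mul_one, mul_inv_cancel])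
    simp only [offE, Bool.and_eq_true, Bool.not_eq_true'] at ho
    obtain ⟨⟨⟨n0, n12⟩, nc⟩, nzc⟩ := ho
    have conv : P.kx U V = g⁻¹ * w * g := hback.symm
    have bad : ∀ {n}, Nat.beq (enc U V 0) n = false → enc U V 0 ≠ n := fun h e => by
      rw [beq_true e] at h; exact Bool.noConfusion h
    rcases inter_eq hg hH hwQ (hback ▸ hq) with e | e | e | e <;> rw [e] at conv
    · exact bad n0 ((P.code_zero hU hV).2 (by rw [conv]; group))
    · exact bad nc (P.kx_eq hU hV hu hv (conv.trans ec))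
    · exact bad n12 ((P.code_twelve hU hV).2 (conv.trans (x_back hg)))
    · refine bad nzc (P.kx_eq hU hV (by rw [(tneg_eq u hu).1]; exact tmul_lt 12 (by norm_num) u hu) hv ?_)
      rw [conv, show g⁻¹ * (z * P.kx 3 3) * g = (g⁻¹ * z * g) * (g⁻¹ * P.kx 3 3 * g) by group,
        x_back hg, ec, show P.kx (tneg u) v = z * P.kx u v by
          rw [kx, kx, P.ι_tneg _ hu, mul_assoc]]
      exact (P.kx_commute_z hu hv).eq
  obtain ⟨a1, a2, a3, a4⟩ := good A hA B hB qA qB c1 o1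
  obtain ⟨b1, b2, b3, b4⟩ := good C hC D hD qC qD c2 o2
  have hkA : kcomm (tmul A C) (tmul B D) u v = true := (P.kcomm_iff (tmul_lt A hA C hC) (tmul_lt B hB D hD) hu hv).2 (by
    rw [← P.kx_mul hA hB hC hD]
    exact ((P.kcomm_iff hA hB hu hv).1 c1).mul_left ((P.kcomm_iff hC hD hu hv).1 c2))
  obtain ⟨d1, d2, d3, d4⟩ := good (tmul A C) (tmul_lt A hA C hC) (tmul B D) (tmul_lt B hB D hD)
    (q8_tmul A hA C hC qA qC) (q8_tmul B hB D hD qB qD) hkA o3
  set w₁ := g * P.kx A B * g⁻¹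
  set w₂ := g * P.kx C D * g⁻¹
  set w₃ := g * P.kx (tmul A C) (tmul B D) * g⁻¹ with hw3
  have prod : w₃ = w₁ * w₂ := by
    simp only [w₃, w₁, w₂, ← P.kx_mul hA hB hC hD]; group
  obtain ⟨s1, k1, hk1, l1, hl1, e1, f1, m1, n1⟩ := P.side_cases a1
  obtain ⟨s2, k2', hk2, l2, hl2, e2, f2, m2, n2⟩ := P.side_cases b1
  obtain ⟨s3, k3, hk3, l3, hl3, e3, f3, m3, n3⟩ := P.side_cases d1
  -- the side of a product
  have hs : s3 = xor s1 s2 := by
    have h := m3 1 (by norm_num)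
    rw [prod, show w₁ * w₂ * P.ι false 1 * (w₁ * w₂)⁻¹ = w₁ * (w₂ * P.ι false 1 * w₂⁻¹) * w₁⁻¹ by group,
      m2 1 (by norm_num)] at h
    have hy : autc k2' e2 1 < 24 := autc_lt e2 hk2 (by norm_num)
    have hb : ∃ b < 24, w₁ * P.ι s2 (autc k2' e2 1) * w₁⁻¹ = P.ι (xor s1 s2) b := by
      cases s2
      · exact ⟨_, autc_lt e1 hk1 hy, by rw [m1 _ hy]; cases s1 <;> rfl⟩
      · exact ⟨_, autc_lt f1 hl1 hy, by rw [n1 _ hy]; cases s1 <;> rfl⟩
    obtain ⟨b, hb, eb⟩ := hb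
    rw [eb] at h
    by_contra hne
    have hc' : autc k3 e3 1 = 0 ∨ autc k3 e3 1 = 12 := by
      cases s3 <;> cases hx3 : xor s1 s2 <;> simp_all
      · exact P.meet _ (autc_lt e3 hk3 (by norm_num)) b hb h.symm
      · rcases P.meet b hb _ (autc_lt e3 hk3 (by norm_num)) h with r | r <;> subst r
        · left; exact P.inj true _ (autc_lt e3 hk3 (by norm_num)) 0 (by norm_num)
            (by rw [← h, P.ι_zero, P.ι_zero])
        · right; exact P.inj true _ (autc_lt e3 hk3 (by norm_num)) 12 (by norm_num)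
            (by rw [← h, P.neg, P.neg])
    have key : ∀ k < 24, autc k false 1 ≠ 0 ∧ autc k false 1 ≠ 12 ∧ autc k true 1 ≠ 0 ∧
        autc k true 1 ≠ 12 := by decide +kernel
    have := key k3 hk3
    cases e3 <;> rcases hc' with r | r <;> simp_all
  cases s1
  · cases s2
    · -- three preserving elements are too many
      exfalso
      simp only [Bool.xor_self, bne_self_eq_false] at hs
      subst hs
      obtain ⟨rfl, rfl⟩ := preserve_type hg hH a1 a2 a4 hk1 hl1 m1 n1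
      obtain ⟨rfl, rfl⟩ := preserve_type hg hH b1 b2 b4 hk2 hl2 m2 n2
      obtain ⟨rfl, rfl⟩ := preserve_type hg hH d1 d2 d4 hk3 hl3 m3 n3
      have hcomp : ∀ a < 24, autc k1 true (autc k2' true a) = autc k3 true a := fun a ha => by
        refine P.inj false _ (autc_lt _ hk1 (autc_lt _ hk2 ha)) _ (autc_lt _ hk3 ha) ?_
        rw [← m1 _ (autc_lt _ hk2 ha), ← m2 a ha, ← m3 a ha, prod]; group
      have hc := all_range (all_range (all_range parity_check hk1) hk2) hk3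
      simp only [beq_true (hcomp 1 (by norm_num)), beq_true (hcomp 2 (by norm_num)), Bool.and_self,
        Bool.not_true] at hc
      exact Bool.noConfusion hc
    · obtain ⟨rfl, rfl⟩ := preserve_type hg hH a1 a2 a4 hk1 hl1 m1 n1
      exact ⟨⟨w₂, b1, b3, k2', hk2, e2, m2⟩, w₁, a1, k1, hk1, l1, hl1, m1, n1⟩
  · cases s2
    · obtain ⟨rfl, rfl⟩ := preserve_type hg hH b1 b2 b4 hk2 hl2 m2 n2
      exact ⟨⟨w₁, a1, a3, k1, hk1, e1, m1⟩, w₂, b1, k2', hk2, l2, hl2, m2, n2⟩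
    · simp only [Bool.xor_self, bne_self_eq_false] at hs
      subst hs
      obtain ⟨rfl, rfl⟩ := preserve_type hg hH d1 d2 d4 hk3 hl3 m3 n3
      exact ⟨⟨w₁, a1, a3, k1, hk1, e1, m1⟩, w₃, d1, k3, hk3, l3, hl3, m3, n3⟩

end Pair

end Cfsg.Agent.Lib.U43Type85
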