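import Cfsg.Agent.Lib.U43Type85.Eichler

/-!
# U4(3) type: `γ` and `σ`

Owner: helper85.
-/

set_option autoImplicit false

namespace Cfsg.Agent.Lib.U43Type85

open Subgroup

variable {G : Type*} [Group G] {z : G}

/-- The centraliser as `ι₁ ι₂ ⟨γ, σ⟩` with three bits. -/
structure Frame (z : G) where
  P : Pair z
  hyp : Hyp P
  γ : G
  σ : G
  g2 : Bool
  s2 : Bool
  cm : Bool
  γz : Commute γ z
  σz : Commute σ z
  γconj : ∀ i, ∀ a < 24, γ * P.ι i a * γ⁻¹ = P.ι i (tdel a)
  σconj : ∀ i, ∀ a < 24, σ * P.ι i a * σ⁻¹ = P.ι (!i) a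
  γsq : γ * γ = pw z g2
  σsq : σ * σ = pw z s2
  σγ : σ * γ = pw z cm * γ * σ

theorem exists_swap_pair [Finite G] (P₀ : Pair z) (h₀ : Hyp P₀) :
    ∃ P : Pair z, Hyp P ∧ (∀ v, P.InQ v ↔ P₀.InQ v) ∧ ∃ σ, Commute σ z ∧
      ∀ i, ∀ a < 24, σ * P.ι i a * σ⁻¹ = P.ι (!i) a := by
  obtain ⟨g, hg⟩ := P₀.exists_norm75 h₀
  obtain ⟨⟨w, hwz, hw2, k, hk, e, hm⟩, -⟩ := Pair.exists_movers hg h₀
  set P₁ := P₀.twist k e hk with hP₁
  have h1 : ∀ a < 24, w * P₁.ι false a * w⁻¹ = P₁.ι true a := hm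
  -- the square of `w` induces an inner automorphism on the first side
  have hsq : ∃ q < 24, ∀ a < 24, w * P₁.ι true a * w⁻¹ = P₁.ι false (autc q false a) := by
    rcases hw2 with h2 | h2
    · refine ⟨0, by norm_num, fun a ha => ?_⟩
      rw [← h1 a ha, show w * (w * P₁.ι false a * w⁻¹) * w⁻¹ = (w * w) * P₁.ι false a * (w * w)⁻¹ by group,
        h2, one_mul, inv_one, mul_one]
      congr 1
      have : ∀ a < 24, autc 0 false a = a := by decide +kernel
      exact (this a ha).symm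
    · refine ⟨3, by norm_num, fun a ha => ?_⟩
      rw [← h1 a ha, show w * (w * P₁.ι false a * w⁻¹) * w⁻¹ = (w * w) * P₁.ι false a * (w * w)⁻¹ by group,
        h2]
      show P₀.kx 3 3 * P₀.ι false a * (P₀.kx 3 3)⁻¹ = P₀.ι false (autc 3 false a)
      have e1 := P₀.ι_eq_kx false ha
      simp only [cond_false] at e1
      rw [e1, P₀.kx_conj (by norm_num) (by norm_num) ha (by norm_num),
        show autc 3 false 0 = 0 by decide +kernel]
      exact (by
        have := P₀.ι_eq_kx false (autc_lt false (by norm_num : 3 < 24) ha)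
        simpa using this.symm)
  obtain ⟨q, hq, hw'⟩ := hsq
  set m := tinv q with hm'
  have hm24 : m < 24 := tinv_lt q hq
  set P := P₁.twist m false hm24 with hP
  refine ⟨P, P₁.twist_hyp hm24 (P₀.twist_hyp hk h₀), fun v =>
    (P₁.twist_inQ hm24 v).trans (P₀.twist_inQ hk v), P₁.ι true m * w,
    (P₁.ι_commute_z true hm24).mul_left hwz, fun i a ha => ?_⟩
  cases i
  · show P₁.ι true m * w * P₁.ι false a * (P₁.ι true m * w)⁻¹ = P₁.ι true (autc m false a)
    rw [show P₁.ι true m * w * P₁.ι false a * (P₁.ι true m * w)⁻¹ =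
      P₁.ι true m * (w * P₁.ι false a * w⁻¹) * (P₁.ι true m)⁻¹ by group, h1 a ha, ← P₁.ι_inv true hm24,
      ← P₁.hom true m hm24 a ha, ← P₁.hom true _ (tmul_lt m hm24 a ha) _ (tinv_lt m hm24)]
    rfl
  · show P₁.ι true m * w * P₁.ι true (autc m false a) * (P₁.ι true m * w)⁻¹ = P₁.ι false a
    rw [show P₁.ι true m * w * P₁.ι true (autc m false a) * (P₁.ι true m * w)⁻¹ =
      P₁.ι true m * (w * P₁.ι true (autc m false a) * w⁻¹) * (P₁.ι true m)⁻¹ by group,
      hw' _ (autc_lt false hm24 ha), ← (P₁.comm _ (autc_lt false hq (autc_lt false hm24 ha)) m hm24).eq,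
      mul_inv_cancel_right]
    congr 1
    have key : ∀ q < 24, ∀ a < 24, autc q false (autc (tinv q) false a) = a := by decide +kernel
    exact key q hq a ha

theorem exists_frame [Finite G] (P₀ : Pair z) (h₀ : Hyp P₀) :
    ∃ F : Frame z, ∀ v, F.P.InQ v ↔ P₀.InQ v := by
  obtain ⟨P, hP, hQ, σ, hσz, hσ⟩ := exists_swap_pair P₀ h₀
  obtain ⟨g, hg⟩ := P.exists_norm75 hP
  obtain ⟨-, w, hwz, k, hk, l, hl, m1, m2⟩ := Pair.exists_movers hg hP
  set γ := (P.kx k l)⁻¹ * w with hγ
  have hγz : Commute γ z := (P.kx_commute_z hk hl).inv_left.mul_left hwz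
  have hγc : ∀ i, ∀ a < 24, γ * P.ι i a * γ⁻¹ = P.ι i (tdel a) := by
    intro i a ha
    have e : γ * P.ι i a * γ⁻¹ = (P.kx k l)⁻¹ * (w * P.ι i a * w⁻¹) * P.kx k l := by rw [hγ]; group
    rw [e, P.kx_inv hk hl]
    cases i
    · rw [m1 a ha]
      have h1 := P.ι_eq_kx false (autc_lt true hk ha)
      have h2 := P.ι_eq_kx false (tdel_lt a ha)
      simp only [cond_false] at h1 h2
      rw [h1, h2, P.kx_mul (tinv_lt k hk) (tinv_lt l hl) (autc_lt true hk ha) (by norm_num),
        P.kx_mul (tmul_lt _ (tinv_lt k hk) _ (autc_lt true hk ha)) (tmul_lt _ (tinv_lt l hl) 0 (by norm_num))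
          hk hl, (delta_check k hk a ha).1,
        (tmul_zero _ (tinv_lt l hl)).1, (tmul_tinv l hl).2]
    · rw [m2 a ha]
      have h1 := P.ι_eq_kx true (autc_lt true hl ha)
      have h2 := P.ι_eq_kx true (tdel_lt a ha)
      simp only [cond_true] at h1 h2
      rw [h1, h2, P.kx_mul (tinv_lt k hk) (tinv_lt l hl) (by norm_num) (autc_lt true hl ha),
        P.kx_mul (tmul_lt _ (tinv_lt k hk) 0 (by norm_num)) (tmul_lt _ (tinv_lt l hl) _ (autc_lt true hl ha))
          hk hl, (delta_check l hl a ha).1,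
        (tmul_zero _ (tinv_lt k hk)).1, (tmul_tinv k hk).2]
  have inner : ∀ {c : G} {φ : Bool → Bool} {d : ℕ → ℕ}, (∀ i, ∀ a < 24, c * P.ι i a * c⁻¹ = P.ι (φ i) (d a)) →
      (∀ i, φ (φ i) = i) → (∀ a < 24, d a < 24 ∧ d (d a) = a) →
      ∀ i, ∀ a < 24, Commute (c * c) (P.ι i a) := by
    intro c φ d hc hφ hd i a ha
    refine mul_inv_eq_iff_eq_mul.1 ?_
    rw [show c * c * P.ι i a * (c * c)⁻¹ = c * (c * P.ι i a * c⁻¹) * c⁻¹ by group, hc i a ha,
      hc _ _ (hd a ha).1, hφ, (hd a ha).2]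
  obtain ⟨g2, hg2⟩ := P.central_cases (hγz.mul_left hγz)
    (inner (φ := id) (d := tdel) (fun i a ha => hγc i a ha) (fun i => rfl)
      fun a ha => ⟨tdel_lt a ha, tdel_tdel a ha⟩)
  obtain ⟨s2, hs2⟩ := P.central_cases (hσz.mul_left hσz)
    (inner (φ := (!·)) (d := id) (fun i a ha => hσ i a ha) (fun i => Bool.not_not i)
      fun a ha => ⟨ha, rfl⟩)
  have hback : ∀ {c : G} {i j : Bool} {a b : ℕ}, c * P.ι i a * c⁻¹ = P.ι j b →
      c⁻¹ * P.ι j b * c = P.ι i a := fun h => by rw [← h]; group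
  obtain ⟨cm, hcm⟩ := P.central_cases
    (((hσz.mul_left hγz).mul_left hσz.inv_left).mul_left hγz.inv_left) (c := σ * γ * σ⁻¹ * γ⁻¹) (by
      intro i a ha
      refine mul_inv_eq_iff_eq_mul.1 ?_
      have h1 : γ⁻¹ * P.ι i a * γ = P.ι i (tdel a) :=
        hback (by rw [hγc i _ (tdel_lt a ha), tdel_tdel a ha])
      have h2 : σ⁻¹ * P.ι i (tdel a) * σ = P.ι (!i) (tdel a) :=
        hback (by rw [hσ _ _ (tdel_lt a ha), Bool.not_not])
      rw [show σ * γ * σ⁻¹ * γ⁻¹ * P.ι i a * (σ * γ * σ⁻¹ * γ⁻¹)⁻¹ =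
        σ * (γ * (σ⁻¹ * (γ⁻¹ * P.ι i a * γ) * σ) * γ⁻¹) * σ⁻¹ by group, h1, h2,
        hγc _ _ (tdel_lt a ha), tdel_tdel a ha, hσ _ a ha, Bool.not_not])
  refine ⟨⟨P, hP, γ, σ, g2, s2, cm, hγz, hσz, hγc, hσ, hg2, hs2, ?_⟩, hQ⟩
  rw [← hcm]; group

namespace Frame

variable (F : Frame z)

/-- The four representatives of the cosets of `ι₁ ι₂`. -/
def r (g s : Bool) : G := pw F.γ g * pw F.σ s

/-- The element with a code. -/
def f (n : ℕ) : G := F.P.kx (cX n) (cY n) * F.r (cG n) (cS n)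

theorem cX_lt (n : ℕ) : cX n < 24 := lt_of_lt_of_le (Nat.mod_lt _ (by norm_num)) (by norm_num)

theorem cY_lt (n : ℕ) : cY n < 24 := Nat.mod_lt _ (by norm_num)

theorem f_enc {X Y d : ℕ} (hX : X < 24) (hY : Y < 24) (hd : d < 4) :
    F.f (enc X Y d) = F.P.kx X Y * F.r (Nat.beq (d % 2) 1) (Nat.beq (d / 2) 1) := by
  have key : ∀ X < 24, ∀ Y < 24, ∀ d < 4, cX (enc X Y d) = cX (enc X Y 0) ∧
      cY (enc X Y d) = cY (enc X Y 0) ∧ cD (enc X Y d) = d := by decide +kernel
  obtain ⟨e1, e2, e3⟩ := key X hX Y hY d hd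
  rw [f, cG, cS, e1, e2, e3, F.P.kx_code hX hY]

theorem r_commute_z (g s : Bool) : Commute (F.r g s) z := by
  have h : ∀ {a : G}, Commute a z → ∀ b, Commute (pw a b) z := fun ha b => by
    cases b
    · exact Commute.one_left z
    · exact ha
  exact (h F.γz g).mul_left (h F.σz s)

theorem f_commute_z (n : ℕ) : Commute (F.f n) z :=
  (F.P.kx_commute_z (cX_lt n) (cY_lt n)).mul_left (F.r_commute_z _ _)

theorem r_conj (g s : Bool) {U V : ℕ} (hU : U < 24) (hV : V < 24) :
    F.r g s * F.P.kx U V * (F.r g s)⁻¹ =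
      F.P.kx (bif g then tdel (bif s then V else U) else (bif s then V else U))
        (bif g then tdel (bif s then U else V) else (bif s then U else V)) := by
  have hs : ∀ U < 24, ∀ V < 24, F.σ * F.P.kx U V * F.σ⁻¹ = F.P.kx V U := fun U hU V hV => by
    rw [Pair.kx, Pair.kx, show F.σ * (F.P.ι false U * F.P.ι true V) * F.σ⁻¹ =
      (F.σ * F.P.ι false U * F.σ⁻¹) * (F.σ * F.P.ι true V * F.σ⁻¹) by group,
      F.σconj false U hU, F.σconj true V hV]
    exact (F.P.comm V hV U hU).eq.symm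
  have hg : ∀ U < 24, ∀ V < 24, F.γ * F.P.kx U V * F.γ⁻¹ = F.P.kx (tdel U) (tdel V) :=
    fun U hU V hV => by
      rw [Pair.kx, Pair.kx, show F.γ * (F.P.ι false U * F.P.ι true V) * F.γ⁻¹ =
        (F.γ * F.P.ι false U * F.γ⁻¹) * (F.γ * F.P.ι true V * F.γ⁻¹) by group,
        F.γconj false U hU, F.γconj true V hV]
  cases g <;> cases s <;> simp only [r, pw, cond_true, cond_false, one_mul, mul_one, inv_one]
  · exact hs U hU V hV
  · exact hg U hU V hV
  · rw [show F.γ * F.σ * F.P.kx U V * (F.γ * F.σ)⁻¹ = F.γ * (F.σ * F.P.kx U V * F.σ⁻¹) * F.γ⁻¹ by group,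
      hs U hU V hV, hg V hV U hU]

theorem pw_mul_pw {a : G} {c : G} (h : a * a = c) (i j : Bool) :
    pw a i * pw a j = pw c (i && j) * pw a (xor i j) := by
  cases i <;> cases j <;> simp [pw, h]

theorem z_pw (b : Bool) (x : G) (hx : Commute x z) : x * pw z b = pw z b * x := by
  cases b
  · simp [pw]
  · exact hx.eq

include F in
theorem pw_z_mul (i j : Bool) : pw z i * pw z j = pw z (xor i j) := by
  cases i <;> cases j <;> simp [pw, F.P.z_sq]

theorem pw_pw (b c : Bool) : pw (pw z b) c = pw z (b && c) := by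
  cases b <;> cases c <;> rfl

theorem r_mul (g s h t : Bool) :
    F.r g s * F.r h t =
      pw z (xor (F.g2 && g && h) (xor (F.s2 && s && t) (F.cm && s && h))) * F.r (xor g h) (xor s t) := by
  have hswap : pw F.σ s * pw F.γ h = pw z (F.cm && s && h) * pw F.γ h * pw F.σ s := by
    cases s <;> cases h <;> simp [pw, F.σγ]
  have hG : Commute (pw F.γ g) z := by simpa [r, pw] using F.r_commute_z g false
  have hX : Commute (pw F.γ (xor g h)) z := by simpa [r, pw] using F.r_commute_z (xor g h) false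
  calc F.r g s * F.r h t = pw F.γ g * (pw F.σ s * pw F.γ h) * pw F.σ t := by simp only [r]; group
    _ = pw F.γ g * pw z (F.cm && s && h) * pw F.γ h * (pw F.σ s * pw F.σ t) := by rw [hswap]; group
    _ = pw z (F.cm && s && h) * (pw F.γ g * pw F.γ h) * (pw F.σ s * pw F.σ t) := by
        rw [z_pw _ _ hG]; group
    _ = pw z (F.cm && s && h) * (pw z (F.g2 && g && h) * pw F.γ (xor g h)) *
          (pw z (F.s2 && s && t) * pw F.σ (xor s t)) := by
        rw [pw_mul_pw F.γsq, pw_mul_pw F.σsq, pw_pw, pw_pw, Bool.and_assoc F.g2, Bool.and_assoc F.s2]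
    _ = pw z (F.cm && s && h) * pw z (F.g2 && g && h) *
          (pw F.γ (xor g h) * pw z (F.s2 && s && t)) * pw F.σ (xor s t) := by group
    _ = pw z (F.cm && s && h) * pw z (F.g2 && g && h) * pw z (F.s2 && s && t) *
          (pw F.γ (xor g h) * pw F.σ (xor s t)) := by rw [z_pw _ _ hX]; group
    _ = _ := by
        rw [F.pw_z_mul, F.pw_z_mul, r]
        congr 2
        cases (F.cm && s && h) <;> cases (F.g2 && g && h) <;> cases (F.s2 && s && t) <;> rfl

theorem f_mul {m n : ℕ} (hm : m < 1152) (hn : n < 1152) :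
    F.f (mulB F.g2 F.s2 F.cm m n) = F.f m * F.f n := by
  have hd : cD m < 4 ∧ cD n < 4 := by constructor <;> (unfold cD; omega)
  set u := (bif cS m then cY n else cX n) with hu
  set v := (bif cS m then cX n else cY n) with hv
  set u' := (bif cG m then tdel u else u) with hu'
  set v' := (bif cG m then tdel v else v) with hv'
  have hun : u < 24 := by rw [hu]; cases cS m <;> first | exact cY_lt n | exact cX_lt n
  have hvn : v < 24 := by rw [hv]; cases cS m <;> first | exact cY_lt n | exact cX_lt n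
  have hu'n : u' < 24 := by rw [hu']; cases cG m <;> first | exact tdel_lt u hun | exact hun
  have hv'n : v' < 24 := by rw [hv']; cases cG m <;> first | exact tdel_lt v hvn | exact hvn
  set X := tmul (cX m) u'
  set Y := tmul (cY m) v'
  have hX : X < 24 := tmul_lt _ (cX_lt m) _ hu'n
  have hY : Y < 24 := tmul_lt _ (cY_lt m) _ hv'n
  set sg := xor (F.g2 && cG m && cG n) (xor (F.s2 && cS m && cS n) (F.cm && cS m && cG n)) with hsg
  show F.f (enc X (bif sg then tneg Y else Y) (cD m ^^^ cD n)) = _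
  have xk : ∀ d < 4, ∀ e < 4, d ^^^ e < 4 ∧
      Nat.beq ((d ^^^ e) % 2) 1 = xor (Nat.beq (d % 2) 1) (Nat.beq (e % 2) 1) ∧
      Nat.beq ((d ^^^ e) / 2) 1 = xor (Nat.beq (d / 2) 1) (Nat.beq (e / 2) 1) := by decide +kernel
  obtain ⟨x1, x2, x3⟩ := xk _ hd.1 _ hd.2
  have hY' : (bif sg then tneg Y else Y) < 24 := by
    cases sg
    · exact hY
    · rw [cond_true, (tneg_eq Y hY).1]; exact tmul_lt 12 (by norm_num) Y hY
  rw [F.f_enc hX hY' x1, x2, x3]
  have hk : F.P.kx X (bif sg then tneg Y else Y) = F.P.kx X Y * pw z sg := by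
    cases sg
    · simp [pw]
    · simp only [cond_true, pw, Pair.kx, F.P.ι_tneg true hY]
      rw [mul_assoc, (F.P.ι_commute_z true hY).eq]
  rw [hk, f, f,
    show F.P.kx (cX m) (cY m) * F.r (cG m) (cS m) * (F.P.kx (cX n) (cY n) * F.r (cG n) (cS n)) =
      F.P.kx (cX m) (cY m) * (F.r (cG m) (cS m) * F.P.kx (cX n) (cY n) * (F.r (cG m) (cS m))⁻¹) *
        (F.r (cG m) (cS m) * F.r (cG n) (cS n)) by group,
    F.r_conj _ _ (cX_lt n) (cY_lt n), ← hu, ← hv, ← hu', ← hv',
    F.P.kx_mul (cX_lt m) (cY_lt m) hu'n hv'n, F.r_mul, ← hsg, cG, cG, cS, cS, mul_assoc]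

theorem f_inj {m n : ℕ} (hm : m < 1152) (hn : n < 1152) (h : F.f m = F.f n) : m = n := by
  have back : ∀ k < 1152, enc (cX k) (cY k) (cD k) = k := by
    intro k hk
    have h12 : cX k < 12 := Nat.mod_lt _ (by norm_num)
    rw [enc, show Nat.blt (cX k) 12 = true by simp [Nat.blt_eq, h12]]
    simp only [cond_true, cX, cY, cD]
    omega
  have hd : cD m < 4 ∧ cD n < 4 := by constructor <;> (unfold cD; omega)
  -- no representative apart from `1` lies in the kernel of the projection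
  have z0 : (0 : ℕ) < 24 := Nat.zero_lt_succ _
  have hr : ∀ g s, F.r g s ∈ F.P.K → g = false ∧ s = false := by
    rintro g s ⟨k, hk, l, hl, e⟩
    have hc : ∀ a (ha : a < 24), F.P.kx (autc k false a) (autc l false 0) =
        F.P.kx (bif g then tdel (bif s then 0 else a) else (bif s then 0 else a))
          (bif g then tdel (bif s then a else 0) else (bif s then a else 0)) := fun a ha =>
      (F.P.kx_conj hk hl ha z0).symm.trans
        ((congrArg (fun x => x * F.P.kx a 0 * x⁻¹) e.symm).trans (F.r_conj g s (U := a) (V := 0) ha z0))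
    cases s
    · refine ⟨?_, rfl⟩
      cases g
      · rfl
      · exfalso
        have hh : ∀ a < 24, enc (autc k false a) (autc l false 0) 0 = enc (tdel a) (tdel 0) 0 := by
          intro a ha
          have h2 := hc a ha
          rw [cond_true, cond_true, cond_false, cond_false] at h2
          exact F.P.kx_eq (autc_lt false hk ha) (autc_lt false hl z0) (tdel_lt a ha)
            (tdel_lt 0 z0) h2
        have key : ∀ k < 24, ∀ l < 24,
            enc (autc k false 1) (autc l false 0) 0 = enc (tdel 1) (tdel 0) 0 →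
            enc (autc k false 2) (autc l false 0) 0 = enc (tdel 2) (tdel 0) 0 → False := by
          decide +kernel
        exact key k hk l hl (hh 1 (Nat.lt_of_sub_eq_succ rfl)) (hh 2 (Nat.lt_of_sub_eq_succ rfl))
    · exfalso
      have h1 : (1 : ℕ) < 24 := Nat.lt_of_sub_eq_succ rfl
      have e2 : (bif g then tdel 1 else 1) < 24 := by
        cases g
        · exact h1
        · exact tdel_lt 1 h1
      have e1 : (bif g then tdel 0 else 0) < 24 := by
        cases g
        · exact z0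
        · exact tdel_lt 0 z0
      have key : ∀ k < 24, ∀ l < 24, ∀ g : Bool,
          enc (autc k false 1) (autc l false 0) 0 ≠
            enc (bif g then tdel 0 else 0) (bif g then tdel 1 else 1) 0 := by
        decide +kernel
      have h2 := hc 1 h1
      rw [cond_true, cond_true] at h2
      exact key k hk l hl g (F.P.kx_eq (autc_lt false hk h1) (autc_lt false hl z0) e1 e2 h2)
  have hK : F.r (cG m) (cS m) * (F.r (cG n) (cS n))⁻¹ ∈ F.P.K := by
    have e : F.r (cG m) (cS m) * (F.r (cG n) (cS n))⁻¹ =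
        (F.P.kx (cX m) (cY m))⁻¹ * F.P.kx (cX n) (cY n) := by
      rw [eq_inv_mul_iff_mul_eq, ← mul_assoc, mul_inv_eq_iff_eq_mul]
      exact h
    rw [e]
    exact F.P.K.mul_mem (F.P.K.inv_mem ⟨_, cX_lt m, _, cY_lt m, rfl⟩) ⟨_, cX_lt n, _, cY_lt n, rfl⟩
  have hdd : cG m = cG n ∧ cS m = cS n := by
    have hzK : z ∈ F.P.K := ⟨12, by norm_num, 0, by norm_num, F.P.kx_z.symm⟩
    have hK' : F.r (xor (cG m) (cG n)) (xor (cS m) (cS n)) ∈ F.P.K := by
      have e := F.r_mul (xor (cG m) (cG n)) (xor (cS m) (cS n)) (cG n) (cS n)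
      simp only [Bool.xor_assoc, Bool.xor_self, Bool.xor_false] at e
      have e2 : F.r (xor (cG m) (cG n)) (xor (cS m) (cS n)) =
          pw z (xor (F.g2 && xor (cG m) (cG n) && cG n) (xor (F.s2 && xor (cS m) (cS n) && cS n)
            (F.cm && xor (cS m) (cS n) && cG n))) * (F.r (cG m) (cS m) * (F.r (cG n) (cS n))⁻¹) := by
        rw [← mul_assoc, ← e, mul_inv_cancel_right]
      rw [e2]
      refine F.P.K.mul_mem ?_ hK
      generalize (xor (F.g2 && xor (cG m) (cG n) && cG n) (xor (F.s2 && xor (cS m) (cS n) && cS n)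
        (F.cm && xor (cS m) (cS n) && cG n))) = b
      cases b
      · exact F.P.K.one_mem
      · exact hzK
    obtain ⟨h1, h2⟩ := hr _ _ hK'
    revert h1 h2
    cases cG m <;> cases cG n <;> cases cS m <;> cases cS n <;> simp
  have hD : cD m = cD n := by
    have key : ∀ d < 4, ∀ e < 4, Nat.beq (d % 2) 1 = Nat.beq (e % 2) 1 →
        Nat.beq (d / 2) 1 = Nat.beq (e / 2) 1 → d = e := by decide +kernel
    exact key _ hd.1 _ hd.2 hdd.1 hdd.2
  have hkx : F.P.kx (cX m) (cY m) = F.P.kx (cX n) (cY n) := by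
    simp only [f, hdd.1, hdd.2] at h
    exact mul_right_cancel h
  have e0 := F.P.kx_eq (cX_lt m) (cY_lt m) (cX_lt n) (cY_lt n) hkx
  have hx : cX m < 12 ∧ cX n < 12 :=
    ⟨Nat.mod_lt _ (by norm_num), Nat.mod_lt _ (by norm_num)⟩
  rw [← back m hm, ← back n hn, hD]
  simp only [enc, show Nat.blt (cX m) 12 = true by simp [Nat.blt_eq, hx.1],
    show Nat.blt (cX n) 12 = true by simp [Nat.blt_eq, hx.2], cond_true] at e0 ⊢
  omega

theorem f_surj [Finite G] {c : G} (hc : Commute c z) : ∃ n < 1152, F.f n = c := by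
  let φ : Fin 1152 → ↥(centralizer ({z} : Set G)) := fun n => ⟨F.f n, mem_cent.2 (F.f_commute_z n)⟩
  have hinj : Function.Injective φ := fun a b e =>
    Fin.ext (F.f_inj a.2 b.2 (congrArg Subtype.val e))
  have hbij : Function.Bijective φ :=
    (Nat.bijective_iff_injective_and_card φ).2 ⟨hinj, by rw [F.hyp.card, Nat.card_fin]⟩
  obtain ⟨n, hn⟩ := hbij.2 ⟨c, mem_cent.2 hc⟩
  exact ⟨n, n.2, congrArg Subtype.val hn⟩

end Frame

end Cfsg.Agent.Lib.U43Type85
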