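import Cfsg.Agent.Lib.U43Type85.SL

/-!
# U4(3) type: checks on codes for the frame

Owner: helper85.
-/

set_option autoImplicit false

namespace Cfsg.Agent.Lib.U43Type85

/-- The code of a product inside `ι₁ ι₂`. -/
def k2 (X Y U V : ℕ) : ℕ := enc (tmul X U) (tmul Y V) 0

/-- Commutation inside `ι₁ ι₂`. -/
def kcomm (X Y U V : ℕ) : Bool := Nat.beq (k2 X Y U V) (k2 U V X Y)

/-- The code of a conjugate. -/
def kconj (k l X Y : ℕ) : ℕ := enc (autc k false X) (autc l false Y) 0

/-- The codes of the eight elements of a quaternion group. -/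
def l8 : List ℕ := [0, 3, 4, 5, 12, 15, 16, 17]

theorem mem_l8 : ∀ a < 24, q8 a = true → a ∈ l8 := by decide +kernel

theorem l8_lt : ∀ a ∈ l8, a < 24 := by decide +kernel

theorem l8_q8 : ∀ a ∈ l8, q8 a = true := by decide +kernel

/-- Membership in `{0, 12, 75, 87}`. -/
def inE0 (e : ℕ) : Bool := Nat.beq e 0 || Nat.beq e 12 || Nat.beq e 75 || Nat.beq e 87

/-- An element of order three centralising a noncentral element of `Q` has a trivial coordinate. -/
def sideCheck (X Y U V : ℕ) : Bool :=
  !(Nat.beq (enc (tmul (tmul X X) X) (tmul (tmul Y Y) Y) 0) 0 && kcomm X Y U V &&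
      !(Nat.beq (enc U V 0) 0) && !(Nat.beq (enc U V 0) 12)) ||
    (Nat.beq X 0 || Nat.beq X 12 || Nat.beq Y 0 || Nat.beq Y 12)

theorem side_check :
    ((List.range 24).all fun X => (List.range 24).all fun Y => l8.all fun U => l8.all fun V =>
      sideCheck X Y U V) = true := by decide +kernel

theorem autc_surj : ((List.range 24).all fun k => [false, true].all fun e => (List.range 24).all
    fun b => (List.range 24).any fun a => Nat.beq (autc k e a) b) = true := by decide +kernel

theorem autc_not_central : ((List.range 24).all fun k => [false, true].all fun e =>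
    (List.range 24).any fun b => !Nat.beq (tmul (autc k e 1) b) (tmul b (autc k e 1))) = true := by
  decide +kernel

/-- The code of the commutator of a pair of automorphisms with an element of `Q`. -/
def autCom (k l : ℕ) (e f : Bool) (X Y : ℕ) : ℕ :=
  enc (tmul (autc k e X) (tinv X)) (tmul (autc l f Y) (tinv Y)) 0

theorem mixed_check : ((List.range 24).all fun k => (List.range 24).all fun l =>
    [false, true].all fun e => !(Nat.beq (enc (autc k e 3) (autc l (!e) 3) 0) 75 &&
      inE0 (autCom k l e (!e) 3 0) && inE0 (autCom k l e (!e) 4 4))) =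
      true := by decide +kernel

theorem parity_check : ((List.range 24).all fun k => (List.range 24).all fun l =>
    (List.range 24).all fun m => !(Nat.beq (autc k true (autc l true 1)) (autc m true 1) &&
      Nat.beq (autc k true (autc l true 2)) (autc m true 2))) = true := by decide +kernel

theorem delta_check : ∀ k < 24, ∀ a < 24,
    tmul (tmul (tinv k) (autc k true a)) k = tdel a ∧ tmul (tmul (tinv k) (autc k false a)) k = a := by
  decide +kernel

theorem delta_not_inner : ((List.range 24).all fun k =>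
    !(Nat.beq (tmul k 1) (tmul (tdel 1) k) && Nat.beq (tmul k 2) (tmul (tdel 2) k))) = true := by
  decide +kernel

/-- The involutions of `Q` apart from `z`. -/
def isQI (u v : ℕ) : Bool :=
  Nat.beq (k2 u v u v) 0 && !(Nat.beq (enc u v 0) 0) && !(Nat.beq (enc u v 0) 12)

theorem to_x_check : (l8.all fun u => l8.all fun v => !isQI u v ||
    (List.range 24).any fun k => (List.range 24).any fun l => Nat.beq (kconj k l u v) 75) = true := by
  decide +kernel

theorem from_x_check : (l8.all fun u => l8.all fun v => !isQI u v ||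
    (List.range 24).any fun k => (List.range 24).any fun l =>
      Nat.beq (kconj k l 3 3) (enc u v 0)) = true := by decide +kernel

/-- The code of a commutator inside `ι₁ ι₂`. -/
def kcom (X Y U V : ℕ) : ℕ :=
  enc (tmul (tmul (tmul X U) (tinv X)) (tinv U)) (tmul (tmul (tmul Y V) (tinv Y)) (tinv V)) 0

theorem inter_check : (l8.all fun X => l8.all fun Y =>
    !(kcomm X Y 3 3 && !(Nat.beq (enc X Y 0) 0) && !(Nat.beq (enc X Y 0) 75)) ||
      (Nat.beq (enc X Y 0) 12 || Nat.beq (enc X Y 0) 87 ||
        l8.any fun U => l8.any fun V => kcomm U V 3 3 && Nat.beq (kcom U V X Y) 12)) = true := by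
  decide +kernel

/-- Outside `{1, z, c, z c}`. -/
def offE (e u v : ℕ) : Bool :=
  !Nat.beq e 0 && !Nat.beq e 12 && !Nat.beq e (enc u v 0) && !Nat.beq e (enc (tneg u) v 0)

theorem four_check : (l8.all fun u => l8.all fun v => !isQI u v ||
    l8.any fun A => l8.any fun B => l8.any fun C => l8.any fun D =>
      kcomm A B u v && kcomm C D u v && offE (enc A B 0) u v && offE (enc C D 0) u v &&
        offE (k2 A B C D) u v) = true := by decide +kernel

theorem central_check : (l8.all fun X => l8.all fun Y =>
    !(kcomm X Y 3 0 && kcomm X Y 4 0 && kcomm X Y 0 3 && kcomm X Y 0 4) ||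
      (Nat.beq (enc X Y 0) 0 || Nat.beq (enc X Y 0) 12)) = true := by decide +kernel

/-- Membership in `Q`. -/
def inQc (n : ℕ) : Bool := Nat.blt n 288 && q8 (cX n) && q8 (cY n)

/-- Exchange of `z` and `x` in `{0, 12, 75, 87}`. -/
def swE (e : ℕ) : ℕ := bif Nat.beq e 12 then 75 else bif Nat.beq e 75 then 12 else e

/-- The square of a product. -/
def sqp (g2 s2 cm : Bool) (a b : ℕ) : ℕ :=
  mulB g2 s2 cm (mulB g2 s2 cm a b) (mulB g2 s2 cm a b)

/-- Candidates for the images of the involutions of `C_Q(x)` under an exchange of `z` and `x`. -/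
def candB (g2 s2 cm : Bool) (a : ℕ) : Bool :=
  Nat.beq (mulB g2 s2 cm a 75) (mulB g2 s2 cm 75 a) && Nat.beq (mulB g2 s2 cm a a) 0 && !inQc a &&
    inE0 (sqp g2 s2 cm 100 a) && inE0 (sqp g2 s2 cm 101 a)

/-- The conditions on a pair of candidates. -/
def pairB (g2 s2 cm : Bool) (a b : ℕ) : Bool :=
  !inQc (mulB g2 s2 cm a b) && Nat.beq (sqp g2 s2 cm a b) 75 &&
    Nat.beq (swE (sqp g2 s2 cm 100 a)) (sqp g2 s2 cm a 100) &&
    Nat.beq (swE (sqp g2 s2 cm 100 b)) (sqp g2 s2 cm a 101) &&
    Nat.beq (swE (sqp g2 s2 cm 101 a)) (sqp g2 s2 cm b 100) &&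
    Nat.beq (swE (sqp g2 s2 cm 101 b)) (sqp g2 s2 cm b 101)

/-- What a pair of candidates proves. -/
def goodB (g2 s2 cm : Bool) (a b : ℕ) : Bool :=
  g2 && !s2 && cm &&
    ((Nat.beq (cD a) 2 && Nat.beq (cD b) 3) || (Nat.beq (cD a) 3 && Nat.beq (cD b) 2))

/-- The bits are forced. -/
def bitsB (g2 s2 cm : Bool) : Bool :=
  let l := (List.range 1152).filter (candB g2 s2 cm)
  l.all fun a => l.all fun b => !pairB g2 s2 cm a b || goodB g2 s2 cm a b

theorem bits_check : ([false, true].all fun g2 => [false, true].all fun s2 =>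
    [false, true].all fun cm => bitsB g2 s2 cm) = true := by decide +kernel

/-- The centraliser of `x` acts trivially on `C_Q(x)` modulo `{1, z, x, z x}`. -/
def trivB (g2 s2 cm : Bool) : Bool :=
  (List.range 1152).all fun h =>
    !Nat.beq (mulB g2 s2 cm h 75) (mulB g2 s2 cm 75 h) ||
      [100, 101].all fun t => [0, 12, 75, 87].any fun e =>
        Nat.beq (mulB g2 s2 cm h t) (mulB g2 s2 cm (mulB g2 s2 cm t e) h)

theorem triv_check : ([false, true].all fun g2 => [false, true].all fun s2 =>
    [false, true].all fun cm => trivB g2 s2 cm) = true := by decide +kernel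

end Cfsg.Agent.Lib.U43Type85
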