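import Cfsg.Agent.Lib.U43Type85.LocalTypes
import Cfsg.Agent.Lib.Fgs9.HallWielandt

/-!
# U4(3) type: the centraliser of a local inverted element is a three-group or has order 972

For `y` inverted in `C(a)` not centralised by an involution of `C(z)`, the centraliser `U` has odd order,
`C_O(y)` is a Sylow three-subgroup equal to its normaliser, and Hall–Wielandt gives a normal
three-complement, which is trivial.

Owner: helper85.
-/

set_option autoImplicit false

namespace Cfsg.Agent.Lib.U43Type85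

open Subgroup Tools

universe u

namespace Setup

variable {G : Type u} [Group G] [Finite G] {z : G} (S : Setup z)

/-- A local element is conjugate in `C(z)` to one centralising `a`. -/
theorem to_a {x : G} (hx1 : x ≠ 1) (ho : Odd (orderOf x)) (hi : Inverted z x) (hl : IsLocal z x) :
    ∃ k, Commute k z ∧ Commute (k * x * k⁻¹) (S.f 24) := by
  obtain ⟨h, h3, hz, hx⟩ := S.local_three_of hx1 ho hi hl
  obtain ⟨k, -, n, hn, e⟩ := S.three_classes h3 hz
  refine ⟨(S.f k)⁻¹, (S.f_comm k).inv_left, ?_⟩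
  have hy : Commute ((S.f k)⁻¹ * x * (S.f k)⁻¹⁻¹) (S.f n) := by
    have h' : Commute x (S.f k * S.f n * (S.f k)⁻¹) := by
      rcases e with e | e <;> rw [e]
      exacts [hx.symm, hx.symm.inv_right]
    have := commute_conj (g := (S.f k)⁻¹) h'
    rwa [show (S.f k)⁻¹ * (S.f k * S.f n * (S.f k)⁻¹) * (S.f k)⁻¹⁻¹ = S.f n by group] at this
  have ho' : Odd (orderOf ((S.f k)⁻¹ * x * (S.f k)⁻¹⁻¹)) := by rw [Tools.orderOf_conj]; exact ho
  have hi' : Inverted z ((S.f k)⁻¹ * x * (S.f k)⁻¹⁻¹) := by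
    show z * ((S.f k)⁻¹ * x * (S.f k)⁻¹⁻¹) * z⁻¹ = _
    rw [show z * ((S.f k)⁻¹ * x * (S.f k)⁻¹⁻¹) * z⁻¹ =
      (z * S.f k * z⁻¹)⁻¹ * (z * x * z⁻¹) * (z * S.f k * z⁻¹) by group, conj_eq_of_commute (S.f_comm k).symm, hi]
    group
  have inJ : ∀ c s d, IsPrm c s d → c = n → Commute ((S.f k)⁻¹ * x * (S.f k)⁻¹⁻¹) (S.f 24) := by
    rintro c s d hp rfl
    exact (S.mem_CE.1 (S.J_le_CE (S.inverted_cent_c hp ho' hi' hy))).1
  rcases hn with rfl | rfl | rfl
  · exact hy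
  · exact inJ _ _ _ hp1 rfl
  · exact inJ _ _ _ hp2 rfl

theorem outFour_mem {t : ℕ} (ht : t ∈ outFour) :
    ∃ c s d, IsPrm c s d ∧ t < 1152 ∧ S.f t ∈ S.W s ∧ S.f t ≠ 1 ∧ S.f t ≠ z := by
  have hlt := (by decide : ∀ t ∈ outFour, t < 1152 ∧ t ≠ 0 ∧ t ≠ 12) t ht
  obtain ⟨-, h588, h876⟩ := outFour_check
  have hW : ∀ (s : ℕ), s < 1152 → mul s 12 = t → S.f t ∈ S.W s := fun s hs e =>
    Or.inr (Or.inr (Or.inr (by rw [Set.mem_singleton_iff, ← e, S.f_mul s hs 12 (by norm_num), S.f_z])))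
  have h1 := fun e => hlt.2.1 ((S.f_eq_one hlt.1).1 e)
  have h2 := fun e => hlt.2.2 ((S.f_eq_z hlt.1).1 e)
  simp only [outFour, List.mem_cons, List.not_mem_nil, or_false] at ht
  rcases ht with rfl | rfl | rfl | rfl
  · exact ⟨25, 576, 30, hp1, hlt.1, Or.inr (Or.inr (Or.inl rfl)), h1, h2⟩
  · exact ⟨25, 576, 30, hp1, hlt.1, hW 576 (by norm_num) h588, h1, h2⟩
  · exact ⟨30, 864, 25, hp2, hlt.1, Or.inr (Or.inr (Or.inl rfl)), h1, h2⟩
  · exact ⟨30, 864, 25, hp2, hlt.1, hW 864 (by norm_num) h876, h1, h2⟩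

/-- Each inverted element of `J` is centralised by one of four involutions of `C(z)`. -/
theorem IJ_invol {v : G} (hv : v ∈ S.IJ) :
    ∃ w, orderOf w = 2 ∧ Commute w z ∧ Commute w v := by
  classical
  haveI : Fact (Nat.Prime 3) := ⟨Nat.prime_three⟩
  haveI := Fintype.ofFinite G
  by_contra hno
  let P : ℕ → Finset G := fun t => Finset.univ.filter fun x => x ∈ S.IJ ∧ Commute x (S.f t) ∧ x ≠ 1
  have hinv : ∀ t ∈ outFour, orderOf (S.f t) = 2 := by
    intro t ht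
    obtain ⟨c, s, d, hp, -, hW, h1, -⟩ := S.outFour_mem ht
    exact orderOf_of_sq (S.W_facts hp hW).2.2.2 h1
  have hP2 : ∀ t ∈ outFour, 2 ≤ (P t).card := by
    intro t ht
    obtain ⟨c, s, d, hp, -, hW, h1, hz'⟩ := S.outFour_mem ht
    obtain ⟨g, hg⟩ := S.exists_cyc hp
    have h9 := S.card_inf_W hp hg hW h1
    set F := S.J ⊓ centralizer ({S.f t} : Set G)
    have hsplit := Tools.card_fixed_inverted (D := F) (S.odd_J.of_dvd_nat (card_dvd_of_le inf_le_left)) S.z_sq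
      (fun x hx => ⟨S.z_conj_J hx.1, mem_cent.2 (by
        have := commute_conj (g := z) (mem_cent.1 hx.2)
        rwa [conj_eq_of_commute (S.f_comm t).symm] at this)⟩)
    rw [h9] at hsplit
    have hA : Nat.card ↥(F ⊓ centralizer ({z} : Set G)) ≤ 3 := by
      obtain ⟨-, -, hwc, -⟩ := S.W_facts hp hW
      refine (card_le_of_le (show F ⊓ centralizer ({z} : Set G) ≤ zpowers (S.f c) from fun x hx => ?_)).trans
        (le_of_eq ?_)
      · have hxs : Commute x (S.f s) := by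
          rcases hW with e | e | e | e
          · exact absurd e h1
          · exact absurd e hz'
          · exact e ▸ mem_cent.1 hx.1.2
          · have := (mem_cent.1 hx.1.2).mul_right (mem_cent.1 hx.2)
            rwa [Set.mem_singleton_iff.1 e, mul_assoc, S.z_sq, mul_one] at this
        obtain ⟨i, -, rfl⟩ := S.cent_both_odd hp (mem_cent.1 hx.2) hxs (S.J_commute_c hp hx.1.1) (S.mem_J.1 hx.1.1).2
        exact pow_mem (mem_zpowers _) i
      · obtain ⟨hc3, hc1, -⟩ := S.basics hp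
        rw [Nat.card_zpowers, orderOf_eq_prime_iff.2 ⟨hc3, hc1⟩]
    let I := {x : G // x ∈ F ∧ z * x * z⁻¹ = x⁻¹}
    have hI : 3 ≤ Nat.card I := by
      by_contra hlt
      have : Nat.card ↥(F ⊓ centralizer ({z} : Set G)) * Nat.card I ≤ 3 * 2 := Nat.mul_le_mul hA (by omega)
      change 9 = _ * Nat.card I at hsplit
      omega
    have : Nat.card I ≤ (insert 1 (P t)).card := by
      rw [← Nat.card_eq_finsetCard]
      refine Nat.card_le_card_of_injective (fun x => ⟨x.1, ?_⟩) fun a b e => Subtype.ext (congrArg Subtype.val e :)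
      rw [Finset.mem_insert]
      by_cases h : (x.1 : G) = 1
      · exact Or.inl h
      · exact Or.inr (Finset.mem_filter.2 ⟨Finset.mem_univ _, S.mem_IJ.2 ⟨x.2.1.1, x.2.2⟩, mem_cent.1 x.2.1.2, h⟩)
    have := this.trans (Finset.card_insert_le _ _)
    omega
  have hdisj : ∀ t ∈ outFour, ∀ u ∈ outFour, t ≠ u → Disjoint (P t) (P u) := by
    intro t ht u hu hne
    refine Finset.disjoint_left.2 fun x hxt hxu => ?_
    obtain ⟨hxI, hxt', hx1⟩ := (Finset.mem_filter.1 hxt).2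
    have hxu' := (Finset.mem_filter.1 hxu).2.2.1
    obtain ⟨hxJ, hxi⟩ := S.mem_IJ.1 hxI
    refine hx1 (eq_one_of_fix_inv (S.mem_J.1 hxJ).2 ?_ hxi)
    have lt := (by decide : ∀ t ∈ outFour, t < 1152)
    have hc := all_mem (all_mem outFour_check.1 ht) hu
    rw [beq_false hne, Bool.false_or, Bool.or_eq_true] at hc
    have htu : Commute x (S.f (mul t u)) := by
      rw [S.f_mul t (lt t ht) u (lt u hu)]; exact hxt'.mul_right hxu'
    rcases hc with e | e
    · have h' := Nat.eq_of_beq_eq_true e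
      exact ((congrArg S.f h').trans S.f_z) ▸ htu
    · have h' := Nat.eq_of_beq_eq_true e
      exact ((S.f_mul _ (mul_lt (lt t ht) (lt u hu)) _ (mul_lt (lt t ht) (lt u hu))).symm.trans
        ((congrArg S.f h').trans S.f_z)) ▸ htu.mul_right htu
  have hv1 : v ≠ 1 := fun e => hno ⟨S.f 576, hinv 576 (by simp [outFour]), S.f_comm 576, e ▸ Commute.one_right _⟩
  set T := Finset.univ.filter (fun x => x ∈ S.IJ) with hT
  have h3 : T.card = 9 := (Nat.subtype_card T (by simp [hT])).symm.trans S.card_IJ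
  have hvT : v ∈ T := by simp [hT, hv]
  have h1T : (1 : G) ∈ T := by simp [hT, one_mem]
  have hsub : (outFour.toFinset.biUnion P) ⊆ (T.erase 1).erase v := by
    intro x hx
    obtain ⟨t, ht, hxt⟩ := Finset.mem_biUnion.1 hx
    obtain ⟨hxI, hxt', hx1⟩ := (Finset.mem_filter.1 hxt).2
    refine Finset.mem_erase.2 ⟨fun e => hno ⟨S.f t, hinv t (List.mem_toFinset.1 ht), S.f_comm t, ?_⟩,
      Finset.mem_erase.2 ⟨hx1, Finset.mem_filter.2 ⟨Finset.mem_univ _, hxI⟩⟩⟩
    exact (e ▸ hxt').symm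
  have h1 := Finset.card_le_card hsub
  rw [Finset.card_biUnion (fun t ht u hu => hdisj t (List.mem_toFinset.1 ht) u (List.mem_toFinset.1 hu)),
    Finset.card_erase_of_mem (Finset.mem_erase.2 ⟨hv1, hvT⟩), Finset.card_erase_of_mem h1T] at h1
  have h2 : 8 ≤ ∑ t ∈ outFour.toFinset, (P t).card :=
    le_trans (by rw [Finset.sum_const]; decide) (Finset.sum_le_sum fun t ht => hP2 t (List.mem_toFinset.1 ht))
  omega

variable {O : Subgroup G} (hO : S.IsO O)
include hO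

theorem card_O243 : Nat.card O = 243 ∧ S.f 24 ∈ O ∧ Nat.card ↥(O ⊓ S.J) ≤ 27 := by
  haveI : Fact (Nat.Prime 3) := ⟨Nat.prime_three⟩
  have hFI := S.card_O hO
  rw [S.card_inverted_O hO] at hFI
  have hJ := S.card_OJ hO
  rcases (Nat.dvd_prime Nat.prime_three).1 (S.card_F hO) with h | h
  · exfalso
    rw [h, one_mul] at hFI hJ
    have hab : ∀ x ∈ O, ∀ y ∈ O, Commute x y := fun x hx y hy => by
      obtain ⟨h1, h2⟩ := Tools.comm_fixed hO.odd S.z_sq (fun w hw => S.z_conj_O hO hw)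
        (fun w hw hwz => S.O_fix_central hO hw hwz) hx hy
      have : x * y * x⁻¹ * y⁻¹ ∈ O ⊓ centralizer ({z} : Set G) := ⟨h1, mem_cent.2 h2⟩
      rw [Subgroup.card_eq_one.1 h, mem_bot] at this
      exact commutatorElement_eq_one_iff_mul_comm.1 this
    have := card_le_of_le (show O ≤ O ⊓ S.J from fun y hy =>
      ⟨hy, S.cent_J0 (S.O_a hO hy) fun v hv => hab y hy v (S.IJ_le_O hO hv)⟩)
    omega
  · rw [h] at hFI hJ
    refine ⟨hFI, ?_, hJ⟩
    have heq : O ⊓ centralizer ({z} : Set G) = zpowers (S.f 24) := by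
      refine eq_of_le_of_card_ge (fun x hx => S.O_fix hO hx.1 (mem_cent.1 hx.2)) ?_
      rw [h, Nat.card_zpowers]
      exact Nat.le_of_dvd (by norm_num) (orderOf_dvd_of_pow_eq_one (S.E_cube S.a_mem))
    exact (heq.symm ▸ mem_zpowers (S.f 24) : S.f 24 ∈ O ⊓ centralizer ({z} : Set G)).1

/-- An element centralising an element of order three regularly has a three-group centraliser. -/
theorem cent_regular {y : G} (hy1 : y ≠ 1) (ho : Odd (orderOf y)) (hi : Inverted z y) (ha : Commute y (S.f 24))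
    (hno : ¬ ∃ w, orderOf w = 2 ∧ Commute w z ∧ Commute w y) :
    IsPGroup 3 (centralizer ({y} : Set G)) := by
  haveI : Fact (Nat.Prime 3) := ⟨Nat.prime_three⟩
  haveI : Fact (Nat.Prime 2) := ⟨Nat.prime_two⟩
  obtain ⟨hO243, haO, hOJ⟩ := S.card_O243 hO
  have hyI : y ∉ S.IJ := fun h => hno (S.IJ_invol h)
  have hyO : y ∈ O := S.inverted_mem_O hO ho hi ha
  set U := centralizer ({y} : Set G)
  have hzU : ∀ x ∈ U, z * x * z⁻¹ ∈ U := fun x hx => mem_cent.2 (by
    have := commute_conj (g := z) (mem_cent.1 hx)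
    rw [hi] at this
    exact Commute.inv_right_iff.1 this)
  have hUodd : Odd (Nat.card U) := by
    rw [← Nat.not_even_iff_odd]
    intro he
    obtain ⟨w, hw, hw2, hzw⟩ := exists_fixed_involution he S.z_sq hzU
    exact hno ⟨w, hw2, hzw.symm, mem_cent.1 hw⟩
  have haU : S.f 24 ∈ U := mem_cent.2 ha.symm
  -- the fixed points
  have hfix : ∀ x ∈ U, Commute x z → x ∈ zpowers (S.f 24) := by
    intro x hxU hxz
    by_contra hxa
    set F := U ⊓ centralizer ({z} : Set G)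
    have hFodd : Odd (Nat.card F) := hUodd.of_dvd_nat (card_dvd_of_le inf_le_left)
    have hF9 : Nat.card F ∣ 3 ^ 2 := by
      have hd : Nat.card F ∣ 2 ^ 7 * 3 ^ 2 := by
        have := card_dvd_of_le (inf_le_right : F ≤ centralizer ({z} : Set G))
        rw [U43Graph14.setup_card S] at this
        exact this.trans (by norm_num)
      exact (Nat.Coprime.dvd_mul_left (Nat.Coprime.pow_right 7 (Nat.coprime_two_right.2 hFodd))).1 hd
    have h6 := two_mul_card_le (show zpowers (S.f 24) ≤ F from zpowers_le.2 ⟨haU, mem_cent.2 (S.f_comm 24)⟩)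
      (show x ∈ F from ⟨hxU, mem_cent.2 hxz⟩) hxa
    rw [Nat.card_zpowers, orderOf_eq_prime_iff.2 ⟨S.E_cube S.a_mem, fun e => absurd ((S.f_eq_one (by norm_num)).1 e) (by norm_num)⟩] at h6
    obtain ⟨i, hi2, e⟩ := (Nat.dvd_prime_pow Nat.prime_three).1 hF9
    have hF : Nat.card F = 9 := by rw [e] at h6 ⊢; interval_cases i <;> omega
    obtain ⟨P, hEP, hPz, -, hcard, hconj⟩ :=
      sylow_in 3 (H := centralizer ({z} : Set G)) (fun e he => mem_cent.2 (S.E_z he)) S.E_isPGroup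
    have hPE : S.E = P := eq_of_le_of_card_ge hEP (by
      rw [hcard, U43Graph14.setup_card S, S.card_E]
      have hle : (Nat.factorization 1152) 3 ≤ 2 := by
        by_contra hgt
        exact absurd ((pow_dvd_pow 3 (show 3 ≤ (Nat.factorization 1152) 3 by omega)).trans (Nat.ordProj_dvd 1152 3))
          (by norm_num)
      exact (Nat.pow_le_pow_right (by norm_num) hle).trans (le_of_eq rfl))
    obtain ⟨k, hk, hk'⟩ := hconj F inf_le_right (IsPGroup.of_card (n := 2) hF)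
    have hkz : Commute k z := mem_cent.1 hk
    have himg : F.map (MulAut.conj k).toMonoidHom = S.E := by
      refine eq_of_le_of_card_ge ?_ (by rw [card_map_of_injective (MulAut.conj k).injective, hF, S.card_E])
      rintro _ ⟨q, hq, rfl⟩
      exact hPE ▸ hk' q hq
    have hE : ∀ e ∈ S.E, Commute (k * y * k⁻¹) e := by
      intro e he
      obtain ⟨q, hq, rfl⟩ := himg.symm ▸ he
      exact (commute_conj (g := k) (mem_cent.1 hq.1)).symm
    have hy' : k * y * k⁻¹ ∈ S.IJ := S.mem_IJ.2 ⟨S.mem_J.2 ⟨S.mem_CE.2 ⟨hE _ S.a_mem, hE _ S.b_mem⟩,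
      by rw [Tools.orderOf_conj]; exact ho⟩, by
        show z * (k * y * k⁻¹) * z⁻¹ = _
        rw [show z * (k * y * k⁻¹) * z⁻¹ = (z * k * z⁻¹) * (z * y * z⁻¹) * (z * k * z⁻¹)⁻¹ by group, hi,
          conj_eq_of_commute hkz.symm]
        group⟩
    obtain ⟨w, hw2, hwz, hwy⟩ := S.IJ_invol hy'
    refine hno ⟨k⁻¹ * w * k, ?_, (hkz.inv_left.mul_left hwz).mul_left hkz, ?_⟩
    · rw [show k⁻¹ * w * k = k⁻¹ * w * k⁻¹⁻¹ by rw [inv_inv], Tools.orderOf_conj, hw2]
    · have := commute_conj (g := k⁻¹) hwy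
      rwa [inv_inv, show k⁻¹ * (k * y * k⁻¹) * k = y by group] at this
  -- `D = C_O(y)`
  set D := O ⊓ U
  have hUa : ∀ x ∈ U, Commute x (S.f 24) → x ∈ D := by
    intro x hx hxa
    set K := U ⊓ centralizer ({S.f 24} : Set G)
    obtain ⟨i, hiK, hiz, f, hf, hfz, rfl⟩ := Tools.decomp_fixed (D := K)
      (hUodd.of_dvd_nat (card_dvd_of_le inf_le_left)) S.z_sq
      (fun w hw => ⟨hzU w hw.1, mem_cent.2 (by
        have := commute_conj (g := z) (mem_cent.1 hw.2)
        rwa [conj_eq_of_commute (S.f_comm 24).symm] at this)⟩)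
      (fun w hw hwz v hv => by
        obtain ⟨n, rfl⟩ := mem_zpowers_iff.1 (hfix w hw.1 hwz)
        exact ((mem_cent.1 hv.2).symm).zpow_left n) (⟨hx, mem_cent.2 hxa⟩ : x ∈ K)
    refine ⟨mul_mem (S.inverted_mem_O hO (hUodd.of_dvd_nat (Subgroup.orderOf_dvd_natCard U hiK.1)) hiz
      (mem_cent.1 hiK.2)) ?_, hx⟩
    obtain ⟨n, rfl⟩ := mem_zpowers_iff.1 (hfix f hf.1 hfz)
    exact zpow_mem haO n
  set β := S.bracket hO hyO
  have hker : β.ker.map O.subtype = D := by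
    ext x
    constructor
    · rintro ⟨q, hq, rfl⟩
      exact ⟨q.2, mem_cent.2 (S.bracket_ker hO hyO hq)⟩
    · rintro ⟨hxO, hxU⟩
      refine ⟨⟨x, hxO⟩, MonoidHom.mem_ker.2 (Subtype.ext ?_), rfl⟩
      show x * y * x⁻¹ * y⁻¹ = 1
      rw [conj_eq_of_commute (mem_cent.1 hxU), mul_inv_cancel]
  have hDdvd : 243 ∣ Nat.card D * 3 := by
    have h := S.bracket_card hO hyO ⊤
    rw [top_inf_eq, card_top, hO243] at h
    rwa [← hker, card_map_of_injective O.subtype_injective]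
  have hDO : Nat.card D ∣ 243 := hO243 ▸ card_dvd_of_le inf_le_left
  have hD243 : Nat.card D ≠ 243 := fun e => hyI (by
    have hall : D = O := eq_of_le_of_card_ge inf_le_left (by rw [e, hO243])
    have hJ : y ∈ S.J := S.cent_J0 ha fun v hv =>
      (mem_cent.1 ((hall.symm ▸ S.IJ_le_O hO hv : v ∈ D)).2).symm
    exact S.mem_IJ.2 ⟨hJ, hi⟩)
  have hD81 : Nat.card D = 81 := by
    obtain ⟨k, hk, e⟩ := (Nat.dvd_prime_pow Nat.prime_three).1 (show Nat.card D ∣ 3 ^ 5 from hDO)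
    rw [e] at hDdvd hD243 ⊢
    interval_cases k <;> simp at hDdvd hD243 ⊢
  have hDp : IsPGroup 3 D := IsPGroup.of_card (n := 4) hD81
  have haD : S.f 24 ∈ D := ⟨haO, haU⟩
  -- `D` is not abelian
  obtain ⟨i, hi', j, hj', hij⟩ : ∃ i ∈ D, ∃ j ∈ D, i * j * i⁻¹ * j⁻¹ ≠ 1 := by
    by_contra hab
    push Not at hab
    have hDc : ∀ i ∈ D, ∀ j ∈ D, Commute i j := fun i hi j hj =>
      commutatorElement_eq_one_iff_mul_comm.1 (hab i hi j hj)
    obtain ⟨q, hqO, hqD⟩ : ∃ q ∈ O, q ∉ D := SetLike.exists_of_lt (lt_of_le_of_ne inf_le_left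
      fun (e : D = O) => by rw [e, hO243] at hD81; omega)
    set K := D.subgroupOf O ⊓ (S.bracket hO hqO).ker
    have hcard : 81 ∣ Nat.card K * 3 := by
      have h := S.bracket_card hO hqO (D.subgroupOf O)
      rwa [Nat.card_congr (subgroupOfEquivOfLe (inf_le_left : D ≤ O)).toEquiv, hD81] at h
    have hKO : ∀ k ∈ K, ∀ x ∈ O, Commute (k : G) x := by
      intro k hk x hx
      have hle : O ≤ centralizer ({(k : G)} : Set G) := by
        set C := O ⊓ centralizer ({(k : G)} : Set G)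
        have hDC : D ≤ C := fun w hw => ⟨hw.1, mem_cent.2 (hDc w hw _ (mem_subgroupOf.1 hk.1))⟩
        have h2 := two_mul_card_le hDC (show q ∈ C from ⟨hqO, mem_cent.2 (S.bracket_ker hO hqO hk.2).symm⟩) hqD
        rw [hD81] at h2
        have hd : Nat.card C ∣ 3 ^ 5 := by
          have := card_dvd_of_le (inf_le_left : O ⊓ centralizer ({(k : G)} : Set G) ≤ O)
          rw [hO243] at this
          exact this
        obtain ⟨n, hn, e⟩ := (Nat.dvd_prime_pow Nat.prime_three).1 hd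
        rw [e] at h2
        have hn5 : n = 5 := by
          by_contra hne
          have : (3 : ℕ) ^ n ≤ 3 ^ 4 := Nat.pow_le_pow_right (by norm_num) (by omega)
          omega
        have hC : C = O := eq_of_le_of_card_ge inf_le_left (by rw [hO243, e, hn5]; norm_num)
        intro w hw
        have hwC : w ∈ C := by rw [hC]; exact hw
        exact hwC.2
      exact (mem_cent.1 (hle hx)).symm
    have hKJ : K.map O.subtype ≤ O ⊓ S.J := by
      rintro _ ⟨k, hk, rfl⟩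
      exact ⟨k.2, S.cent_J0 (S.O_a hO k.2) fun v hv => hKO k hk v (S.IJ_le_O hO hv)⟩
    have h27 : 27 ≤ Nat.card (K.map O.subtype) := by
      rw [card_map_of_injective O.subtype_injective]
      have := Nat.le_of_dvd (Nat.mul_pos Nat.card_pos (by norm_num)) hcard
      omega
    have heq := eq_of_le_of_card_ge hKJ (hOJ.trans h27)
    have hall : O ≤ O ⊓ S.J := fun x hx => ⟨hx, S.cent_J0 (S.O_a hO hx) fun v hv => by
      have hv' : v ∈ K.map O.subtype := by rw [heq]; exact ⟨S.IJ_le_O hO hv, (S.mem_IJ.1 hv).1⟩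
      obtain ⟨k, hk, ek⟩ := hv'
      exact ek ▸ (hKO k hk x hx).symm⟩
    have := card_le_of_le hall
    omega
  -- the normaliser of `D` in `U`
  have hnorm : ∀ g ∈ U, (∀ x ∈ D, g * x * g⁻¹ ∈ D) → g ∈ D := by
    intro g hg hgD
    refine hUa g hg ?_
    have hc := S.O_comm_a hO hi'.1 hj'.1
    obtain ⟨n, hn⟩ := mem_zpowers_iff.1 (S.O_comm_a hO (hgD i hi').1 (hgD j hj').1)
    have e : g * (i * j * i⁻¹ * j⁻¹) * g⁻¹ = S.f 24 ^ n := by rw [hn]; group
    have hzl : zpowers (i * j * i⁻¹ * j⁻¹) = zpowers (S.f 24) := by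
      refine eq_of_le_of_card_ge (zpowers_le.2 hc) ?_
      have ha3 : orderOf (S.f 24) ∣ 3 := orderOf_dvd_of_pow_eq_one (S.E_cube S.a_mem)
      have hd : Nat.card (zpowers (i * j * i⁻¹ * j⁻¹)) ∣ 3 :=
        (card_dvd_of_le (zpowers_le.2 hc)).trans (by rw [Nat.card_zpowers]; exact ha3)
      rcases (Nat.dvd_prime Nat.prime_three).1 hd with h | h
      · rw [Nat.card_zpowers, orderOf_eq_one_iff] at h; exact absurd h hij
      · rw [h, Nat.card_zpowers]; exact Nat.le_of_dvd (by norm_num) ha3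
    obtain ⟨m, hm⟩ := mem_zpowers_iff.1 (hzl.symm ▸ mem_zpowers (S.f 24))
    have hga : g * S.f 24 * g⁻¹ ∈ zpowers (S.f 24) := by
      rw [show g * S.f 24 * g⁻¹ = (S.f 24 ^ n) ^ m by rw [← e, conj_zpow, hm]]
      exact zpow_mem (zpow_mem (mem_zpowers _) n) m
    have hodd := hUodd.of_dvd_nat (Subgroup.orderOf_dvd_natCard U hg)
    obtain ⟨k, hk⟩ := mem_powers_iff_mem_zpowers.2 hga
    simp only at hk
    have ha3 := S.E_cube S.a_mem
    have hk' : S.f 24 ^ k = S.f 24 ^ (k % 3) := by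
      conv_lhs => rw [← Nat.mod_add_div k 3, pow_add, pow_mul, ha3, one_pow, mul_one]
    rw [hk'] at hk
    have hk3 : k % 3 = 0 ∨ k % 3 = 1 ∨ k % 3 = 2 := by omega
    rcases hk3 with e3 | e3 | e3 <;> rw [e3] at hk
    · rw [pow_zero] at hk
      exact absurd ((S.f_eq_one (by norm_num)).1 (conj_eq_one_iff.1 hk.symm)) (by norm_num)
    · rw [pow_one] at hk; exact commute_of_conj_eq hk.symm
    · rw [pow_two_eq_inv ha3] at hk
      have hg2 : g * g ∈ centralizer ({S.f 24} : Set G) := mem_cent.2 (commute_of_conj_eq (by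
        rw [show g * g * S.f 24 * (g * g)⁻¹ = g * (g * S.f 24 * g⁻¹) * g⁻¹ by group, ← hk,
          show g * (S.f 24)⁻¹ * g⁻¹ = (g * S.f 24 * g⁻¹)⁻¹ by group, ← hk, inv_inv]))
      exact mem_cent.1 (Tools.mem_of_sq_mem hodd hg2)
  -- Sylow
  obtain ⟨P, hP⟩ := (hDp.of_equiv (subgroupOfEquivOfLe (inf_le_right : D ≤ U)).symm).exists_le_sylow
  have hPD : (P : Subgroup U) = D.subgroupOf U := by
    refine le_antisymm ?_ hP
    by_contra hne
    have hlt : (D.subgroupOf U).subgroupOf (P : Subgroup U) < ⊤ :=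
      lt_top_iff_ne_top.2 fun e => hne (subgroupOf_eq_top.1 e)
    haveI := P.2.isNilpotent
    obtain ⟨q, hq, hqD⟩ := SetLike.exists_of_lt (normalizerCondition_of_isNilpotent (G := (P : Subgroup U)) _ hlt)
    refine hqD (mem_subgroupOf.2 (hnorm _ (q : U).2 fun x hx => ?_))
    exact (mem_normalizer_iff.1 hq ⟨⟨x, hx.2⟩, hP (mem_subgroupOf.2 hx)⟩).1 hx
  have hwc : Cfsg.IsWeaklyClosed (P : Subgroup U) (P : Subgroup U) :=
    ⟨le_rfl, fun g hg => eq_of_le_of_card_ge hg (le_of_eq (card_map_of_injective (MulAut.conj g).injective).symm)⟩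
  have hHW := Fgs9.HallWielandt.pResidualOf_normalizer_eq P (P : Subgroup U) hwc (by
    intro v hv w hw
    rw [hPD] at hv hw
    show (fun y : U => y⁻¹ * w⁻¹ * y * w) ((fun y : U => y⁻¹ * w⁻¹ * y * w) v) = 1
    simp only
    set c1 := v⁻¹ * w⁻¹ * v * w
    have hc1 : (c1 : G) ∈ zpowers (S.f 24) := by
      have := S.O_comm_a hO (inv_mem hv.1) (inv_mem hw.1)
      rwa [inv_inv, inv_inv] at this
    obtain ⟨n, hn⟩ := mem_zpowers_iff.1 hc1
    have hcw : Commute (c1 : G) (w : G) := hn ▸ ((S.O_a hO hw.1).symm).zpow_left n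
    refine Subtype.ext ?_
    show (c1 : G)⁻¹ * (w : G)⁻¹ * c1 * w = 1
    rw [mul_assoc, hcw.eq]
    group)
  set K := pResidual 3 U
  haveI hKn : K.Normal := Transfer.PResidual.pResidual_normal
  have hNP : Subgroup.normalizer ((P : Subgroup U) : Set U) = (P : Subgroup U) := by
    refine le_antisymm (fun q hq => ?_) le_normalizer
    rw [hPD] at hq ⊢
    exact mem_subgroupOf.2 (hnorm q q.2 fun x hx =>
      (mem_normalizer_iff.1 hq ⟨x, hx.2⟩).1 (mem_subgroupOf.2 hx))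
  have hKP : K ⊓ (P : Subgroup U) = ⊥ := by
    have h' : pResidual 3 ↥(Subgroup.normalizer ((P : Subgroup U) : Set U)) = ⊥ :=
      Transfer.PResidual.pResidual_eq_bot_iff.2 (hNP.symm ▸ P.2)
    unfold Cfsg.pResidualOf at hHW
    rw [h', Subgroup.map_bot, hNP] at hHW
    exact hHW.symm
  have hKcop : ∀ q : U, q ∈ K → (orderOf q).Coprime 3 := by
    intro q hq
    obtain ⟨a, b, hqa, -, hab, -, ⟨k, hk⟩, hb⟩ :=
      Transfer.PResidual.exists_pPart_mul_pPrimePart (p := 3) q (isOfFinOrder_of_finite q)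
    obtain ⟨T, hT⟩ := (Tools.isPGroup_zpowers hk).exists_le_sylow
    obtain ⟨g, hg⟩ := MulAction.exists_smul_eq U T P
    have h1 : g * a * g⁻¹ ∈ K ⊓ (P : Subgroup U) := by
      refine ⟨hKn.conj_mem a (zpowers_le.2 hq hqa) g, ?_⟩
      rw [← hg]
      exact Subgroup.smul_mem_pointwise_smul _ (MulAut.conj g) _ (hT (mem_zpowers a))
    rw [hKP, mem_bot, conj_eq_one_iff] at h1
    rw [← hab, h1, one_mul]
    exact hb
  set K' := K.map U.subtype
  have hK' : ∀ {q : G}, q ∈ K' ↔ q ∈ U ∧ (orderOf q).Coprime 3 := by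
    intro q
    constructor
    · rintro ⟨w, hw, rfl⟩
      exact ⟨w.2, by show (orderOf (w : G)).Coprime 3; rw [orderOf_coe]; exact hKcop w hw⟩
    · rintro ⟨hq, hc⟩
      exact ⟨⟨q, hq⟩, Transfer.PResidual.mem_pResidual (by rwa [Subgroup.orderOf_mk]), rfl⟩
  have hK'z : ∀ q ∈ K', z * q * z⁻¹ ∈ K' := fun q hq =>
    hK'.2 ⟨hzU q (hK'.1 hq).1, by rw [Tools.orderOf_conj]; exact (hK'.1 hq).2⟩
  have hfix1 : K' ⊓ centralizer ({z} : Set G) = ⊥ := by
    refine eq_bot_iff.2 fun q hq => mem_bot.2 ?_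
    obtain ⟨n, rfl⟩ := mem_zpowers_iff.1 (hfix q (hK'.1 hq.1).1 (mem_cent.1 hq.2))
    refine Tools.eq_one_of_coprime (pow_orderOf_eq_one _) ?_ (hK'.1 hq.1).2
    rw [← zpow_natCast (S.f 24 ^ n), ← zpow_mul, mul_comm, zpow_mul, zpow_natCast, S.E_cube S.a_mem, one_zpow]
  have hsplit := Tools.card_fixed_inverted (D := K')
    (hUodd.of_dvd_nat (card_dvd_of_le fun q hq => (hK'.1 hq).1)) S.z_sq hK'z
  rw [hfix1, card_bot, one_mul] at hsplit
  have hinvK : ∀ q ∈ K', z * q * z⁻¹ = q⁻¹ := by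
    intro q hq
    let F : {x : G // x ∈ K' ∧ z * x * z⁻¹ = x⁻¹} → K' := fun x => ⟨x.1, x.2.1⟩
    obtain ⟨⟨x, hx⟩, e⟩ := (Function.Injective.bijective_of_nat_card_le (f := F)
      (fun a b e => Subtype.ext (congrArg Subtype.val e :)) hsplit.le).2 ⟨q, hq⟩
    obtain rfl : x = q := congrArg Subtype.val e
    exact hx.2
  -- inverted elements of `D` centralise `K'`
  have hcentI : ∀ v ∈ D, z * v * z⁻¹ = v⁻¹ → ∀ q ∈ K', Commute v q := by
    intro v hv hvi q hq
    have hvU : v ∈ U := hv.2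
    have hconj : v * q * v⁻¹ ∈ K' := hK'.2 ⟨mul_mem (mul_mem hvU (hK'.1 hq).1) (inv_mem hvU),
      by rw [Tools.orderOf_conj]; exact (hK'.1 hq).2⟩
    have e := hinvK _ hconj
    rw [show z * (v * q * v⁻¹) * z⁻¹ = (z * v * z⁻¹) * (z * q * z⁻¹) * (z * v * z⁻¹)⁻¹ by group, hvi,
      hinvK q hq] at e
    have h2 : v * v ∈ centralizer ({q} : Set G) := mem_cent.2 (commute_of_conj_eq (by
      calc v * v * q * (v * v)⁻¹ = v * (v * q * v⁻¹) * v⁻¹ := by group
        _ = v * (v * q⁻¹ * v⁻¹)⁻¹ * v⁻¹ := by group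
        _ = v * (v⁻¹ * q⁻¹ * v⁻¹⁻¹)⁻¹ * v⁻¹ := by rw [show v * q⁻¹ * v⁻¹ = (v * q * v⁻¹)⁻¹ by group, ← e]
        _ = q := by group))
    exact mem_cent.1 (Tools.mem_of_sq_mem (S.O_odd hO hv.1) h2)
  have hK1 : ∀ q ∈ K', q = 1 := by
    intro q hq
    obtain ⟨hqU, hqc⟩ := hK'.1 hq
    have hdec : ∀ x ∈ D, ∃ v ∈ D, z * v * z⁻¹ = v⁻¹ ∧ ∃ n : ℤ, x = v * S.f 24 ^ n := by
      intro x hx
      obtain ⟨v, hv, hvi, f, hf, hfz, rfl⟩ := Tools.decomp_fixed (D := D)
        (hO.odd.of_dvd_nat (card_dvd_of_le inf_le_left)) S.z_sq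
        (fun w hw => ⟨S.z_conj_O hO hw.1, hzU w hw.2⟩)
        (fun w hw hwz v hv => S.O_fix_central hO hw.1 hwz v hv.1) hx
      obtain ⟨n, rfl⟩ := mem_zpowers_iff.1 (S.O_fix hO hf.1 hfz)
      exact ⟨v, hv, hvi, n, rfl⟩
    obtain ⟨v, hv, hvi, n, rfl⟩ := hdec i hi'
    obtain ⟨w, hw, hwi, m, rfl⟩ := hdec j hj'
    have cv := hcentI v hv hvi q hq
    have cw := hcentI w hw hwi q hq
    have cva : Commute v (S.f 24) := S.O_a hO hv.1
    have cwa : Commute w (S.f 24) := S.O_a hO hw.1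
    have e : v * S.f 24 ^ n * (w * S.f 24 ^ m) * (v * S.f 24 ^ n)⁻¹ * (w * S.f 24 ^ m)⁻¹ =
        v * w * v⁻¹ * w⁻¹ := by
      rw [show v * S.f 24 ^ n * (w * S.f 24 ^ m) * (v * S.f 24 ^ n)⁻¹ * (w * S.f 24 ^ m)⁻¹ =
          v * (S.f 24 ^ n * w * (S.f 24 ^ n)⁻¹) * (S.f 24 ^ n * S.f 24 ^ m * (S.f 24 ^ n)⁻¹) * v⁻¹ *
            (S.f 24 ^ m)⁻¹ * w⁻¹ by group,
        conj_eq_of_commute (cwa.zpow_right n).symm,
        conj_eq_of_commute ((Commute.refl (S.f 24)).zpow_zpow n m),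
        show v * w * S.f 24 ^ m * v⁻¹ * (S.f 24 ^ m)⁻¹ * w⁻¹ =
          v * w * (S.f 24 ^ m * v⁻¹ * (S.f 24 ^ m)⁻¹) * w⁻¹ by group,
        conj_eq_of_commute (cva.zpow_right m).inv_left.symm]
    have hcomm : Commute (v * w * v⁻¹ * w⁻¹) q := ((cv.mul_left cw).mul_left cv.inv_left).mul_left cw.inv_left
    rw [e] at hij
    have hca := S.O_comm_a hO hv.1 hw.1
    have hzl : zpowers (v * w * v⁻¹ * w⁻¹) = zpowers (S.f 24) := by
      refine eq_of_le_of_card_ge (zpowers_le.2 hca) ?_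
      have ha3 : orderOf (S.f 24) ∣ 3 := orderOf_dvd_of_pow_eq_one (S.E_cube S.a_mem)
      have hd : Nat.card (zpowers (v * w * v⁻¹ * w⁻¹)) ∣ 3 :=
        (card_dvd_of_le (zpowers_le.2 hca)).trans (by rw [Nat.card_zpowers]; exact ha3)
      rcases (Nat.dvd_prime Nat.prime_three).1 hd with h | h
      · rw [Nat.card_zpowers, orderOf_eq_one_iff] at h; exact absurd h hij
      · rw [h, Nat.card_zpowers]; exact Nat.le_of_dvd (by norm_num) ha3
    obtain ⟨l, hl⟩ := mem_zpowers_iff.1 (hzl.symm ▸ mem_zpowers (S.f 24))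
    have hqD := hUa q hqU ((hl ▸ hcomm.zpow_left l).symm)
    obtain ⟨k, hk⟩ := hDp ⟨q, hqD⟩
    exact Tools.eq_one_of_coprime (pow_orderOf_eq_one q) (congrArg Subtype.val hk : q ^ 3 ^ k = 1)
      (hqc.pow_right k)
  intro q
  obtain ⟨a, b, -, -, hab, -, ⟨k, hk⟩, hb⟩ :=
    Transfer.PResidual.exists_pPart_mul_pPrimePart (p := 3) q (isOfFinOrder_of_finite q)
  have hb1 : b = 1 := Subtype.ext (hK1 b (hK'.2 ⟨b.2, by rw [orderOf_coe]; exact hb⟩))
  exact ⟨k, by rw [← hab, hb1, mul_one, hk]⟩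

omit hO

include S in
/-- The elements of odd order centralising a local element are three-elements. -/
theorem local_cent_of {x : G} (hx1 : x ≠ 1) (ho : Odd (orderOf x)) (hi : Inverted z x) (hl : IsLocal z x)
    {g : G} (hg : Commute g x) (hgo : Odd (orderOf g)) : ∃ k, g ^ 3 ^ k = 1 := by
  by_cases hinv : ∃ w, orderOf w = 2 ∧ Commute w z ∧ Commute w x
  · obtain ⟨w, hw2, hwz, hwx⟩ := hinv
    have h := orderOf_dvd_natCard (centralizer ({x} : Set G)) (mem_cent.2 hg)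
    rw [S.card_cent_cd (S.isCD_of_invol hx1 ho hi hw2 hwz hwx)] at h
    refine ⟨5, orderOf_dvd_iff_pow_eq_one.1 ?_⟩
    exact (Nat.Coprime.dvd_mul_left (Nat.Coprime.pow_right 2 (Nat.coprime_two_right.2 hgo))).1
      (show orderOf g ∣ 2 ^ 2 * 3 ^ 5 from h)
  · obtain ⟨k, hkz, hka⟩ := S.to_a hx1 ho hi hl
    obtain ⟨O, hO⟩ := S.exists_O
    have hi' : Inverted z (k * x * k⁻¹) := by
      show z * (k * x * k⁻¹) * z⁻¹ = _
      rw [show z * (k * x * k⁻¹) * z⁻¹ = (z * k * z⁻¹) * (z * x * z⁻¹) * (z * k * z⁻¹)⁻¹ by group, hi,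
        conj_eq_of_commute hkz.symm]
      group
    have hP := S.cent_regular hO (fun e => hx1 (conj_eq_one_iff.1 e)) (by rw [Tools.orderOf_conj]; exact ho) hi'
      hka (by
        rintro ⟨w, hw2, hwz, hwy⟩
        refine hinv ⟨k⁻¹ * w * k, ?_, (hkz.inv_left.mul_left hwz).mul_left hkz, ?_⟩
        · rw [show k⁻¹ * w * k = k⁻¹ * w * k⁻¹⁻¹ by rw [inv_inv], Tools.orderOf_conj, hw2]
        · have := commute_conj (g := k⁻¹) hwy
          rwa [inv_inv, show k⁻¹ * (k * x * k⁻¹) * k = x by group] at this)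
    obtain ⟨i, hi⟩ := hP ⟨k * g * k⁻¹, mem_cent.2 (commute_conj hg)⟩
    refine ⟨i, ?_⟩
    have : (k * g * k⁻¹) ^ 3 ^ i = 1 := congrArg Subtype.val hi
    rwa [conj_pow, conj_eq_one_iff] at this

end Setup

end Cfsg.Agent.Lib.U43Type85
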