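import Cfsg.Agent.Lib.U43Type85.CentA

/-!
# U4(3) type: inverted elements centralised by an involution or an element of order three of `C(z)`

An inverted element centralised by an involution of `C(z)` other than `z` is conjugate to `c` or `d` (or
an inverse), and then some element of order three of `C(z)` centralises it and any two such commute.

Owner: helper85.
-/

set_option autoImplicit false

namespace Cfsg.Agent.Lib.U43Type85

open Subgroup Tools

universe u

namespace Setup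

variable {G : Type u} [Group G] [Finite G] {z : G} (S : Setup z)

/-- `x` is conjugate to an element of `⟨c⟩` by an element whose image of `z` commutes with `z`. -/
def IsCD (x : G) : Prop :=
  ∃ c s d, IsPrm c s d ∧ ∃ n : G, (n * S.f c * n⁻¹ = x ∨ n * S.f c * n⁻¹ = x⁻¹) ∧ Commute (n⁻¹ * z * n) z

include S in
theorem card_cent_invol {v : G} (hv : orderOf v = 2) : Nat.card (centralizer ({v} : Set G)) = 1152 := by
  rw [← U43Graph14.card_cent_of_isConj (Setup.one_class S S.orderOf_z hv)]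
  exact U43Graph14.setup_card S

include S in
theorem eighth_odd {x : G} (hx : Odd (orderOf x)) (hz : Commute x z) : x ^ 3 = 1 := by
  obtain ⟨n, hn, rfl⟩ := S.f_surj x hz
  have hd : orderOf (S.f n) ∣ 2 ^ 7 * 3 ^ 2 := by
    have := orderOf_dvd_natCard (centralizer ({z} : Set G)) (mem_cent.2 (S.f_comm n))
    rw [U43Graph14.setup_card S] at this
    exact this.trans (by norm_num)
  have h9 : orderOf (S.f n) ∣ 3 ^ 2 :=
    (Nat.Coprime.dvd_mul_left (Nat.Coprime.pow_right 7 (Nat.coprime_two_right.2 hx))).1 hd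
  exact S.three_pow hn (orderOf_dvd_iff_pow_eq_one.1 h9)

/-- The classes of elements of order three of `C(z)`. -/
theorem three_classes {h : G} (h3 : orderOf h = 3) (hz : Commute h z) :
    ∃ k, k < 1152 ∧ ∃ n, (n = 24 ∨ n = 25 ∨ n = 30) ∧
      (S.f k * S.f n * (S.f k)⁻¹ = h ∨ S.f k * S.f n * (S.f k)⁻¹ = h⁻¹) := by
  obtain ⟨m, hm, rfl⟩ := S.f_surj h hz
  have hc := all_range three_check hm
  rw [(S.isThree_iff hm).2 h3, Bool.not_true, Bool.false_or] at hc
  obtain ⟨x, hx, hc⟩ := List.any_eq_true.1 hc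
  obtain ⟨k, hk, e⟩ := any_range hc
  have hxl : x < 1152 := (by decide : ∀ x ∈ [24, 144, 25, 150, 30, 145], x < 1152) x hx
  have e' := S.conj_code hk hxl (Nat.eq_of_beq_eq_true e)
  refine ⟨k, hk, ?_⟩
  have hinv : ∀ n, n < 1152 → inv n = x → S.f k * S.f n * (S.f k)⁻¹ = (S.f m)⁻¹ := fun n hn ei => by
    rw [← e', ← ei, S.f_inv hn]; group
  simp only [List.mem_cons, List.not_mem_nil, or_false] at hx
  rcases hx with rfl | rfl | rfl | rfl | rfl | rfl
  · exact ⟨24, Or.inl rfl, Or.inl e'⟩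
  · exact ⟨24, Or.inl rfl, Or.inr (hinv 24 (by norm_num) (by decide +kernel))⟩
  · exact ⟨25, Or.inr (Or.inl rfl), Or.inl e'⟩
  · exact ⟨25, Or.inr (Or.inl rfl), Or.inr (hinv 25 (by norm_num) gen_check.2.1)⟩
  · exact ⟨30, Or.inr (Or.inr rfl), Or.inl e'⟩
  · exact ⟨30, Or.inr (Or.inr rfl), Or.inr (hinv 30 (by norm_num) gen_check.2.2)⟩

theorem isCD_of_invol {x w : G} (hx1 : x ≠ 1) (ho : Odd (orderOf x)) (hi : Inverted z x)
    (hw : orderOf w = 2) (hwz : Commute w z) (hwx : Commute w x) : S.IsCD x := by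
  obtain ⟨k, hk, ek⟩ := S.f_surj w hwz
  have h12 : k ≠ 12 := fun e => hx1 (eq_one_of_fix_inv ho (by
    rw [e, S.f_z] at ek; rw [← ek] at hwx; exact hwx.symm) hi)
  obtain ⟨m, m1, m2⟩ := S.exists_exchange hk ((S.isInv_iff hk).2 (by rw [ek, hw])) h12
  rw [ek] at m1 m2
  set x' := m * x * m⁻¹ with hx'
  have hx'z : Commute x' z := m2 ▸ (commute_conj (g := m) hwx).symm
  have ho' : Odd (orderOf x') := by rw [hx', Tools.orderOf_conj]; exact ho
  have h3 : orderOf x' = 3 := by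
    haveI : Fact (Nat.Prime 3) := ⟨Nat.prime_three⟩
    exact orderOf_eq_prime_iff.2 ⟨S.eighth_odd ho' hx'z, fun e => hx1 (conj_eq_one_iff.1 e)⟩
  have hinv : w * x' * w⁻¹ = x'⁻¹ := by
    rw [← m1, hx', show m * z * m⁻¹ * (m * x * m⁻¹) * (m * z * m⁻¹)⁻¹ = m * (z * x * z⁻¹) * m⁻¹ by group, hi]
    group
  obtain ⟨q, hq, n, hn, e⟩ := S.three_classes h3 hx'z
  have hwq : orderOf ((S.f q)⁻¹ * w * S.f q) = 2 := by
    rw [show (S.f q)⁻¹ * w * S.f q = (S.f q)⁻¹ * w * (S.f q)⁻¹⁻¹ by rw [inv_inv], Tools.orderOf_conj, hw]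
  have hinv' : (S.f q)⁻¹ * w * S.f q * S.f n * ((S.f q)⁻¹ * w * S.f q)⁻¹ = (S.f n)⁻¹ := by
    rw [show (S.f q)⁻¹ * w * S.f q * S.f n * ((S.f q)⁻¹ * w * S.f q)⁻¹ =
      (S.f q)⁻¹ * (w * (S.f q * S.f n * (S.f q)⁻¹) * w⁻¹) * S.f q by group]
    have hb : (S.f q)⁻¹ * (S.f q * S.f n * (S.f q)⁻¹)⁻¹ * S.f q = (S.f n)⁻¹ := by group
    rcases e with e | e
    · rw [← hb, e, hinv]
    · rw [← hb, e, show w * x'⁻¹ * w⁻¹ = (w * x' * w⁻¹)⁻¹ by group, hinv]
  have key : ∀ c s d, IsPrm c s d → c = n → S.IsCD x := by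
    rintro c s d hp rfl
    refine ⟨c, s, d, hp, m⁻¹ * S.f q, ?_, ?_⟩
    · rw [show m⁻¹ * S.f q * S.f c * (m⁻¹ * S.f q)⁻¹ = m⁻¹ * (S.f q * S.f c * (S.f q)⁻¹) * m by group]
      rcases e with e | e <;> rw [e]
      · exact Or.inl (by rw [hx']; group)
      · exact Or.inr (by rw [hx']; group)
    · rw [show (m⁻¹ * S.f q)⁻¹ * z * (m⁻¹ * S.f q) = (S.f q)⁻¹ * (m * z * m⁻¹) * S.f q by group, m1]
      exact ((S.f_comm q).inv_left.mul_left hwz).mul_left (S.f_comm q)
  rcases hn with rfl | rfl | rfl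
  · exact absurd hinv' (S.not_inverted_a hwq)
  · exact key 25 576 30 hp1 rfl
  · exact key 30 864 25 hp2 rfl

variable {c s d : ℕ} (hp : IsPrm c s d)
include hp

/-- An element inverting or centralising `c` normalises `J`. -/
theorem inverter_norm {t : G} (ht : t * S.f c * t⁻¹ = (S.f c)⁻¹) : t ∈ normalizer (S.J : Set G) := by
  obtain ⟨g, hg⟩ := S.exists_cyc hp
  set A := S.J.map (MulAut.conj t).toMonoidHom
  have hA : A ≤ S.M s g := by
    rw [← S.C_eq_M hp hg]
    rintro _ ⟨x, hx, rfl⟩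
    refine mem_cent.2 ?_
    have := commute_conj (g := t) (S.J_commute_c hp hx)
    rw [ht] at this
    exact Commute.inv_right_iff.1 this
  have he := S.eq_J_of_comm hp hg hA (by rw [card_map_of_injective (MulAut.conj t).injective, S.card_J hp]) (by
    rintro _ ⟨x, hx, rfl⟩ _ ⟨y, hy, rfl⟩
    show t * x * t⁻¹ * (t * y * t⁻¹) * (t * x * t⁻¹)⁻¹ * (t * y * t⁻¹)⁻¹ ∈ _
    rw [show t * x * t⁻¹ * (t * y * t⁻¹) * (t * x * t⁻¹)⁻¹ * (t * y * t⁻¹)⁻¹ =
      t * (x * y * x⁻¹ * y⁻¹) * t⁻¹ by group, (S.J_comm hp hx hy).eq]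
    simp)
  exact Tools.mem_normalizer_of fun x hx => he ▸ ⟨x, hx, rfl⟩

/-- An involution of `C(z)` inverting `c` fixes at least nine elements of `J`. -/
theorem fixed_inverter {t : G} (h2 : orderOf t = 2) (htz : Commute t z) (ht : t * S.f c * t⁻¹ = (S.f c)⁻¹) :
    9 ≤ Nat.card ↥(S.J ⊓ centralizer ({t} : Set G)) := by
  haveI : Fact (Nat.Prime 3) := ⟨Nat.prime_three⟩
  have htt := sq_of_orderOf h2
  have htN := S.inverter_norm hp ht
  have hJ : ∀ x ∈ S.J, t * x * t⁻¹ ∈ S.J := fun x hx => (mem_normalizer_iff.1 htN x).1 hx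
  set F := S.J ⊓ centralizer ({t} : Set G)
  have hfix : ∀ x ∈ S.J, x * (t * x * t⁻¹) ∈ F := fun x hx => by
    refine ⟨mul_mem hx (hJ x hx), mem_cent.2 (commute_of_conj_eq ?_).symm⟩
    rw [show t * (x * (t * x * t⁻¹)) * t⁻¹ = (t * x * t⁻¹) * (t * t * x * (t * t)⁻¹) by group, htt,
      one_mul, inv_one, mul_one]
    exact (S.J_comm hp (hJ x hx) hx).eq
  have hE : ∀ x ∈ S.E, t * x * t⁻¹ ∈ S.E := fun x hx =>
    S.J_cent_z (hJ x (S.E_le_J hx)) ((htz.mul_left (S.E_z hx)).mul_left htz.inv_left)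
  obtain ⟨e, he, he1⟩ : ∃ e ∈ F, e ≠ 1 ∧ Commute e z := by
    refine ⟨_, hfix _ (S.E_le_J S.a_mem), fun h => ?_, ?_⟩
    · exact S.not_inverted_a h2 (eq_inv_of_mul_eq_one_right h)
    · exact (S.E_z S.a_mem).mul_left (S.E_z (hE _ S.a_mem))
  by_contra hlt
  have h3 : Nat.card F ≤ 3 := by
    obtain ⟨k, hk, e'⟩ := (Nat.dvd_prime_pow Nat.prime_three).1
      (show Nat.card F ∣ 3 ^ 4 by rw [show (3 : ℕ) ^ 4 = Nat.card S.J by rw [S.card_J hp]; norm_num]; exact card_dvd_of_le inf_le_left)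
    rw [e'] at hlt ⊢
    interval_cases k <;> omega
  have hFz : ∀ x ∈ F, Commute x z := by
    have heq : zpowers e = F := eq_of_le_of_card_ge (zpowers_le.2 he) (h3.trans (le_of_eq (by
      rw [Nat.card_zpowers, orderOf_eq_prime_iff.2 ⟨S.J_cube hp he.1, he1.1⟩])))
    intro x hx
    rw [← heq] at hx
    obtain ⟨i, rfl⟩ := mem_zpowers_iff.1 hx
    exact he1.2.zpow_left i
  -- `t z` centralises `c` and the inverted elements
  set Y := S.J ⊓ centralizer ({t * z} : Set G)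
  have hI : S.IJ ≤ Y := fun v hv => by
    obtain ⟨hvJ, hvi⟩ := S.mem_IJ.1 hv
    have hi' : Inverted z (v * (t * v * t⁻¹)) := by
      show z * (v * (t * v * t⁻¹)) * z⁻¹ = (v * (t * v * t⁻¹))⁻¹
      rw [show z * (v * (t * v * t⁻¹)) * z⁻¹ =
        (z * v * z⁻¹) * ((z * t * z⁻¹) * (z * v * z⁻¹) * (z * t * z⁻¹)⁻¹) by group, hvi,
        conj_eq_of_commute htz.symm, show t * v⁻¹ * t⁻¹ = (t * v * t⁻¹)⁻¹ by group,
        (S.J_comm hp hvJ (hJ v hvJ)).inv_inv.eq, ← mul_inv_rev]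
    have h1 := eq_one_of_fix_inv (S.mem_J.1 (hfix v hvJ).1).2 (hFz _ (hfix v hvJ)) hi'
    refine ⟨hvJ, mem_cent.2 (commute_of_conj_eq ?_).symm⟩
    rw [show t * z * v * (t * z)⁻¹ = t * (z * v * z⁻¹) * t⁻¹ by group, hvi,
      show t * v⁻¹ * t⁻¹ = (t * v * t⁻¹)⁻¹ by group, eq_inv_of_mul_eq_one_right h1, inv_inv]
  have heY : e ∈ Y := ⟨he.1, mem_cent.2 ((mem_cent.1 he.2).mul_right he1.2)⟩
  have heI : e ∉ S.IJ := fun h => he1.1 (eq_one_of_fix_inv (S.mem_J.1 he.1).2 he1.2 (S.mem_IJ.1 h).2)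
  have h18 := two_mul_card_le hI heY heI
  rw [S.card_IJ] at h18
  have h27 : 27 ∣ Nat.card Y := by
    obtain ⟨k, hk, e'⟩ := (Nat.dvd_prime_pow Nat.prime_three).1
      (show Nat.card Y ∣ 3 ^ 4 by rw [show (3 : ℕ) ^ 4 = Nat.card S.J by rw [S.card_J hp]; norm_num]; exact card_dvd_of_le inf_le_left)
    rw [e'] at h18 ⊢
    interval_cases k <;> first | omega | norm_num
  have htz2 : orderOf (t * z) = 2 := by
    refine orderOf_of_sq ?_ fun h => ?_
    · rw [show t * z * (t * z) = t * (z * t) * z by group, ← htz.eq,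
        show t * (t * z) * z = t * t * (z * z) by group, htt, S.z_sq, one_mul]
    · have h' := ht
      rw [mul_eq_one_iff_eq_inv.1 h, S.z_inv, conj_eq_of_commute (S.f_comm c).symm] at h'
      exact (S.basics hp).2.1 (Tools.eq_one_of_coprime
        (by rw [pow_two]; exact mul_eq_one_iff_eq_inv.2 h' : S.f c ^ 2 = 1) (S.basics hp).1 (by norm_num))
  have hbad := h27.trans (card_dvd_of_le (inf_le_right : Y ≤ centralizer ({t * z} : Set G)))
  rw [S.card_cent_invol htz2] at hbad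
  exact absurd hbad (by norm_num)

omit hp

/-- An element of type `c`/`d` has centraliser of order 972. -/
theorem card_cent_cd {x : G} (hx : S.IsCD x) : Nat.card (centralizer ({x} : Set G)) = 972 := by
  obtain ⟨c, s, d, hp, n, e, -⟩ := hx
  have h : centralizer ({x} : Set G) = centralizer ({n * S.f c * n⁻¹} : Set G) := by
    rcases e with e | e
    · rw [e]
    · ext y
      rw [e, mem_cent, mem_cent]
      exact Commute.inv_right_iff.symm
  rw [h, ← U43Graph14.card_cent_of_isConj (isConj_iff.2 ⟨n, rfl⟩), S.card_cent_c hp]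

/-- For `x` of type `c`/`d` inverted by `z`: `c` is inverted by `n⁻¹ z n`. -/
theorem cd_inverter {x : G} (hi : Inverted z x) {n : G} {c : ℕ}
    (e : n * S.f c * n⁻¹ = x ∨ n * S.f c * n⁻¹ = x⁻¹) :
    (n⁻¹ * z * n) * S.f c * (n⁻¹ * z * n)⁻¹ = (S.f c)⁻¹ := by
  have h : z * (n * S.f c * n⁻¹) * z⁻¹ = (n * S.f c * n⁻¹)⁻¹ := by
    rcases e with e | e <;> rw [e]
    · exact hi
    · rw [show z * x⁻¹ * z⁻¹ = (z * x * z⁻¹)⁻¹ by group, hi]
  calc (n⁻¹ * z * n) * S.f c * (n⁻¹ * z * n)⁻¹ = n⁻¹ * (z * (n * S.f c * n⁻¹) * z⁻¹) * n := by group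
    _ = n⁻¹ * (n * S.f c * n⁻¹)⁻¹ * n := by rw [h]
    _ = (S.f c)⁻¹ := by group

include S in
/-- A local element is centralised by an element of order three of `C(z)`. -/
theorem local_three_of {x : G} (hx1 : x ≠ 1) (ho : Odd (orderOf x)) (hi : Inverted z x) (hl : IsLocal z x) :
    ∃ h, orderOf h = 3 ∧ Commute h z ∧ Commute h x := by
  haveI : Fact (Nat.Prime 3) := ⟨Nat.prime_three⟩
  obtain ⟨h, hh1, hhz, hhx⟩ := hl
  rcases Nat.even_or_odd (orderOf h) with he | hodd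
  · obtain ⟨k, hk⟩ := he
    have hpos := orderOf_pos h
    have hk2 : orderOf (h ^ k) = 2 := by
      refine orderOf_of_sq ?_ (pow_ne_one_of_lt_orderOf (by omega) (by omega))
      rw [← pow_add, ← hk, pow_orderOf_eq_one]
    have hCD := S.isCD_of_invol hx1 ho hi hk2 (hhz.pow_left k) (hhx.pow_left k)
    obtain ⟨c, s, d, hp, n, e, hnz⟩ := hCD
    set t := n⁻¹ * z * n
    have ht := S.cd_inverter hi e
    have ht2 : orderOf t = 2 := by
      show orderOf (n⁻¹ * z * n) = 2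
      rw [show n⁻¹ * z * n = n⁻¹ * z * n⁻¹⁻¹ by rw [inv_inv], Tools.orderOf_conj, S.orderOf_z]
    have h9 := S.fixed_inverter hp ht2 hnz ht
    obtain ⟨u, hu, hu1⟩ : ∃ u ∈ S.J ⊓ centralizer ({t} : Set G), u ≠ 1 := by
      by_contra hno
      push Not at hno
      have := card_le_of_le (show S.J ⊓ centralizer ({t} : Set G) ≤ ⊥ from fun y hy => mem_bot.2 (hno y hy))
      rw [card_bot] at this
      omega
    refine ⟨n * u * n⁻¹, ?_, ?_, ?_⟩
    · rw [Tools.orderOf_conj]; exact orderOf_eq_prime_iff.2 ⟨S.J_cube hp hu.1, hu1⟩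
    · have := commute_conj (g := n) (mem_cent.1 hu.2)
      rwa [show n * t * n⁻¹ = z by show n * (n⁻¹ * z * n) * n⁻¹ = z; group] at this
    · have := commute_conj (g := n) (S.J_commute_c hp hu.1)
      rcases e with e | e <;> rw [e] at this
      · exact this
      · exact Commute.inv_right_iff.1 this
  · exact ⟨h, orderOf_eq_prime_iff.2 ⟨S.eighth_odd hodd hhz, hh1⟩, hhz, hhx⟩

include S in
/-- Elements of order three of `C(z)` centralising an inverted element commute. -/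
theorem abelian_of {x : G} (hx1 : x ≠ 1) (ho : Odd (orderOf x)) (hi : Inverted z x) {h h' : G}
    (h3 : orderOf h = 3) (h3' : orderOf h' = 3) (hz : Commute h z) (hz' : Commute h' z) (hx : Commute h x)
    (hx' : Commute h' x) : Commute h h' := by
  haveI : Fact (Nat.Prime 3) := ⟨Nat.prime_three⟩
  set K := centralizer ({z} : Set G) ⊓ centralizer ({x} : Set G)
  rcases Nat.even_or_odd (Nat.card K) with he | hodd
  · haveI : Fact (Nat.Prime 2) := ⟨Nat.prime_two⟩
    obtain ⟨w, hw⟩ := exists_prime_orderOf_dvd_card' (G := K) 2 (even_iff_two_dvd.1 he)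
    rw [← orderOf_coe] at hw
    obtain ⟨c, s, d, hp, n, e, hnz⟩ := S.isCD_of_invol hx1 ho hi hw (mem_cent.1 w.2.1) (mem_cent.1 w.2.2)
    set t := n⁻¹ * z * n
    have ht := S.cd_inverter hi e
    have ht2 : orderOf t = 2 := by
      show orderOf (n⁻¹ * z * n) = 2
      rw [show n⁻¹ * z * n = n⁻¹ * z * n⁻¹⁻¹ by rw [inv_inv], Tools.orderOf_conj, S.orderOf_z]
    have h9 := S.fixed_inverter hp ht2 hnz ht
    have back : ∀ k, orderOf k = 3 → Commute k z → Commute k x → n⁻¹ * k * n ∈ S.J := by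
      intro k k3 kz kx
      obtain ⟨g, hg⟩ := S.exists_cyc hp
      set q := n⁻¹ * k * n
      have qc : Commute q (S.f c) := by
        have hk : Commute k (n * S.f c * n⁻¹) := by
          rcases e with e | e <;> rw [e]
          exacts [kx, kx.inv_right]
        have := commute_conj (g := n⁻¹) hk
        rwa [inv_inv, show n⁻¹ * (n * S.f c * n⁻¹) * n = S.f c by group] at this
      have qt : Commute q t := by
        have := commute_conj (g := n⁻¹) kz
        rwa [inv_inv] at this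
      have qN : q ∈ normalizer (S.J : Set G) := S.cent_c_norm hp (mem_cent.2 qc)
      by_contra hqJ
      set F := S.J ⊓ centralizer ({t} : Set G)
      have hq3 : q ^ 3 ^ 1 = 1 := by
        rw [pow_one, show q = n⁻¹ * k * n⁻¹⁻¹ by rw [inv_inv], conj_pow, ← k3, pow_orderOf_eq_one, mul_one,
          mul_inv_cancel]
      have hP : IsPGroup 3 ↥(zpowers q ⊔ F) :=
        IsPGroup.to_sup_of_normal_right' (Tools.isPGroup_zpowers hq3)
          ((S.J_isPGroup hp).to_le inf_le_left) (zpowers_le.2 (Tools.mem_normalizer_of fun y hy =>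
            ⟨(mem_normalizer_iff.1 qN y).1 hy.1, mem_cent.2
              ((qt.mul_left (mem_cent.1 hy.2)).mul_left qt.inv_left)⟩))
      have hlt := two_mul_card_le (le_sup_right : F ≤ zpowers q ⊔ F) (mem_sup_left (mem_zpowers q))
        fun h => hqJ h.1
      have hle : zpowers q ⊔ F ≤ centralizer ({t} : Set G) :=
        sup_le (zpowers_le.2 (mem_cent.2 qt)) inf_le_right
      have hd := card_dvd_of_le hle
      rw [S.card_cent_invol ht2] at hd
      obtain ⟨i, hi'⟩ := IsPGroup.iff_card.1 hP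
      rw [hi'] at hlt hd
      have : i ≤ 2 := by
        by_contra hgt
        exact absurd ((pow_dvd_pow 3 (show 3 ≤ i by omega)).trans hd) (by norm_num)
      interval_cases i <;> omega
    have := commute_conj (g := n) (S.J_comm hp (back h h3 hz hx) (back h' h3' hz' hx'))
    rwa [show n * (n⁻¹ * h * n) * n⁻¹ = h by group, show n * (n⁻¹ * h' * n) * n⁻¹ = h' by group] at this
  · have hd : Nat.card K ∣ 2 ^ 7 * 3 ^ 2 := by
      have := card_dvd_of_le (inf_le_left : K ≤ centralizer ({z} : Set G))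
      rw [U43Graph14.setup_card S] at this
      exact this.trans (by norm_num)
    have h9 : Nat.card K ∣ 3 ^ 2 :=
      (Nat.Coprime.dvd_mul_left (Nat.Coprime.pow_right 7 (Nat.coprime_two_right.2 hodd))).1 hd
    obtain ⟨i, hi2, e⟩ := (Nat.dvd_prime_pow Nat.prime_three).1 h9
    have hh : h ∈ K := ⟨mem_cent.2 hz, mem_cent.2 hx⟩
    have hh' : h' ∈ K := ⟨mem_cent.2 hz', mem_cent.2 hx'⟩
    interval_cases i
    · have := (Subgroup.card_eq_one.1 e) ▸ hh
      rw [mem_bot.1 this]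
      exact Commute.one_left _
    · haveI : IsCyclic K := isCyclic_of_prime_card (p := 3) (by rw [e, pow_one])
      have := IsCyclic.commGroup (α := K) |>.mul_comm ⟨h, hh⟩ ⟨h', hh'⟩
      exact congrArg Subtype.val this
    · exact congrArg Subtype.val (IsPGroup.commutative_of_card_eq_prime_sq e ⟨h, hh⟩ ⟨h', hh'⟩)

end Setup

end Cfsg.Agent.Lib.U43Type85
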