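import Cfsg.Agent.Lib.U43Type85.LocalCent

/-!
# U4(3) type: the local facts

The centre of a Sylow three-subgroup of `C(a)` is `⟨a⟩`, so it is one of `G`, and an element of three-power
order inverted by `z` centralises a conjugate of `a`; as no involution inverts `a`, it is local.

Owner: helper85.
-/

set_option autoImplicit false

namespace Cfsg.Agent.Lib.U43Type85

open Subgroup Tools

universe u

namespace Setup

variable {G : Type u} [Group G] [Finite G] {z : G} (S : Setup z)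

theorem center_O {O : Subgroup G} (hO : S.IsO O) {v : G} (hv : v ∈ S.IJ) (hc : ∀ x ∈ O, Commute v x) :
    v = 1 := by
  by_contra hv1
  obtain ⟨u, hu, huv⟩ := S.exists_other hv
  obtain ⟨hO243, -, hOJ⟩ := S.card_O243 hO
  set k := (S.bracket hO (S.IJ_le_O hO hu)).ker
  have hle : k.map O.subtype ≤ O ⊓ S.J := by
    rintro _ ⟨y, hy, rfl⟩
    exact ⟨y.2, S.mem_J_of_two (S.O_a hO y.2) hv hv1 hu huv (hc y y.2).symm
      (S.bracket_ker hO (S.IJ_le_O hO hu) hy)⟩
  have h := S.bracket_card hO (S.IJ_le_O hO hu) ⊤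
  rw [top_inf_eq, card_top, hO243] at h
  have h1 := card_le_of_le hle
  rw [card_map_of_injective O.subtype_injective] at h1
  have h2 : 243 ≤ Nat.card k * 3 := Nat.le_of_dvd (Nat.mul_pos Nat.card_pos (by norm_num)) h
  omega

include S in
/-- A Sylow three-subgroup of `G` centralising `a`. -/
theorem sylow_a : ∃ P : Sylow 3 G, (P : Subgroup G) ≤ centralizer ({S.f 24} : Set G) := by
  haveI : Fact (Nat.Prime 3) := ⟨Nat.prime_three⟩
  obtain ⟨O, hO⟩ := S.exists_O
  obtain ⟨hO243, haO, -⟩ := S.card_O243 hO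
  set C := centralizer ({S.f 24} : Set G)
  have hJC : S.J ≤ C := fun x hx => mem_cent.2 (S.mem_CE.1 (S.J_le_CE hx)).1
  have hOJ : IsPGroup 3 ↥(S.J ⊔ O) :=
    IsPGroup.to_sup_of_normal_right' (S.J_isPGroup hp1) (IsPGroup.of_card (n := 5) hO243) fun x hx =>
      Tools.mem_normalizer_of fun w hw => hO.norm x (mem_cent.1 (hJC hx)) w hw
  obtain ⟨P, hP0, hPC, hP, hcard, -⟩ := sylow_in 3 (H := C) (sup_le hJC hO.le) hOJ
  have hC729 : Nat.card C = 2 ^ 3 * 3 ^ 6 := by rw [S.card_cent_a]; norm_num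
  have hP729 : Nat.card P = 3 ^ 6 := by
    have h6 : 6 ≤ (Nat.card C).factorization 3 :=
      (Nat.Prime.pow_dvd_iff_le_factorization Nat.prime_three Nat.card_pos.ne').1 (hC729 ▸ dvd_mul_left _ _)
    refine le_antisymm ?_ (hcard ▸ Nat.pow_le_pow_right (by norm_num) h6)
    refine Nat.le_of_dvd (by norm_num) ?_
    have hd := card_dvd_of_le hPC
    rw [hC729] at hd
    obtain ⟨k, hk⟩ := IsPGroup.iff_card.1 hP
    rw [hk] at hd ⊢
    exact (Nat.Coprime.dvd_mul_left (Nat.Coprime.pow _ _ (by norm_num))).1 hd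
  have hzw : ∀ w, Commute w z → w ∈ S.E → (∀ x ∈ O, Commute w x) → w ∈ zpowers (S.f 24) := by
    intro w _ hwE hwO
    by_contra hwa
    haveI : Fact (Nat.Prime 3) := ⟨Nat.prime_three⟩
    set A := zpowers (S.f 24)
    have ha3 : orderOf (S.f 24) = 3 := orderOf_eq_prime_iff.2 ⟨S.E_cube S.a_mem,
      fun e => absurd ((S.f_eq_one (by norm_num)).1 e) (by norm_num)⟩
    have hle : zpowers w ⊔ A ≤ S.E := sup_le (zpowers_le.2 hwE) (zpowers_le.2 S.a_mem)
    have h6 := two_mul_card_le (le_sup_right : A ≤ zpowers w ⊔ A) (mem_sup_left (mem_zpowers w)) hwa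
    rw [Nat.card_zpowers, ha3] at h6
    have hd : Nat.card ↥(zpowers w ⊔ A) ∣ 3 ^ 2 := by
      have := card_dvd_of_le hle
      rwa [S.card_E] at this
    obtain ⟨i, hi, e⟩ := (Nat.dvd_prime_pow Nat.prime_three).1 hd
    rw [e] at h6
    have hi2 : i = 2 := by interval_cases i <;> omega
    have hb : S.f 1 ∈ zpowers w ⊔ A :=
      (eq_of_le_of_card_ge hle (by rw [S.card_E, e, hi2]; norm_num)).symm ▸ S.b_mem
    have hbO : ∀ x ∈ O, Commute (S.f 1) x := fun x hx => mem_cent.1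
      ((show zpowers w ⊔ A ≤ centralizer ({x} : Set G) from sup_le (zpowers_le.2 (mem_cent.2 (hwO x hx)))
        (zpowers_le.2 (mem_cent.2 (S.O_a hO hx).symm))) hb)
    obtain ⟨h, hh, hh'⟩ := any_range move_b_check
    simp only [Bool.and_eq_true, Bool.not_eq_true'] at hh'
    have hha : Commute (S.f h) (S.f 24) := (S.cm2_iff hh (by norm_num)).1 hh'.1
    have hmem : S.f h * S.f 1 * (S.f h)⁻¹ ∈ S.J := by
      refine S.cent_J0 ?_ fun v hv => ?_
      · have := commute_conj (g := S.f h) (S.E_comm S.b_mem S.a_mem)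
        rwa [conj_eq_of_commute hha] at this
      · have hw : (S.f h)⁻¹ * v * S.f h ∈ O := by
          have := hO.norm _ hha.inv_left v (S.IJ_le_O hO hv)
          rwa [inv_inv] at this
        have := commute_conj (g := S.f h) (hbO _ hw)
        rwa [show S.f h * ((S.f h)⁻¹ * v * S.f h) * (S.f h)⁻¹ = v by group] at this
    obtain ⟨v, hv, ev⟩ := S.J_cent_z hmem (((S.f_comm h).mul_left (S.f_comm 1)).mul_left (S.f_comm h).inv_left)
    rw [S.code_of_conj hh (by norm_num) (e9_lt v hv) ev.symm, memb_iff.2 hv] at hh'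
    exact Bool.noConfusion hh'.2
  have hcentre : ∀ w ∈ P, (∀ x ∈ P, Commute w x) → w ∈ zpowers (S.f 24) := by
    intro w hw hcen
    have hwJ : w ∈ S.J := S.cent_J hp1 (mem_centralizer_iff.2 fun x hx => (hcen x (hP0 (mem_sup_left hx))).symm)
    have hwO : ∀ x ∈ O, Commute w x := fun x hx => hcen x (hP0 (mem_sup_right hx))
    have hzwO : ∀ x ∈ O, Commute (z * w * z⁻¹) x := fun x hx => by
      have := commute_conj (g := z) (hwO _ (S.z_conj_O hO hx))
      rwa [show z * (z * x * z⁻¹) * z⁻¹ = z * z * x * (z * z)⁻¹ by group, S.z_sq, one_mul, inv_one, mul_one] at this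
    set v := w * (z * w * z⁻¹)⁻¹
    have hvI : v ∈ S.IJ := S.mem_IJ.2 ⟨mul_mem hwJ (inv_mem (S.z_conj_J hwJ)), by
      show z * (w * (z * w * z⁻¹)⁻¹) * z⁻¹ = (w * (z * w * z⁻¹)⁻¹)⁻¹
      calc z * (w * (z * w * z⁻¹)⁻¹) * z⁻¹ = z * w * z⁻¹ * (z * z * w * (z * z)⁻¹)⁻¹ := by group
        _ = z * w * z⁻¹ * w⁻¹ := by rw [S.z_sq]; group
        _ = _ := by group⟩
    have hv1 : v = 1 := S.center_O hO hvI fun x hx => (hwO x hx).mul_left (hzwO x hx).inv_left
    have hwz : Commute w z := by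
      have h : w = z * w * z⁻¹ := mul_inv_eq_one.1 hv1
      exact (commute_of_conj_eq h.symm).symm
    exact hzw w hwz (S.J_cent_z hwJ hwz) hwO
  obtain ⟨T, hT⟩ := hP.exists_le_sylow
  refine ⟨T, le_trans (le_of_eq ?_) hPC⟩
  by_contra hne
  have hlt : P.subgroupOf (T : Subgroup G) < ⊤ :=
    lt_top_iff_ne_top.2 fun e => hne (le_antisymm (subgroupOf_eq_top.1 e) hT)
  haveI := T.2.isNilpotent
  obtain ⟨y, hy, hyP⟩ := SetLike.exists_of_lt (normalizerCondition_of_isNilpotent (G := (T : Subgroup G)) _ hlt)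
  have hy' : ∀ x ∈ P, (y : G) * x * (y : G)⁻¹ ∈ P := fun x hx =>
    (mem_normalizer_iff.1 hy ⟨x, hT hx⟩).1 hx
  have hyn := Tools.mem_normalizer_of hy'
  have haP : S.f 24 ∈ P := hP0 (mem_sup_right haO)
  have hcc : ∀ x ∈ P, Commute ((y : G) * S.f 24 * (y : G)⁻¹) x := by
    intro x hx
    have h1 := (mem_normalizer_iff.1 (inv_mem hyn) x).1 hx
    have := commute_conj (g := (y : G)) ((mem_cent.1 (hPC h1)).symm)
    rwa [show (y : G) * ((y : G)⁻¹ * x * (y : G)⁻¹⁻¹) * (y : G)⁻¹ = x by group] at this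
  have hmem := hcentre _ (hy' _ haP) hcc
  obtain ⟨k, hk⟩ := T.2 y
  have hyk : (y : G) ^ 3 ^ k = 1 := congrArg Subtype.val hk
  have hodd := Tools.odd_of_three_pow hyk
  obtain ⟨i, hi⟩ := mem_powers_iff_mem_zpowers.2 hmem
  simp only at hi
  have ha3 := S.E_cube S.a_mem
  have hi' : S.f 24 ^ i = S.f 24 ^ (i % 3) := by
    conv_lhs => rw [← Nat.mod_add_div i 3, pow_add, pow_mul, ha3, one_pow, mul_one]
  rw [hi'] at hi
  have hyC : (y : G) ∈ C := by
    have hi3 : i % 3 = 0 ∨ i % 3 = 1 ∨ i % 3 = 2 := by omega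
    rcases hi3 with e | e | e <;> rw [e] at hi
    · rw [pow_zero] at hi
      exact absurd ((S.f_eq_one (by norm_num)).1 (conj_eq_one_iff.1 hi.symm)) (by norm_num)
    · rw [pow_one] at hi; exact mem_cent.2 (commute_of_conj_eq hi.symm)
    · rw [pow_two_eq_inv ha3] at hi
      refine Tools.mem_of_sq_mem hodd (mem_cent.2 (commute_of_conj_eq ?_))
      rw [show (y : G) * y * S.f 24 * ((y : G) * y)⁻¹ = (y : G) * (y * S.f 24 * (y : G)⁻¹) * (y : G)⁻¹ by group, ← hi,
        show (y : G) * (S.f 24)⁻¹ * (y : G)⁻¹ = ((y : G) * S.f 24 * (y : G)⁻¹)⁻¹ by group, ← hi, inv_inv]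
  have hQ : IsPGroup 3 ↥(zpowers (y : G) ⊔ P) :=
    IsPGroup.to_sup_of_normal_right' (Tools.isPGroup_zpowers hyk) hP (zpowers_le.2 hyn)
  have h2 := two_mul_card_le (le_sup_right : P ≤ zpowers (y : G) ⊔ P) (mem_sup_left (mem_zpowers (y : G))) hyP
  have hd := card_dvd_of_le (sup_le (zpowers_le.2 hyC) hPC : zpowers (y : G) ⊔ P ≤ C)
  obtain ⟨j, hj⟩ := IsPGroup.iff_card.1 hQ
  rw [hC729, hj] at hd
  rw [hP729, hj] at h2
  have hd' := Nat.le_of_dvd (by norm_num) ((Nat.Coprime.dvd_mul_left (Nat.Coprime.pow _ _ (by norm_num))).1 hd)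
  omega

include S in
/-- An inverted element of three-power order is local. -/
theorem three_local_of {x : G} {k : ℕ} (hk : x ^ 3 ^ k = 1) (hx1 : x ≠ 1) (hi : Inverted z x) :
    IsLocal z x := by
  haveI : Fact (Nat.Prime 3) := ⟨Nat.prime_three⟩
  by_contra hno
  have ho := Tools.odd_of_three_pow hk
  set U := centralizer ({x} : Set G)
  have hzU : ∀ w ∈ U, z * w * z⁻¹ ∈ U := fun w hw => mem_cent.2 (by
    have := commute_conj (g := z) (mem_cent.1 hw)
    rw [hi] at this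
    exact Commute.inv_right_iff.1 this)
  have hfix : ∀ w ∈ U, Commute w z → w = 1 := fun w hw hwz => by
    by_contra hw1
    exact hno ⟨w, hw1, hwz, mem_cent.1 hw⟩
  have hUodd : Odd (Nat.card U) := by
    rw [← Nat.not_even_iff_odd]
    intro he
    obtain ⟨w, hw, hw2, hzw⟩ := exists_fixed_involution he S.z_sq hzU
    rw [hfix w hw hzw.symm, orderOf_one] at hw2
    norm_num at hw2
  obtain ⟨P, hP⟩ := S.sylow_a
  obtain ⟨T, hT⟩ := (Tools.isPGroup_zpowers hk).exists_le_sylow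
  obtain ⟨g, hg⟩ := MulAction.exists_smul_eq G T P
  have hxP : g * x * g⁻¹ ∈ (P : Subgroup G) := by
    rw [← hg]
    exact Subgroup.smul_mem_pointwise_smul _ (MulAut.conj g) _ (hT (mem_zpowers x))
  have haU : g⁻¹ * S.f 24 * g ∈ U := by
    refine mem_cent.2 ?_
    have := commute_conj (g := g⁻¹) (mem_cent.1 (hP hxP)).symm
    rwa [inv_inv, show g⁻¹ * (g * x * g⁻¹) * g = x by group] at this
  have hsplit := Tools.card_fixed_inverted hUodd S.z_sq hzU
  rw [show U ⊓ centralizer ({z} : Set G) = ⊥ from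
    eq_bot_iff.2 fun w hw => mem_bot.2 (hfix w hw.1 (mem_cent.1 hw.2)), card_bot, one_mul] at hsplit
  let F : {w : G // w ∈ U ∧ z * w * z⁻¹ = w⁻¹} → U := fun w => ⟨w.1, w.2.1⟩
  obtain ⟨⟨w, hw⟩, e⟩ := (Function.Injective.bijective_of_nat_card_le (f := F)
    (fun a b e => Subtype.ext (congrArg Subtype.val e :)) hsplit.le).2 ⟨_, haU⟩
  obtain rfl : w = g⁻¹ * S.f 24 * g := congrArg Subtype.val e
  refine S.not_inverted_a (t := g * z * g⁻¹) (by rw [Tools.orderOf_conj, S.orderOf_z]) ?_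
  rw [show g * z * g⁻¹ * S.f 24 * (g * z * g⁻¹)⁻¹ = g * (z * (g⁻¹ * S.f 24 * g) * z⁻¹) * g⁻¹ by group, hw.2]
  group

theorem not_four : ¬ 4 ∣ Nat.card ↥(centralizer ({S.f 24} : Set G) ⊓ normalizer (S.J : Set G)) := by
  have hc : S.f 25 ∈ S.J := S.E_le_J ⟨25, by simp [e9], rfl⟩
  have hd : S.f 30 ∈ S.J := S.E_le_J ⟨30, by simp [e9], rfl⟩
  have hne : S.f 25 * S.f 30 ≠ 1 := fun e => by
    rw [S.cd_eq, inv_eq_one] at e
    exact absurd ((S.f_eq_one (by norm_num)).1 e) (by norm_num)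
  have h := U43Graph14.not_four_dvd (S.card_J hp1) (fun x hx => S.J_cube hp1 hx)
    (fun x hx y hy => (S.J_comm hp1 hx hy).eq) (S.J.mul_mem hc hd) hne S.orderOf_z
    ((((S.f_comm 25).mul_left (S.f_comm 30)).eq).symm) (fun x hx => S.z_conj_J hx) (U43Graph14.setup_uniq S)
    (U43Graph14.setup_small S) (U43Graph14.setup_nine S)
    (by rw [S.inf_z hp1, S.card_E]) (fun v hv => by rw [S.card_cent_invol hv]; norm_num)
  rwa [S.cent_a_eq] at h

/-- **The local facts.** -/
theorem exists_facts : ∃ J : Subgroup G, Facts S J := by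
  refine ⟨S.J,
    { card_J := S.card_J hp1
      comm_J := fun x hx y hy => S.J_comm hp1 hx hy
      exp_J := fun x hx => S.J_cube hp1 hx
      a_mem := S.E_le_J S.a_mem
      b_mem := S.E_le_J S.b_mem
      cent_J := S.cent_J hp1
      inv_J := S.card_inverted_J hp1
      comm_E := fun x ho _ ha hb => S.mem_J.2 ⟨S.mem_CE.2 ⟨ha, hb⟩, ho⟩
      inv_c := ?_
      card_c := ?_
      norm_c := ?_
      card_a := S.card_cent_a
      not_four := S.not_four
      inv_a := S.inv_a_count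
      not_inverted_a := fun t ht => S.not_inverted_a ht
      abelian := fun x hx ho hi h h' a b c d e f => S.abelian_of hx ho hi a b c d e f
      local_three := fun x hx ho hi hl => S.local_three_of hx ho hi hl
      local_cent := fun x hx ho hi hl g hg hgo => S.local_cent_of hx ho hi hl hg hgo
      three_local := fun x k hk hx hi => S.three_local_of hk hx hi
      dvd_card := S.dvd_card }⟩
  · rintro n (rfl | rfl) x ho hi hx
    exacts [S.inverted_cent_c hp1 ho hi hx, S.inverted_cent_c hp2 ho hi hx]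
  · rintro n (rfl | rfl)
    exacts [S.card_cent_c hp1, S.card_cent_c hp2]
  · rintro n (rfl | rfl)
    exacts [S.cent_c_norm hp1, S.cent_c_norm hp2]

end Setup

end Cfsg.Agent.Lib.U43Type85
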