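import Mathlib

/-!
# The centraliser of an involution in a group of U4(3) type, coded on the numbers below 1152

`SL(2, 3)` is coded on `0, …, 23` (`a + 12` is the negative of `a`), the element
`ι₁(X) ι₂(Y) γ^g σ^s` as `288 (g + 2 s) + 24 X + Y` with `X < 12`.  The three bits give `γ² = z^g2`,
`σ² = z^s2` and `σ γ = z^cm γ σ`.

Owner: helper85.
-/

set_option autoImplicit false

namespace Cfsg.Agent.Lib.U43Type85

/-- The multiplication table of `SL(2, 3)`, five bits for each entry. -/
def slTable : ℕ := 0xa14c0b10f568c4b4464c542690bdd78258d79e8e35e2a254011cd0292cb6132c593c2b391097015130db79c29504e172a546105e861c8b8d6d2734743110f146e1a8147942837156d4b2d31de2780454b54067acb3235c85259249aee0d98f22265ac9626a803850f16a2764886c8c9640d0eaab9e029af0988265d20565aa33b9b2ba0910292f885e902e4aa1c822b47565cd644e0eb3dd0402b3594c150c44a3127bc64d5a928398a418820bdab49ca307b9ac4464c542690bdd7a14c0b10f568c4b254011cd0292cb68258d79e8e35e2a7015130db79c295132c593c2b3910961c8b8d6d27347404e172a546105e8942837156d4b2d33110f146e1a81477acb3235c8525921de2780454b5406ac9626a803850f149aee0d98f222650d0eaab9e029af06a2764886c8c9643b9b2ba0910292f988265d20565aa32b47565cd644e0e885e902e4aa1c8250c44a3127bc64db3dd0402b3594c1bdab49ca307b9ac5a928398a418820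

/-- The inverses in `SL(2, 3)`. -/
def invTable : ℕ := 0xa2557734a41ce4c456cb1063079cc0

/-- Conjugation by `diag(1, -1)`. -/
def deltaTable : ℕ := 0xb5d09734851ce4c52e951061179cc0

/-- Product in the coded `SL(2, 3)`. -/
def tmul (a b : ℕ) : ℕ := (slTable >>> (5 * (24 * a + b))) &&& 31

/-- Inverse in the coded `SL(2, 3)`. -/
def tinv (a : ℕ) : ℕ := (invTable >>> (5 * a)) &&& 31

/-- The outer automorphism. -/
def tdel (a : ℕ) : ℕ := (deltaTable >>> (5 * a)) &&& 31

/-- Negative. -/
def tneg (a : ℕ) : ℕ := bif Nat.blt a 12 then a + 12 else a - 12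

/-- Code of `ι₁(X) ι₂(Y) d`. -/
def enc (X Y d : ℕ) : ℕ :=
  bif Nat.blt X 12 then 288 * d + 24 * X + Y else 288 * d + 24 * (X - 12) + tneg Y

/-- First coordinate. -/
def cX (n : ℕ) : ℕ := n / 24 % 12

/-- Second coordinate. -/
def cY (n : ℕ) : ℕ := n % 24

/-- The part outside `ι₁ ι₂`. -/
def cD (n : ℕ) : ℕ := n / 288

/-- The exponent of `γ`. -/
def cG (n : ℕ) : Bool := Nat.beq (cD n % 2) 1

/-- The exponent of `σ`. -/
def cS (n : ℕ) : Bool := Nat.beq (cD n / 2) 1

/-- The product with the three bits as parameters. -/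
def mulB (g2 s2 cm : Bool) (m n : ℕ) : ℕ :=
  let g := cG m
  let s := cS m
  let h := cG n
  let t := cS n
  let u := bif s then cY n else cX n
  let v := bif s then cX n else cY n
  let u' := bif g then tdel u else u
  let v' := bif g then tdel v else v
  let sg := xor (g2 && g && h) (xor (s2 && s && t) (cm && s && h))
  let Y := tmul (cY m) v'
  enc (tmul (cX m) u') (bif sg then tneg Y else Y) (cD m ^^^ cD n)

/-- The product. -/
def mul (m n : ℕ) : ℕ := mulB true false true m n

/-- The code of `z`. -/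
def zc : ℕ := 12

/-- The inverse. -/
def inv (n : ℕ) : ℕ :=
  mul (bif Nat.beq (cD n) 1 then 300 else 288 * cD n) (enc (tinv (cX n)) (tinv (cY n)) 0)

/-- Conjugation. -/
def cj (g a : ℕ) : ℕ := mul (mul g a) (inv g)

/-- Commutation. -/
def cm2 (a b : ℕ) : Bool := Nat.beq (mul a b) (mul b a)

/-- The codes of `Q`. -/
def q8 (a : ℕ) : Bool :=
  Nat.beq a 0 || Nat.beq a 3 || Nat.beq a 4 || Nat.beq a 5 || Nat.beq a 12 || Nat.beq a 15 ||
    Nat.beq a 16 || Nat.beq a 17

/-- Membership in `Q`. -/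
def inQ (n : ℕ) : Bool := Nat.blt n 288 && q8 (cX n) && q8 (cY n)

/-- An element of order two. -/
def isInv (n : ℕ) : Bool := Nat.beq (mul n n) 0 && !Nat.beq n 0

/-- An element of order three. -/
def isThree (n : ℕ) : Bool := Nat.beq (mul (mul n n) n) 0 && !Nat.beq n 0

end Cfsg.Agent.Lib.U43Type85
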