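import Cfsg.Agent.Lib.U43Type85.CentFour

/-!
# U4(3) type: `27` divides the order of the centraliser of `c`

Otherwise `⟨c, g⟩` is conjugate to `E` in `C(c)` and the normaliser of the group of order sixteen on
`⟨z, σ⟩` moves the line of `c` to that of `d` inside `N(E)`.

Owner: helper85.
-/

set_option autoImplicit false

namespace Cfsg.Agent.Lib.U43Type85

open Subgroup Tools

namespace Setup

variable {G : Type*} [Group G] {z : G} (S : Setup z) {c s d : ℕ} (hp : IsPrm c s d)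

theorem mem_aList {n : ℕ} : n ∈ aList s ↔ n < 1152 ∧ cm2 n s = true ∧ Nat.beq (mul n n) 0 = true := by
  simp [aList]

include hp

/-- Membership in the group of order sixteen. -/
theorem mem_A_iff {x : G} :
    (∃ n ∈ aList s, S.f n = x) ↔ Commute x z ∧ Commute x (S.f s) ∧ x * x = 1 := by
  obtain ⟨-, hs, -⟩ := hp.lt
  constructor
  · rintro ⟨n, hn, rfl⟩
    obtain ⟨hn', h1, h2⟩ := mem_aList.1 hn
    exact ⟨S.f_comm n, (S.cm2_iff hn' hs).1 h1, by
      rw [← S.f_mul n hn' n hn', Nat.eq_of_beq_eq_true h2, S.f_zero]⟩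
  · rintro ⟨h1, h2, h3⟩
    obtain ⟨n, hn, rfl⟩ := S.f_surj x h1
    refine ⟨n, mem_aList.2 ⟨hn, (S.cm2_iff hn hs).2 h2, beq_true ?_⟩, rfl⟩
    rw [← S.f_eq_one (mul_lt hn hn), S.f_mul n hn n hn, h3]

theorem aList_mul {a b : ℕ} (ha : a ∈ aList s) (hb : b ∈ aList s) :
    mul a b ∈ aList s ∧ Commute (S.f a) (S.f b) := by
  have h := hp.sixteen
  simp only [sixteenC, Bool.and_eq_true] at h
  have h1 := all_mem (all_mem h.1.1.1.1.1.1.1.2 ha) hb
  simp only [Bool.and_eq_true, memb_iff] at h1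
  exact ⟨h1.1, (S.cm2_iff (mem_aList.1 ha).1 (mem_aList.1 hb).1).1 h1.2⟩

/-- The elementary group of order sixteen. -/
def A16 : Subgroup G where
  carrier := {x | ∃ n ∈ aList s, S.f n = x}
  one_mem' := (S.mem_A_iff hp).2 ⟨Commute.one_left _, Commute.one_left _, one_mul 1⟩
  mul_mem' := by
    rintro _ _ ⟨a, ha, rfl⟩ ⟨b, hb, rfl⟩
    exact ⟨_, (S.aList_mul hp ha hb).1, S.f_mul a (mem_aList.1 ha).1 b (mem_aList.1 hb).1⟩
  inv_mem' := by
    rintro x hx
    obtain ⟨-, -, h3⟩ := (S.mem_A_iff hp).1 hx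
    rw [inv_eq_of_mul_eq_one_right h3]
    exact hx

theorem mem_A16 {x : G} : x ∈ S.A16 hp ↔ Commute x z ∧ Commute x (S.f s) ∧ x * x = 1 := S.mem_A_iff hp

theorem A16_comm {x y : G} (hx : x ∈ S.A16 hp) (hy : y ∈ S.A16 hp) : Commute x y := by
  obtain ⟨a, ha, rfl⟩ := hx
  obtain ⟨b, hb, rfl⟩ := hy
  exact (S.aList_mul hp ha hb).2

theorem W_mem_A16 {w : G} (hw : w ∈ S.W s) : w ∈ S.A16 hp :=
  (S.mem_A16 hp).2 ⟨(S.W_facts hp hw).1, (S.W_facts hp hw).2.1, (S.W_facts hp hw).2.2.2⟩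

/-- Elements preserving `⟨z, σ⟩` normalise the group of order sixteen. -/
theorem norm_of_W [Finite G] {g : G}
    (hz : g⁻¹ * z * g ∈ S.W s) (hs' : g⁻¹ * S.f s * g ∈ S.W s) :
    g ∈ normalizer (S.A16 hp : Set G) := by
  refine Tools.mem_normalizer_of fun a ha => ?_
  obtain ⟨h1, h2, h3⟩ := (S.mem_A16 hp).1 ha
  have key : ∀ w ∈ S.W s, Commute a w := fun w hw => S.A16_comm hp ha (S.W_mem_A16 hp hw)
  refine (S.mem_A16 hp).2 ⟨?_, ?_, ?_⟩
  · have := commute_conj (g := g) (key _ hz)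
    rwa [show g * (g⁻¹ * z * g) * g⁻¹ = z by group] at this
  · have := commute_conj (g := g) (key _ hs')
    rwa [show g * (g⁻¹ * S.f s * g) * g⁻¹ = S.f s by group] at this
  · rw [show g * a * g⁻¹ * (g * a * g⁻¹) = g * (a * a) * g⁻¹ by group, h3, mul_one, mul_inv_cancel]

theorem norm_of_cs [Finite G] {h : ℕ} (hh : h < 1152) (hhs : Commute (S.f h) (S.f s)) :
    S.f h ∈ normalizer (S.A16 hp : Set G) := by
  refine Tools.mem_normalizer_of ?_
  rintro _ ⟨a, ha, rfl⟩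
  have hf := hp.four
  simp only [fourC, Bool.and_eq_true] at hf
  have h1 := all_mem (all_mem hf.2 (List.mem_filter.2 ⟨List.mem_range.2 hh,
    (S.cm2_iff hh hp.lt.2.1).2 hhs⟩)) ha
  exact ⟨_, memb_iff.1 h1, S.f_cj hh (mem_aList.1 ha).1⟩

theorem norm_of_naList [Finite G] {h : ℕ} (hh : h ∈ naList s) :
    h < 1152 ∧ S.f h ∈ normalizer (S.A16 hp : Set G) := by
  simp only [naList, List.mem_filter, List.mem_range] at hh
  refine ⟨hh.1, Tools.mem_normalizer_of ?_⟩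
  rintro _ ⟨a, ha, rfl⟩
  exact ⟨_, memb_iff.1 (all_mem hh.2 ha), S.f_cj hh.1 (mem_aList.1 ha).1⟩

/-- The normaliser is transitive on the fifteen involutions. -/
theorem exists_to_z [Finite G] {u : G} (hu : u ∈ S.A16 hp) (hu1 : u ≠ 1) :
    ∃ h ∈ normalizer (S.A16 hp : Set G), h * u * h⁻¹ = z := by
  obtain ⟨hc, hs, -⟩ := hp.lt
  have h16 := hp.sixteen
  simp only [sixteenC, Bool.and_eq_true] at h16
  obtain ⟨g, -, -, g1, g2, g3, -, -⟩ := S.exists_cycle hp
  have gN : g ∈ normalizer (S.A16 hp : Set G) := by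
    refine S.norm_of_W hp ?_ ?_
    · rw [conj_back g3]; exact Or.inr (Or.inr (Or.inr rfl))
    · rw [conj_back g1]; exact Or.inr (Or.inl rfl)
  -- outer elements
  have outer : ∀ n ∈ outA s, ∃ h ∈ normalizer (S.A16 hp : Set G), h * S.f n * h⁻¹ = z := by
    intro n hn
    have hh := all_mem h16.1.1.2 hn
    obtain ⟨k, hk, ek⟩ := List.any_eq_true.1 hh
    obtain ⟨hk', kN⟩ := S.norm_of_naList hp hk
    have e := S.conj_code hk' hs (Nat.eq_of_beq_eq_true ek)
    refine ⟨g⁻¹ * (S.f k)⁻¹, mul_mem (inv_mem gN) (inv_mem kN), ?_⟩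
    rw [← e, show g⁻¹ * (S.f k)⁻¹ * (S.f k * S.f s * (S.f k)⁻¹) * (g⁻¹ * (S.f k)⁻¹)⁻¹ = g⁻¹ * S.f s * g by group,
      conj_back g1]
  obtain ⟨n, hn, rfl⟩ := hu
  by_cases h12 : n = 12
  · exact ⟨1, one_mem _, by rw [h12, S.f_z, one_mul, inv_one, mul_one]⟩
  have h0 : n ≠ 0 := fun e => hu1 (by rw [e, S.f_zero])
  by_cases hq : inQ n = false
  · exact outer n (List.mem_filter.2 ⟨hn, by simp [hq]⟩)
  rw [Bool.not_eq_false] at hq
  have hnI : n ∈ inA s := List.mem_filter.2 ⟨hn, by simp [hq, beq_false h0, beq_false h12]⟩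
  have hin : ∀ m ∈ inA s, m ∈ aList s := fun m hm => (List.mem_filter.1 hm).1
  -- some inner element leaves the inner elements
  have hex : ∃ x ∈ inA s, ∀ m ∈ inA s, g * S.f x * g⁻¹ ≠ S.f m := by
    by_contra hno
    push Not at hno
    obtain ⟨x, hx, hy⟩ := List.any_eq_true.1 h16.2
    obtain ⟨y, hy, exy⟩ := List.any_eq_true.1 hy
    obtain ⟨x', hx', ex⟩ := hno x hx
    obtain ⟨y', hy', ey⟩ := hno y hy
    have lt := fun m hm => (mem_aList.1 (hin m hm)).1
    have exy' : S.f x * S.f y = z := (S.f_mul x (lt x hx) y (lt y hy)).symm.trans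
      ((congrArg S.f (Nat.eq_of_beq_eq_true exy)).trans S.f_z)
    have e : g * z * g⁻¹ = S.f (mul x' y') := by
      rw [S.f_mul x' (lt x' hx') y' (lt y' hy'), ← ex, ← ey]
      calc g * z * g⁻¹ = g * (S.f x * S.f y) * g⁻¹ := congrArg (fun w => g * w * g⁻¹) exy'.symm
        _ = _ := by group
    rw [g1] at e
    have hmem : mul x' y' = s := (S.f_inj s hs _ (mul_lt (lt x' hx') (lt y' hy')) e).symm
    have key : ((inA 576).all fun a => (inA 576).all fun b => !Nat.beq (mul a b) 576) = true ∧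
        ((inA 864).all fun a => (inA 864).all fun b => !Nat.beq (mul a b) 864) = true := by
      decide +kernel
    rcases hp with ⟨-, rfl, -⟩ | ⟨-, rfl, -⟩
    · have := all_mem (all_mem key.1 hx') hy'
      rw [beq_true hmem] at this; exact Bool.noConfusion this
    · have := all_mem (all_mem key.2 hx') hy'
      rw [beq_true hmem] at this; exact Bool.noConfusion this
  obtain ⟨x, hx, hxout⟩ := hex
  obtain ⟨k, hk, ek⟩ := List.any_eq_true.1 (all_mem (all_mem h16.1.2 hnI) hx)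
  obtain ⟨hk', kN⟩ := S.norm_of_naList hp hk
  have e := S.conj_code hk' (mem_aList.1 hn).1 (Nat.eq_of_beq_eq_true ek)
  have hgx : g * S.f x * g⁻¹ ∈ S.A16 hp :=
    (mem_normalizer_iff.1 gN _).1 ⟨x, hin x hx, rfl⟩
  obtain ⟨m, hm, em⟩ := hgx
  have step : ∃ h ∈ normalizer (S.A16 hp : Set G), h * S.f m * h⁻¹ = z := by
    by_cases m12 : m = 12
    · exact ⟨1, one_mem _, by rw [m12, S.f_z, one_mul, inv_one, mul_one]⟩
    by_cases mq : inQ m = false
    · exact outer m (List.mem_filter.2 ⟨hm, by simp [mq]⟩)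
    rw [Bool.not_eq_false] at mq
    refine absurd em.symm (hxout m (List.mem_filter.2 ⟨hm, ?_⟩))
    have m0 : m ≠ 0 := fun e0 => by
      rw [e0, S.f_zero] at em
      have hx1 : S.f x = 1 := conj_eq_one_iff.1 em.symm
      have := (S.f_eq_one (mem_aList.1 (hin x hx)).1).1 hx1
      subst this
      simp [inA] at hx
    simp [mq, beq_false m0, beq_false m12]
  obtain ⟨h, hh, eh⟩ := step
  refine ⟨h * g * S.f k, mul_mem (mul_mem hh gN) kN, ?_⟩
  rw [show h * g * S.f k * S.f n * (h * g * S.f k)⁻¹ = h * (g * (S.f k * S.f n * (S.f k)⁻¹) * g⁻¹) * h⁻¹ by group,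
    e, ← em, eh]

/-- A nontrivial element of order three centralising a four group of `A16` outside `⟨z, σ⟩` is moved into
`⟨c⟩` by the normaliser. -/
theorem move_line [Finite G] {f u₁ u₂ : G} (hf3 : f ^ 3 = 1) (hf1 : f ≠ 1) (h1 : u₁ ∈ S.A16 hp)
    (h2 : u₂ ∈ S.A16 hp) (hu1 : u₁ ≠ 1) (hne : u₁ ≠ u₂) (hu2 : u₂ ≠ 1)
    (hc1 : Commute f u₁) (hc2 : Commute f u₂) :
    ∃ m ∈ normalizer (S.A16 hp : Set G), m * f * m⁻¹ = S.f c ∨ m * f * m⁻¹ = (S.f c)⁻¹ := by
  obtain ⟨hc, hs, -⟩ := hp.lt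
  obtain ⟨h, hN, eh⟩ := S.exists_to_z hp h1 hu1
  have k1 : Commute (h * f * h⁻¹) z := eh ▸ commute_conj (g := h) hc1
  have k3 : (h * f * h⁻¹) ^ 3 = 1 := by rw [conj_pow, hf3, mul_one, mul_inv_cancel]
  have kne : h * f * h⁻¹ ≠ 1 := fun e => hf1 (conj_eq_one_iff.1 e)
  obtain ⟨n, hn, en⟩ := S.f_surj _ k1
  obtain ⟨m, hm, em⟩ := (mem_normalizer_iff.1 hN u₂).1 h2
  have hm' := (mem_aList.1 hm).1
  have hnm : Commute (S.f n) (S.f m) := by rw [en, em]; exact commute_conj hc2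
  have h3 : isThree n = true := by
    rw [S.isThree_iff hn, en]
    haveI : Fact (Nat.Prime 3) := ⟨Nat.prime_three⟩
    exact orderOf_eq_prime_iff.2 ⟨k3, kne⟩
  have m12 : m ≠ 12 := fun e => by
    rw [e, S.f_z] at em
    exact hne (mul_left_cancel (mul_right_cancel (eh.trans em)))
  have m0 : m ≠ 0 := fun e => hu2 (by rw [e, S.f_zero] at em; exact conj_eq_one_iff.1 em.symm)
  have mq : inQ m = false := by
    by_contra hq
    rw [Bool.not_eq_false] at hq
    have hmI : isInv m = true := by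
      simp only [isInv, (mem_aList.1 hm).2.2, beq_false m0, Bool.not_false, Bool.and_self]
    have hT := all_range threeQ_check hn
    rw [h3, Bool.not_true, Bool.false_or] at hT
    have := all_mem hT (List.mem_filter.2 ⟨List.mem_range.2 hm', by simp [hmI, hq, beq_false m12]⟩)
    rw [(S.cm2_iff hm' hn).2 hnm.symm] at this
    exact Bool.noConfusion this
  have h16 := hp.sixteen
  simp only [sixteenC, Bool.and_eq_true] at h16
  obtain ⟨k, hk, ek⟩ := List.any_eq_true.1 (all_mem h16.1.1.2 (List.mem_filter.2 ⟨hm, by simp [mq]⟩))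
  obtain ⟨hk', kN⟩ := S.norm_of_naList hp hk
  have e := S.conj_code hk' hs (Nat.eq_of_beq_eq_true ek)
  have l1 : Commute ((S.f k)⁻¹ * S.f n * S.f k) (S.f s) := by
    have := commute_conj (g := (S.f k)⁻¹) hnm
    rwa [inv_inv, conj_back e] at this
  have l2 : Commute ((S.f k)⁻¹ * S.f n * S.f k) z :=
    ((S.f_comm k).inv_left.mul_left (S.f_comm n)).mul_left (S.f_comm k)
  obtain ⟨q, hq, eq⟩ := S.f_surj _ l2
  rw [← eq] at l1
  have q3 : isThree q = true := by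
    rw [S.isThree_iff hq, eq, show (S.f k)⁻¹ * S.f n * S.f k = (S.f k)⁻¹ * S.f n * ((S.f k)⁻¹)⁻¹ by group,
      Tools.orderOf_conj, ← S.isThree_iff hn, h3]
  have hf' := hp.four
  simp only [fourC, Bool.and_eq_true] at hf'
  have h4 := all_mem hf'.1.2 (List.mem_filter.2 ⟨List.mem_range.2 hq, (S.cm2_iff hq hs).2 l1⟩)
  simp only [q3, Bool.not_true, Bool.false_or, List.any_eq_true, List.mem_filter, List.mem_range, memb_iff,
    List.mem_cons, List.not_mem_nil, or_false] at h4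
  obtain ⟨r, ⟨hr, hrs⟩, hrc⟩ := h4
  refine ⟨S.f r * (S.f k)⁻¹ * h,
    mul_mem (mul_mem (S.norm_of_cs hp hr ((S.cm2_iff hr hs).1 hrs)) (inv_mem kN)) hN, ?_⟩
  rw [show S.f r * (S.f k)⁻¹ * h * f * (S.f r * (S.f k)⁻¹ * h)⁻¹ =
    S.f r * ((S.f k)⁻¹ * (h * f * h⁻¹) * S.f k) * (S.f r)⁻¹ by group, ← en, ← eq, ← S.f_cj hr hq]
  rcases hrc with e' | e'
  · exact Or.inl (congrArg S.f e')
  · exact Or.inr (by rw [e', S.f_inv hc])

end Setup

end Cfsg.Agent.Lib.U43Type85
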