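import Cfsg.Agent.Lib.U43Type85.SL
import Cfsg.Agent.Lib.Components.GenFitting
import Cfsg.Agent.Lib.Cores.Basic
import Cfsg.Prelude.Def_Local
import Cfsg.Prelude.Def_Transfer
import Cfsg.Prelude.Def_Solvable

/-!
# U4(3) type: the two copies of `SL(2, 3)` in the centraliser

Owner: helper85.
-/

set_option autoImplicit false

namespace Cfsg.Agent.Lib.U43Type85

open Subgroup

theorem q8_tmul : ∀ a < 24, ∀ b < 24, q8 a = true → q8 b = true → q8 (tmul a b) = true := by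
  decide +kernel

theorem q8_tinv : ∀ a < 24, q8 a = true → q8 (tinv a) = true := by decide +kernel

theorem q8_zero : q8 0 = true := rfl

theorem q8_twelve : q8 12 = true := rfl

/-- A fourth power. -/
def tp4 (a : ℕ) : ℕ := tmul (tmul a a) (tmul a a)

theorem q8_of_pow : ∀ a < 24, ∀ b < 24,
    (tp4 a = 0 ∧ tp4 b = 0) ∨ (tp4 a = 12 ∧ tp4 b = 12) → q8 a = true ∧ q8 b = true := by
  decide +kernel

theorem tp4_q8 : ∀ a < 24, q8 a = true → tp4 a = 0 := by decide +kernel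

theorem tp12 : ∀ a < 24, tmul (tmul (tp4 a) (tp4 a)) (tp4 a) = 0 := by decide +kernel

variable {G : Type*} [Group G]

/-- The two embeddings of `SL(2, 3)` into the centraliser of `z`. -/
structure Pair (z : G) where
  ι : Bool → ℕ → G
  hom : ∀ i, ∀ a < 24, ∀ b < 24, ι i (tmul a b) = ι i a * ι i b
  inj : ∀ i, ∀ a < 24, ∀ b < 24, ι i a = ι i b → a = b
  comm : ∀ a < 24, ∀ b < 24, Commute (ι false a) (ι true b)
  neg : ∀ i, ι i 12 = z
  meet : ∀ a < 24, ∀ b < 24, ι false a = ι true b → a = 0 ∨ a = 12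
  norm : ∀ g, Commute g z → ∀ i, ∀ a < 24,
    ∃ X < 24, ∃ Y < 24, g * ι i a * g⁻¹ = ι false X * ι true Y
  self : ∀ g, Commute g z → (∀ i, ∀ a < 24, q8 a = true → Commute g (ι i a)) →
    ∃ X < 24, ∃ Y < 24, q8 X = true ∧ q8 Y = true ∧ g = ι false X * ι true Y

namespace Pair

variable {z : G} (P : Pair z)

/-- The element with two coordinates. -/
def kx (X Y : ℕ) : G := P.ι false X * P.ι true Y

/-- Membership in the subgroup `Q`. -/
def InQ (g : G) : Prop := ∃ X < 24, ∃ Y < 24, q8 X = true ∧ q8 Y = true ∧ g = P.kx X Y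

theorem ι_zero (i : Bool) : P.ι i 0 = 1 := by
  have h := P.hom i 0 (by norm_num) 0 (by norm_num)
  rw [show tmul 0 0 = 0 from by decide +kernel] at h
  exact mul_eq_left.mp h.symm

include P in
theorem z_sq : z * z = 1 := by
  rw [← P.neg false, ← P.hom false 12 (by norm_num) 12 (by norm_num),
    show tmul 12 12 = 0 from by decide +kernel, P.ι_zero]

include P in
theorem z_ne : z ≠ 1 := fun h => by
  have := P.inj false 12 (by norm_num) 0 (by norm_num) (by rw [P.neg, P.ι_zero, h])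
  norm_num at this

theorem ι_tneg (i : Bool) {a : ℕ} (ha : a < 24) : P.ι i (tneg a) = z * P.ι i a := by
  rw [(tneg_eq a ha).1, P.hom i 12 (by norm_num) a ha, P.neg]

theorem ι_commute_z (i : Bool) {a : ℕ} (ha : a < 24) : Commute (P.ι i a) z :=
  calc P.ι i a * z = P.ι i a * P.ι i 12 := by rw [P.neg]
    _ = P.ι i (tneg a) := by rw [← P.hom i a ha 12 (by norm_num), ← (tneg_eq a ha).2]
    _ = z * P.ι i a := P.ι_tneg i ha

theorem kx_commute_z {X Y : ℕ} (hX : X < 24) (hY : Y < 24) : Commute (P.kx X Y) z :=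
  (P.ι_commute_z false hX).mul_left (P.ι_commute_z true hY)

theorem ι_inv (i : Bool) {a : ℕ} (ha : a < 24) : P.ι i (tinv a) = (P.ι i a)⁻¹ := by
  refine eq_inv_of_mul_eq_one_right ?_
  rw [← P.hom i a ha _ (tinv_lt a ha), (tmul_tinv a ha).1, P.ι_zero]

theorem kx_mul {X Y U V : ℕ} (hX : X < 24) (hY : Y < 24) (hU : U < 24) (hV : V < 24) :
    P.kx X Y * P.kx U V = P.kx (tmul X U) (tmul Y V) := by
  rw [kx, kx, kx, P.hom false X hX U hU, P.hom true Y hY V hV, mul_assoc, mul_assoc,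
    ← mul_assoc (P.ι true Y), ← (P.comm U hU Y hY).eq, mul_assoc]

theorem kx_inv {X Y : ℕ} (hX : X < 24) (hY : Y < 24) : (P.kx X Y)⁻¹ = P.kx (tinv X) (tinv Y) := by
  refine (eq_inv_of_mul_eq_one_right ?_).symm
  rw [P.kx_mul hX hY (tinv_lt X hX) (tinv_lt Y hY), (tmul_tinv X hX).1, (tmul_tinv Y hY).1, kx,
    P.ι_zero, P.ι_zero, mul_one]

theorem kx_neg {X Y : ℕ} (hX : X < 24) (hY : Y < 24) : P.kx (tneg X) (tneg Y) = P.kx X Y := by
  rw [kx, kx, P.ι_tneg _ hX, P.ι_tneg _ hY, mul_assoc, ← mul_assoc (P.ι false X),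
    (P.ι_commute_z false hX).eq, mul_assoc, ← mul_assoc z, P.z_sq, one_mul]

theorem kx_eq {X Y U V : ℕ} (hX : X < 24) (hY : Y < 24) (hU : U < 24) (hV : V < 24)
    (h : P.kx X Y = P.kx U V) : enc X Y 0 = enc U V 0 := by
  have h' : P.ι false (tmul (tinv U) X) = P.ι true (tmul V (tinv Y)) := by
    rw [P.hom false _ (tinv_lt U hU) X hX, P.hom true V hV _ (tinv_lt Y hY), P.ι_inv _ hU,
      P.ι_inv _ hY, inv_mul_eq_iff_eq_mul, ← mul_assoc, eq_mul_inv_iff_mul_eq]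
    exact h
  have hlt1 := tmul_lt _ (tinv_lt U hU) X hX
  have hlt2 := tmul_lt V hV _ (tinv_lt Y hY)
  have back : ∀ a < 24, ∀ b < 24, tmul (tinv a) b = 0 → b = a := by decide +kernel
  have back' : ∀ a < 24, ∀ b < 24, tmul (tinv a) b = 12 → b = tneg a := by decide +kernel
  have back2 : ∀ a < 24, ∀ b < 24, tmul a (tinv b) = 0 → b = a := by decide +kernel
  have back2' : ∀ a < 24, ∀ b < 24, tmul a (tinv b) = 12 → b = tneg a := by decide +kernel
  have tn : ∀ a < 24, ∀ b < 24, enc (tneg a) (tneg b) 0 = enc a b 0 := by decide +kernel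
  rcases P.meet _ hlt1 _ hlt2 h' with e | e
  · have e2 : tmul V (tinv Y) = 0 :=
      P.inj true _ hlt2 0 (by norm_num) (by rw [← h', e, P.ι_zero, P.ι_zero])
    rw [back U hU X hX e, back2 V hV Y hY e2]
  · have e2 : tmul V (tinv Y) = 12 :=
      P.inj true _ hlt2 12 (by norm_num) (by rw [← h', e, P.neg, P.neg])
    rw [back' U hU X hX e, back2' V hV Y hY e2, tn U hU V hV]

theorem kx_code {X Y : ℕ} (hX : X < 24) (hY : Y < 24) :
    P.kx (cX (enc X Y 0)) (cY (enc X Y 0)) = P.kx X Y := by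
  have key : ∀ x < 24, ∀ y < 24, cX (enc x y 0) < 24 ∧ cY (enc x y 0) < 24 ∧
      ((cX (enc x y 0) = x ∧ cY (enc x y 0) = y) ∨
        (x = tneg (cX (enc x y 0)) ∧ y = tneg (cY (enc x y 0)))) := by
    decide +kernel
  obtain ⟨l1, l2, ⟨e1, e2⟩ | ⟨e1, e2⟩⟩ := key X hX Y hY
  · rw [e1, e2]
  · exact ((congrArg₂ P.kx e1 e2).trans (P.kx_neg l1 l2)).symm

theorem kx_eq_of_enc {X Y U V : ℕ} (hX : X < 24) (hY : Y < 24) (hU : U < 24) (hV : V < 24)
    (h : enc X Y 0 = enc U V 0) : P.kx X Y = P.kx U V := by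
  rw [← P.kx_code hX hY, h, P.kx_code hU hV]

theorem InQ.one : P.InQ 1 :=
  ⟨0, by norm_num, 0, by norm_num, q8_zero, q8_zero, by rw [kx, P.ι_zero, P.ι_zero, one_mul]⟩

theorem InQ.mul {g h : G} (hg : P.InQ g) (hh : P.InQ h) : P.InQ (g * h) := by
  obtain ⟨X, hX, Y, hY, qX, qY, rfl⟩ := hg
  obtain ⟨U, hU, V, hV, qU, qV, rfl⟩ := hh
  exact ⟨_, tmul_lt X hX U hU, _, tmul_lt Y hY V hV, q8_tmul X hX U hU qX qU,
    q8_tmul Y hY V hV qY qV, P.kx_mul hX hY hU hV⟩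

theorem InQ.inv {g : G} (hg : P.InQ g) : P.InQ g⁻¹ := by
  obtain ⟨X, hX, Y, hY, qX, qY, rfl⟩ := hg
  exact ⟨_, tinv_lt X hX, _, tinv_lt Y hY, q8_tinv X hX qX, q8_tinv Y hY qY, P.kx_inv hX hY⟩

theorem InQ.commute_z {g : G} (hg : P.InQ g) : Commute g z := by
  obtain ⟨X, hX, Y, hY, -, -, rfl⟩ := hg
  exact P.kx_commute_z hX hY

theorem ι_eq_kx (i : Bool) {a : ℕ} (_ha : a < 24) :
    P.ι i a = bif i then P.kx 0 a else P.kx a 0 := by
  cases i <;> simp [kx, P.ι_zero]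

/-- The subgroup of products. -/
def K : Subgroup G where
  carrier := {g | ∃ X < 24, ∃ Y < 24, g = P.kx X Y}
  one_mem' := ⟨0, by norm_num, 0, by norm_num, by rw [kx, P.ι_zero, P.ι_zero, one_mul]⟩
  mul_mem' := by
    rintro _ _ ⟨X, hX, Y, hY, rfl⟩ ⟨U, hU, V, hV, rfl⟩
    exact ⟨_, tmul_lt X hX U hU, _, tmul_lt Y hY V hV, P.kx_mul hX hY hU hV⟩
  inv_mem' := by
    rintro _ ⟨X, hX, Y, hY, rfl⟩
    exact ⟨_, tinv_lt X hX, _, tinv_lt Y hY, P.kx_inv hX hY⟩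

theorem ι_mem_K (i : Bool) {a : ℕ} (ha : a < 24) : P.ι i a ∈ P.K := by
  cases i
  · exact ⟨a, ha, 0, by norm_num, P.ι_eq_kx false ha⟩
  · exact ⟨0, by norm_num, a, ha, P.ι_eq_kx true ha⟩

theorem K_normal {g k : G} (hg : Commute g z) (hk : k ∈ P.K) : g * k * g⁻¹ ∈ P.K := by
  obtain ⟨X, hX, Y, hY, rfl⟩ := hk
  rw [kx, show g * (P.ι false X * P.ι true Y) * g⁻¹ =
    (g * P.ι false X * g⁻¹) * (g * P.ι true Y * g⁻¹) by group]
  exact P.K.mul_mem (P.norm g hg false X hX) (P.norm g hg true Y hY)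

theorem kx_four {X Y : ℕ} (hX : X < 24) (hY : Y < 24) :
    P.kx X Y ^ 4 = P.kx (tp4 X) (tp4 Y) := by
  rw [show 4 = 2 * 2 from rfl, pow_mul, sq, sq, P.kx_mul hX hY hX hY,
    P.kx_mul (tmul_lt X hX X hX) (tmul_lt Y hY Y hY) (tmul_lt X hX X hX) (tmul_lt Y hY Y hY)]
  rfl

theorem inQ_of_pow {k : G} (hk : k ∈ P.K) {n : ℕ} (h : k ^ 2 ^ n = 1) : P.InQ k := by
  obtain ⟨X, hX, Y, hY, rfl⟩ := hk
  have lt4 : ∀ a < 24, tp4 a < 24 := by decide +kernel
  have h12 : P.kx X Y ^ 12 = 1 := by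
    rw [show 12 = 4 * 3 from rfl, pow_mul, P.kx_four hX hY, pow_succ, sq,
      P.kx_mul (lt4 X hX) (lt4 Y hY) (lt4 X hX) (lt4 Y hY),
      P.kx_mul (tmul_lt _ (lt4 X hX) _ (lt4 X hX)) (tmul_lt _ (lt4 Y hY) _ (lt4 Y hY)) (lt4 X hX)
        (lt4 Y hY), tp12 X hX, tp12 Y hY, kx, P.ι_zero, P.ι_zero, one_mul]
  have hd : orderOf (P.kx X Y) ∣ Nat.gcd (2 ^ n) 12 :=
    Nat.dvd_gcd (orderOf_dvd_of_pow_eq_one h) (orderOf_dvd_of_pow_eq_one h12)
  have h4 : Nat.gcd (2 ^ n) 12 ∣ 4 :=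
    Nat.Coprime.dvd_of_dvd_mul_right
      (k := Nat.gcd (2 ^ n) 12) (n := 3) (m := 4)
      (Nat.Coprime.coprime_dvd_left (Nat.gcd_dvd_left _ _) (Nat.Coprime.pow_left n (by norm_num)))
      (Nat.gcd_dvd_right _ _)
  have h1 : P.kx X Y ^ 4 = 1 := orderOf_dvd_iff_pow_eq_one.1 (hd.trans h4)
  rw [P.kx_four hX hY, show (1 : G) = P.kx 0 0 by rw [kx, P.ι_zero, P.ι_zero, one_mul]] at h1
  have he := P.kx_eq (lt4 X hX) (lt4 Y hY) (U := 0) (V := 0) (by norm_num) (by norm_num) h1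
  have key : ∀ a < 24, ∀ b < 24, enc (tp4 a) (tp4 b) 0 = enc 0 0 0 →
      q8 a = true ∧ q8 b = true := by decide +kernel
  exact ⟨X, hX, Y, hY, (key X hX Y hY he).1, (key X hX Y hY he).2, rfl⟩

theorem InQ.pow {q : G} (hq : P.InQ q) : q ^ 4 = 1 := by
  obtain ⟨X, hX, Y, hY, qX, qY, rfl⟩ := hq
  rw [P.kx_four hX hY, tp4_q8 X hX qX, tp4_q8 Y hY qY, kx, P.ι_zero, P.ι_zero, one_mul]

theorem InQ.mem_K {q : G} (hq : P.InQ q) : q ∈ P.K := by
  obtain ⟨X, hX, Y, hY, -, -, rfl⟩ := hq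
  exact ⟨X, hX, Y, hY, rfl⟩

theorem InQ.conj {g q : G} (hg : Commute g z) (hq : P.InQ q) : P.InQ (g * q * g⁻¹) :=
  P.inQ_of_pow (P.K_normal hg hq.mem_K) (n := 2) (by
    rw [show 2 ^ 2 = 4 from rfl, conj_pow, InQ.pow P hq, mul_one, mul_inv_cancel])

/-- `Q` as a subgroup of `G`. -/
def QG : Subgroup G where
  carrier := {g | P.InQ g}
  one_mem' := InQ.one P
  mul_mem' := InQ.mul P
  inv_mem' := InQ.inv P

end Pair

/-- The hypotheses on a group of `U₄(3)` type in terms of a pair of embeddings. -/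
structure Hyp {z : G} (P : Pair z) : Prop where
  card : Nat.card ↥(centralizer ({z} : Set G)) = 1152
  wc : ∃ g : G, P.InQ (g * z * g⁻¹) ∧ g * z * g⁻¹ ≠ z
  inter : ∀ g : G, P.InQ (g * z * g⁻¹) → g * z * g⁻¹ ≠ z →
    Nat.card {v : G // P.InQ v ∧ P.InQ (g⁻¹ * v * g)} = 4

theorem mem_cent {z g : G} : g ∈ centralizer ({z} : Set G) ↔ Commute g z := by
  rw [mem_centralizer_singleton_iff]
  exact ⟨fun h => h, fun h => h.eq⟩

/-- The hypotheses of the statement give a pair. -/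
theorem exists_pair [Finite G] (z : G) (hz : orderOf z = 2)
    (C : Subgroup G) (hCm : ∀ {g : G}, g ∈ C ↔ Commute g z)
    (H₁ H₂ : Subgroup C)
    (hK : H₁ ⊔ H₂ = Subgroup.closure {x : C | Odd (orderOf x)})
    (hn₁ : (H₁.subgroupOf (H₁ ⊔ H₂)).Normal) (hn₂ : (H₂.subgroupOf (H₁ ⊔ H₂)).Normal)
    (e₁ : H₁ ≃* Matrix.SpecialLinearGroup (Fin 2) (ZMod 3))
    (e₂ : H₂ ≃* Matrix.SpecialLinearGroup (Fin 2) (ZMod 3))
    (hmeet : (H₁ ⊓ H₂).map (Subgroup.subtype C) = Subgroup.zpowers z)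
    (Q : Subgroup C)
    (hQ : Q = (Cfsg.pCore 2 ↥(H₁ ⊔ H₂)).map (Subgroup.subtype (H₁ ⊔ H₂)))
    (hF : Cfsg.generalizedFittingSubgroup C = Q) :
    ∃ P : Pair z, ∀ v : G, P.InQ v ↔ v ∈ Q.map (Subgroup.subtype C) := by
  classical
  have hzz : z * z = 1 := by rw [← sq, ← hz, pow_orderOf_eq_one]
  have hzne : z ≠ 1 := fun h => by rw [h, orderOf_one] at hz; norm_num at hz
  have hzC : z ∈ C := hCm.2 (Commute.refl z)
  let ι₁ : ℕ → C := fun a => ((e₁.symm (slE a) : H₁) : C)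
  let ι₂ : ℕ → C := fun a => ((e₂.symm (slE a) : H₂) : C)
  have hom₁ : ∀ a < 24, ∀ b < 24, ι₁ (tmul a b) = ι₁ a * ι₁ b := fun a ha b hb => by
    simp only [ι₁, slE_mul a ha b hb, map_mul, Subgroup.coe_mul]
  have hom₂ : ∀ a < 24, ∀ b < 24, ι₂ (tmul a b) = ι₂ a * ι₂ b := fun a ha b hb => by
    simp only [ι₂, slE_mul a ha b hb, map_mul, Subgroup.coe_mul]
  have inj₁ : ∀ a < 24, ∀ b < 24, ι₁ a = ι₁ b → a = b := fun a ha b hb h =>
    slE_inj a ha b hb (e₁.symm.injective (Subtype.ext h))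
  have inj₂ : ∀ a < 24, ∀ b < 24, ι₂ a = ι₂ b → a = b := fun a ha b hb h =>
    slE_inj a ha b hb (e₂.symm.injective (Subtype.ext h))
  have zero₁ : ι₁ 0 = 1 := by simp [ι₁, slE_zero]
  have zero₂ : ι₂ 0 = 1 := by simp [ι₂, slE_zero]
  set zC : C := ⟨z, hzC⟩ with hzC'
  have zC1 : zC ≠ 1 := fun h => hzne (congrArg Subtype.val h)
  have hzmeet : zC ∈ H₁ ⊓ H₂ := by
    have h : z ∈ (H₁ ⊓ H₂).map (Subgroup.subtype C) := hmeet ▸ mem_zpowers z
    obtain ⟨w, hw, e⟩ := h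
    have : w = zC := Subtype.ext e
    exact this ▸ hw
  have inmeet : ∀ c : C, c ∈ H₁ ⊓ H₂ → c = 1 ∨ c = zC := fun c hc => by
    have h : (c : G) ∈ Subgroup.zpowers z := hmeet ▸ Subgroup.mem_map_of_mem _ hc
    obtain ⟨k, hk⟩ := Subgroup.mem_zpowers_iff.1 h
    rcases Int.even_or_odd k with ⟨m, rfl⟩ | ⟨m, rfl⟩
    · left
      apply Subtype.ext
      rw [← hk, zpow_add, ← Commute.mul_zpow rfl, hzz, one_zpow]
      rfl
    · right
      apply Subtype.ext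
      rw [← hk, zpow_add_one, two_mul, zpow_add, ← Commute.mul_zpow rfl, hzz, one_zpow, one_mul]
  have neg₁ : ι₁ 12 = zC := by
    have hM : e₁ ⟨zC, hzmeet.1⟩ * e₁ ⟨zC, hzmeet.1⟩ = 1 := by
      rw [← map_mul, show (⟨zC, hzmeet.1⟩ : H₁) * ⟨zC, hzmeet.1⟩ = 1 from
        Subtype.ext (Subtype.ext hzz), map_one]
    rcases slE_neg _ hM with h | h
    · exact absurd (congrArg Subtype.val ((map_eq_one_iff e₁ e₁.injective).1 h)) zC1
    · simp only [ι₁, ← h, MulEquiv.symm_apply_apply]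
  have neg₂ : ι₂ 12 = zC := by
    have hM : e₂ ⟨zC, hzmeet.2⟩ * e₂ ⟨zC, hzmeet.2⟩ = 1 := by
      rw [← map_mul, show (⟨zC, hzmeet.2⟩ : H₂) * ⟨zC, hzmeet.2⟩ = 1 from
        Subtype.ext (Subtype.ext hzz), map_one]
    rcases slE_neg _ hM with h | h
    · exact absurd (congrArg Subtype.val ((map_eq_one_iff e₂ e₂.injective).1 h)) zC1
    · simp only [ι₂, ← h, MulEquiv.symm_apply_apply]
  have m₁ : ∀ a, ι₁ a ∈ H₁ := fun a => (e₁.symm (slE a)).2
  have m₂ : ∀ a, ι₂ a ∈ H₂ := fun a => (e₂.symm (slE a)).2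
  have meet : ∀ a < 24, ∀ b < 24, ι₁ a = ι₂ b → a = 0 ∨ a = 12 := fun a ha b _ h => by
    rcases inmeet _ ⟨m₁ a, h ▸ m₂ b⟩ with e | e
    · exact Or.inl (inj₁ a ha 0 (by norm_num) (e.trans zero₁.symm))
    · exact Or.inr (inj₁ a ha 12 (by norm_num) (e.trans neg₁.symm))
  have zcomm : ∀ c : C, c * zC = zC * c := fun c => Subtype.ext (hCm.1 c.2).eq
  have comgen : ∀ a ∈ [1, 2], ∀ b ∈ [1, 2], ι₂ b * ι₁ a * (ι₂ b)⁻¹ = ι₁ a := by
    intro a ha b hb
    have ha24 : a < 24 := by fin_cases ha <;> norm_num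
    have cube : ι₁ a * ι₁ a * ι₁ a = 1 := by
      rw [← hom₁ a ha24 a ha24, ← hom₁ _ (tmul_lt a ha24 a ha24) a ha24, ← zero₁]
      congr 1
      fin_cases ha <;> decide +kernel
    set u := ι₁ a
    set v := ι₂ b
    have hu : u ∈ H₁ ⊔ H₂ := Subgroup.mem_sup_left (m₁ a)
    have hv : v ∈ H₁ ⊔ H₂ := Subgroup.mem_sup_right (m₂ b)
    have k1 : v * u * v⁻¹ ∈ H₁ := hn₁.conj_mem ⟨u, hu⟩ (m₁ a) ⟨v, hv⟩
    have k2 : u * v⁻¹ * u⁻¹ ∈ H₂ :=
      hn₂.conj_mem ⟨v⁻¹, inv_mem hv⟩ (inv_mem (m₂ b)) ⟨u, hu⟩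
    have k : v * u * v⁻¹ * u⁻¹ ∈ H₁ ⊓ H₂ := by
      refine Subgroup.mem_inf.2 ⟨mul_mem k1 (inv_mem (m₁ a)), ?_⟩
      rw [mul_assoc, mul_assoc, ← mul_assoc u]
      exact mul_mem (m₂ b) k2
    rcases inmeet _ k with e | e
    · exact mul_inv_eq_one.1 e
    · exfalso
      have e' : v * u * v⁻¹ = zC * u := mul_inv_eq_iff_eq_mul.1 e
      have h3 : (zC * u) * (zC * u) * (zC * u) = 1 := by
        rw [← e', show v * u * v⁻¹ * (v * u * v⁻¹) * (v * u * v⁻¹) = v * (u * u * u) * v⁻¹ by group,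
          cube, mul_one, mul_inv_cancel]
      have hc : Commute zC u := (zcomm u).symm
      have : zC = 1 := by
        calc zC = zC * zC * zC * (u * u * u) := by
              rw [cube, mul_one, show zC * zC = 1 from Subtype.ext hzz, one_mul]
          _ = (zC * u) * (zC * u) * (zC * u) := by
              rw [show zC * zC * zC = zC ^ 3 by rw [pow_succ, sq], show u * u * u = u ^ 3 by rw [pow_succ, sq],
                ← hc.mul_pow, pow_succ, sq]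
          _ = 1 := h3
      exact zC1 this
  have comm : ∀ a < 24, ∀ b < 24, Commute (ι₁ a) (ι₂ b) := by
    have step : ∀ b ∈ [1, 2], ∀ a < 24, ι₂ b * ι₁ a * (ι₂ b)⁻¹ = ι₁ a := fun b hb =>
      ext_gen (p := fun a => ι₂ b * ι₁ a * (ι₂ b)⁻¹) (q := ι₁)
        (fun x hx y hy => by
          show ι₂ b * ι₁ (tmul x y) * (ι₂ b)⁻¹ = _
          rw [hom₁ x hx y hy]; group)
        hom₁ (by simp [zero₁]) (comgen 1 (by simp) b hb) (comgen 2 (by simp) b hb)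
    intro a ha
    have := ext_gen (p := fun b => ι₁ a * ι₂ b * (ι₁ a)⁻¹) (q := ι₂)
      (fun x hx y hy => by
        show ι₁ a * ι₂ (tmul x y) * (ι₁ a)⁻¹ = _
        rw [hom₂ x hx y hy]; group)
      hom₂ (by simp [zero₂]) ?_ ?_
    · exact fun b hb => mul_inv_eq_iff_eq_mul.1 (this b hb)
    all_goals
      show ι₁ a * ι₂ _ * (ι₁ a)⁻¹ = ι₂ _
    · exact mul_inv_eq_iff_eq_mul.2 (mul_inv_eq_iff_eq_mul.1 (step 1 (by simp) a ha)).symm
    · exact mul_inv_eq_iff_eq_mul.2 (mul_inv_eq_iff_eq_mul.1 (step 2 (by simp) a ha)).symm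
  -- every element of `H₁ ⊔ H₂` is a product
  have prod : ∀ c : C, c ∈ H₁ ⊔ H₂ → ∃ X < 24, ∃ Y < 24, c = ι₁ X * ι₂ Y := by
    intro c hc
    rw [Subgroup.sup_eq_closure] at hc
    induction hc using Subgroup.closure_induction with
    | mem x hx =>
      rcases hx with hx | hx
      · obtain ⟨X, hX, e⟩ := slE_surj (e₁ ⟨x, hx⟩)
        exact ⟨X, hX, 0, by norm_num, by rw [zero₂, mul_one]; simp [ι₁, e]⟩
      · obtain ⟨Y, hY, e⟩ := slE_surj (e₂ ⟨x, hx⟩)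
        exact ⟨0, by norm_num, Y, hY, by rw [zero₁, one_mul]; simp [ι₂, e]⟩
    | one => exact ⟨0, by norm_num, 0, by norm_num, by rw [zero₁, zero₂, one_mul]⟩
    | mul x y _ _ hx hy =>
      obtain ⟨X, hX, Y, hY, rfl⟩ := hx
      obtain ⟨U, hU, V, hV, rfl⟩ := hy
      exact ⟨_, tmul_lt X hX U hU, _, tmul_lt Y hY V hV, by
        rw [hom₁ X hX U hU, hom₂ Y hY V hV, (comm U hU Y hY).symm.mul_mul_mul_comm]⟩
    | inv x _ hx =>
      obtain ⟨X, hX, Y, hY, rfl⟩ := hx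
      refine ⟨_, tinv_lt X hX, _, tinv_lt Y hY, inv_eq_of_mul_eq_one_right ?_⟩
      rw [(comm (tinv X) (tinv_lt X hX) Y hY).symm.mul_mul_mul_comm, ← hom₁ X hX _ (tinv_lt X hX),
        ← hom₂ Y hY _ (tinv_lt Y hY), (tmul_tinv X hX).1, (tmul_tinv Y hY).1, zero₁, zero₂, one_mul]
  have norm : ∀ g : C, ∀ c ∈ H₁ ⊔ H₂, g * c * g⁻¹ ∈ H₁ ⊔ H₂ := by
    intro g c hc
    rw [hK] at hc ⊢
    induction hc using Subgroup.closure_induction with
    | mem x hx =>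
      refine Subgroup.subset_closure ?_
      show Odd (orderOf (g * x * g⁻¹))
      rw [← MulAut.conj_apply, MulEquiv.orderOf_eq]
      exact hx
    | one => simp
    | mul x y _ _ hx hy =>
      rw [show g * (x * y) * g⁻¹ = g * x * g⁻¹ * (g * y * g⁻¹) by group]
      exact mul_mem hx hy
    | inv x _ hx =>
      rw [show g * x⁻¹ * g⁻¹ = (g * x * g⁻¹)⁻¹ by group]
      exact inv_mem hx
  let ι : Bool → ℕ → G := fun i a => bif i then (ι₂ a : G) else (ι₁ a : G)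
  have m : ∀ i a, bif i then ι₂ a ∈ H₁ ⊔ H₂ else ι₁ a ∈ H₁ ⊔ H₂ := fun i a => by
    cases i
    · exact Subgroup.mem_sup_left (m₁ a)
    · exact Subgroup.mem_sup_right (m₂ a)
  let S : Subgroup ↥(H₁ ⊔ H₂) :=
    (Cfsg.pCore 2 ↥(H₁ ⊔ H₂))
  have hQH : Q ≤ H₁ ⊔ H₂ := hQ ▸ Subgroup.map_subtype_le _
  let P : Pair z :=
    { ι := ι
      hom := fun i a ha b hb => by
        cases i
        · exact congrArg Subtype.val (hom₁ a ha b hb)
        · exact congrArg Subtype.val (hom₂ a ha b hb)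
      inj := fun i a ha b hb h => by
        cases i
        · exact inj₁ a ha b hb (Subtype.ext h)
        · exact inj₂ a ha b hb (Subtype.ext h)
      comm := fun a ha b hb => congrArg Subtype.val (comm a ha b hb).eq
      neg := fun i => by
        cases i
        · exact congrArg Subtype.val neg₁
        · exact congrArg Subtype.val neg₂
      meet := fun a ha b hb h => meet a ha b hb (Subtype.ext h)
      norm := fun g hg i a ha => by
        cases i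
        · obtain ⟨X, hX, Y, hY, e⟩ := prod _ (norm ⟨g, hCm.2 hg⟩ _ (m false a))
          exact ⟨X, hX, Y, hY, congrArg Subtype.val e⟩
        · obtain ⟨X, hX, Y, hY, e⟩ := prod _ (norm ⟨g, hCm.2 hg⟩ _ (m true a))
          exact ⟨X, hX, Y, hY, congrArg Subtype.val e⟩
      self := by
        intro g hg hcomm
        have two : ∀ c ∈ Q, ∃ n : ℕ, c ^ 2 ^ n = 1 := by
          intro c hc
          rw [hQ] at hc
          obtain ⟨c, hc, rfl⟩ := hc
          obtain ⟨n, hn⟩ := Cores.pCore_isPGroup (G := ↥(H₁ ⊔ H₂)) 2 ⟨c, hc⟩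
          exact ⟨n, congrArg (fun w : ↥(Cfsg.pCore 2 ↥(H₁ ⊔ H₂)) => ((w.1 : ↥(H₁ ⊔ H₂)) : C)) hn⟩
        have inQ : ∀ c ∈ Q, ∃ X < 24, ∃ Y < 24,
            q8 X = true ∧ q8 Y = true ∧ c = ι₁ X * ι₂ Y := by
          intro c hc
          obtain ⟨X, hX, Y, hY, rfl⟩ := prod c (hQH hc)
          obtain ⟨n, hn⟩ := two _ hc
          -- the order divides twelve
          have lt4 : ∀ a < 24, tp4 a < 24 := by decide +kernel
          have pm : ∀ U < 24, ∀ V < 24, ∀ U' < 24, ∀ V' < 24,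
              (ι₁ U * ι₂ V) * (ι₁ U' * ι₂ V') = ι₁ (tmul U U') * ι₂ (tmul V V') :=
            fun U hU V hV U' hU' V' hV' => by
              rw [hom₁ U hU U' hU', hom₂ V hV V' hV', (comm U' hU' V hV).symm.mul_mul_mul_comm]
          have h4 : (ι₁ X * ι₂ Y) ^ 4 = ι₁ (tp4 X) * ι₂ (tp4 Y) := by
            rw [show 4 = 2 * 2 from rfl, pow_mul, sq, sq, pm X hX Y hY X hX Y hY,
              pm _ (tmul_lt X hX X hX) _ (tmul_lt Y hY Y hY) _ (tmul_lt X hX X hX) _ (tmul_lt Y hY Y hY)]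
            rfl
          have h12 : (ι₁ X * ι₂ Y) ^ 12 = 1 := by
            rw [show 12 = 4 * 3 from rfl, pow_mul, h4, pow_succ, sq,
              pm _ (lt4 X hX) _ (lt4 Y hY) _ (lt4 X hX) _ (lt4 Y hY),
              pm _ (tmul_lt _ (lt4 X hX) _ (lt4 X hX)) _ (tmul_lt _ (lt4 Y hY) _ (lt4 Y hY)) _
                (lt4 X hX) _ (lt4 Y hY), tp12 X hX, tp12 Y hY, zero₁, zero₂, one_mul]
          have hd : orderOf (ι₁ X * ι₂ Y) ∣ 4 := by
            have h := Nat.dvd_gcd (orderOf_dvd_of_pow_eq_one hn) (orderOf_dvd_of_pow_eq_one h12)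
            exact h.trans (Nat.Coprime.dvd_of_dvd_mul_right
              (Nat.Coprime.coprime_dvd_left (Nat.gcd_dvd_left _ _)
                (Nat.Coprime.pow_left n (by norm_num : Nat.Coprime 2 3)))
              (Nat.gcd_dvd_right (2 ^ n) (4 * 3)))
          rw [orderOf_dvd_iff_pow_eq_one, h4] at hd
          have hm : ι₁ (tp4 X) = ι₂ (tinv (tp4 Y)) := by
            rw [eq_inv_of_mul_eq_one_left hd]
            refine inv_eq_of_mul_eq_one_right ?_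
            rw [← hom₂ _ (lt4 Y hY) _ (tinv_lt _ (lt4 Y hY)), (tmul_tinv _ (lt4 Y hY)).1, zero₂]
          rcases meet _ (lt4 X hX) _ (tinv_lt _ (lt4 Y hY)) hm with e | e
          · rw [e, zero₁, one_mul] at hd
            exact ⟨X, hX, Y, hY, (q8_of_pow X hX Y hY (Or.inl ⟨e,
              inj₂ _ (lt4 Y hY) 0 (by norm_num) (hd.trans zero₂.symm)⟩)).1,
              (q8_of_pow X hX Y hY (Or.inl ⟨e,
              inj₂ _ (lt4 Y hY) 0 (by norm_num) (hd.trans zero₂.symm)⟩)).2, rfl⟩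
          · have e2 : tp4 Y = 12 := by
              refine inj₂ _ (lt4 Y hY) 12 (by norm_num) ?_
              rw [neg₂]
              rw [e, neg₁] at hd
              rw [eq_inv_of_mul_eq_one_right hd]
              exact inv_eq_of_mul_eq_one_right (Subtype.ext hzz)
            exact ⟨X, hX, Y, hY, (q8_of_pow X hX Y hY (Or.inr ⟨e, e2⟩)).1,
              (q8_of_pow X hX Y hY (Or.inr ⟨e, e2⟩)).2, rfl⟩
        have hgQ : (⟨g, hCm.2 hg⟩ : C) ∈ Q := by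
          have hle : centralizer (Q : Set C) ≤ Q := hF ▸ Components.GenFitting.centralizer_le (G := C)
          refine hle (Subgroup.mem_centralizer_iff.2 fun c hc => ?_)
          obtain ⟨X, hX, Y, hY, qX, qY, rfl⟩ := inQ c hc
          refine Subtype.ext ?_
          exact ((hcomm false X hX qX).mul_right (hcomm true Y hY qY)).eq.symm
        obtain ⟨X, hX, Y, hY, qX, qY, e⟩ := inQ _ hgQ
        exact ⟨X, hX, Y, hY, qX, qY, congrArg Subtype.val e⟩ }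
  refine ⟨P, fun v => ⟨fun hv => ?_, fun hv => ?_⟩⟩
  · -- the products of elements of the two `Q₈` form a normal 2-subgroup
    let N : Subgroup ↥(H₁ ⊔ H₂) := P.QG.comap (C.subtype.comp (H₁ ⊔ H₂).subtype)
    haveI : N.Normal := ⟨fun x hx g => Pair.InQ.conj P (hCm.1 g.1.2) hx⟩
    have hN : N ≤ Cfsg.pCore 2 ↥(H₁ ⊔ H₂) := Cores.le_pCore (fun x => ⟨2, by
      apply Subtype.ext; apply Subtype.ext; apply Subtype.ext
      exact Pair.InQ.pow P x.2⟩)
    obtain ⟨X, hX, Y, hY, qX, qY, e⟩ := id hv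
    subst e
    have hmem : ι₁ X * ι₂ Y ∈ H₁ ⊔ H₂ := mul_mem (m false X) (m true Y)
    refine ⟨ι₁ X * ι₂ Y, hQ ▸ ⟨⟨_, hmem⟩, hN (show P.InQ (P.kx X Y) from hv), rfl⟩, rfl⟩
  · obtain ⟨c, hc, rfl⟩ := hv
    obtain ⟨X, hX, Y, hY, rfl⟩ := prod c (hQH hc)
    rw [hQ] at hc
    obtain ⟨c', hc', e⟩ := hc
    obtain ⟨n, hn⟩ := Cores.pCore_isPGroup (G := ↥(H₁ ⊔ H₂)) 2 ⟨c', hc'⟩
    refine P.inQ_of_pow ⟨X, hX, Y, hY, rfl⟩ (n := n) ?_
    rw [← e]
    exact congrArg (fun w : ↥(Cfsg.pCore 2 ↥(H₁ ⊔ H₂)) => (((w.1 : ↥(H₁ ⊔ H₂)) : C) : G)) hn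

end Cfsg.Agent.Lib.U43Type85
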