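import Cfsg.Agent.Lib.U43Type85.Model

/-!
# The coded `SL(2, 3)` and its automorphisms

Owner: helper85.
-/

set_option autoImplicit false

namespace Cfsg.Agent.Lib.U43Type85

open Matrix

/-- `SL(2, 3)`. -/
abbrev SL3 : Type := Matrix.SpecialLinearGroup (Fin 2) (ZMod 3)

/-- The entries of the coded elements. -/
def slEnt : List (ZMod 3 × ZMod 3 × ZMod 3 × ZMod 3) :=
  [(1, 0, 0, 1), (1, 1, 0, 1), (1, 0, 1, 1), (0, 2, 1, 0), (1, 1, 1, 2), (2, 1, 1, 1), (1, 2, 0, 1), (1, 0, 2, 1), (0, 1, 2, 1), (0, 1, 2, 2), (1, 1, 2, 0), (1, 2, 1, 0), (2, 0, 0, 2), (2, 2, 0, 2), (2, 0, 2, 2), (0, 1, 2, 0), (2, 2, 2, 1), (1, 2, 2, 2), (2, 1, 0, 2), (2, 0, 1, 2), (0, 2, 1, 2), (0, 2, 1, 1), (2, 2, 1, 0), (2, 1, 2, 0)]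

/-- The element with a code. -/
def slE (a : ℕ) : SL3 :=
  let e := slEnt.getD a (1, 0, 0, 1)
  if h : e.1 * e.2.2.2 - e.2.1 * e.2.2.1 = 1 then
    ⟨!![e.1, e.2.1; e.2.2.1, e.2.2.2], by rw [Matrix.det_fin_two_of]; exact h⟩
  else 1

theorem slE_mul : ∀ a < 24, ∀ b < 24, slE (tmul a b) = slE a * slE b := by decide +kernel

theorem slE_inj : ∀ a < 24, ∀ b < 24, slE a = slE b → a = b := by decide +kernel

theorem slE_surj : ∀ M : SL3, ∃ a < 24, slE a = M := by decide +kernel

theorem slE_zero : slE 0 = 1 := by decide +kernel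

theorem slE_neg : ∀ M : SL3, M * M = 1 → M = 1 ∨ M = slE 12 := by decide +kernel

theorem tmul_lt : ∀ a < 24, ∀ b < 24, tmul a b < 24 := by decide +kernel

theorem tinv_lt : ∀ a < 24, tinv a < 24 := by decide +kernel

theorem tdel_lt : ∀ a < 24, tdel a < 24 := by decide +kernel

theorem tneg_eq : ∀ a < 24, tneg a = tmul 12 a ∧ tneg a = tmul a 12 := by decide +kernel

theorem tmul_tinv : ∀ a < 24, tmul a (tinv a) = 0 ∧ tmul (tinv a) a = 0 := by decide +kernel

theorem tmul_zero : ∀ a < 24, tmul a 0 = a ∧ tmul 0 a = a := by decide +kernel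

theorem tmul_assoc : ∀ a < 24, ∀ b < 24, ∀ c < 24, tmul (tmul a b) c = tmul a (tmul b c) := by
  decide +kernel

theorem tdel_mul : ∀ a < 24, ∀ b < 24, tdel (tmul a b) = tmul (tdel a) (tdel b) := by decide +kernel

theorem tdel_tdel : ∀ a < 24, tdel (tdel a) = a := by decide +kernel

/-- A product of at most six of the two generators. -/
def gen6 : ℕ → List ℕ
  | 0 => [0]
  | n + 1 => (gen6 n).flatMap fun a => [a, tmul a 1, tmul a 2]

theorem gen6_all : ∀ a < 24, a ∈ gen6 6 := by decide +kernel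

/-- Two maps multiplicative on the codes agree as soon as they agree on the generators. -/
theorem ext_gen {M : Type*} [Monoid M] {p q : ℕ → M}
    (hp : ∀ a < 24, ∀ b < 24, p (tmul a b) = p a * p b)
    (hq : ∀ a < 24, ∀ b < 24, q (tmul a b) = q a * q b)
    (h0 : p 0 = q 0) (h1 : p 1 = q 1) (h2 : p 2 = q 2) : ∀ a < 24, p a = q a := by
  have key : ∀ n, ∀ a ∈ gen6 n, a < 24 ∧ p a = q a := by
    intro n
    induction n with
    | zero => simpa [gen6] using h0
    | succ n ih =>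
      intro a ha
      simp only [gen6, List.mem_flatMap, List.mem_cons, List.not_mem_nil, or_false] at ha
      obtain ⟨b, hb, rfl | rfl | rfl⟩ := ha
      · exact ih _ hb
      · exact ⟨tmul_lt _ (ih _ hb).1 1 (by norm_num),
          by rw [hp _ (ih _ hb).1 1 (by norm_num), hq _ (ih _ hb).1 1 (by norm_num), (ih _ hb).2, h1]⟩
      · exact ⟨tmul_lt _ (ih _ hb).1 2 (by norm_num),
          by rw [hp _ (ih _ hb).1 2 (by norm_num), hq _ (ih _ hb).1 2 (by norm_num), (ih _ hb).2, h2]⟩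
  exact fun a ha => (key 6 a (gen6_all a ha)).2

/-- Inner automorphism by `k` after `δ^e`. -/
def autc (k : ℕ) (e : Bool) (a : ℕ) : ℕ := tmul (tmul k (bif e then tdel a else a)) (tinv k)

theorem autc_mul : ∀ k < 24, ∀ a < 24, ∀ b < 24,
    autc k false (tmul a b) = tmul (autc k false a) (autc k false b) ∧
      autc k true (tmul a b) = tmul (autc k true a) (autc k true b) := by decide +kernel

theorem autc_facts : ∀ k < 24, ∀ a < 24,
    (autc k false a < 24 ∧ autc k false 0 = 0 ∧ q8 (autc k false a) = q8 a) ∧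
      (autc k true a < 24 ∧ autc k true 0 = 0 ∧ q8 (autc k true a) = q8 a) := by decide +kernel

/-- The images of the generators come from an `autc`. -/
def pairOK (u v : ℕ) : Bool :=
  (List.range 24).any fun k =>
    (Nat.beq (autc k false 1) u && Nat.beq (autc k false 2) v) ||
      (Nat.beq (autc k true 1) u && Nat.beq (autc k true 2) v)

/-- The images of the generators under an automorphism. -/
def pairHyp (u v : ℕ) : Bool :=
  Nat.beq (tmul (tmul u u) u) 0 && !Nat.beq u 0 && Nat.beq (tmul (tmul v v) v) 0 && !Nat.beq v 0 &&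
    Nat.beq (tmul (tmul u v) (tmul u v)) 12

theorem pair_check : ∀ u < 24, ∀ v < 24, pairHyp u v = true → pairOK u v = true := by decide +kernel

theorem aut_pairs {u v : ℕ} (hu : u < 24) (hv : v < 24)
    (h : tmul (tmul u u) u = 0 ∧ u ≠ 0 ∧ tmul (tmul v v) v = 0 ∧ v ≠ 0 ∧
      tmul (tmul u v) (tmul u v) = 12) :
    ∃ k < 24, (autc k false 1 = u ∧ autc k false 2 = v) ∨ (autc k true 1 = u ∧ autc k true 2 = v) := by
  have ne : ∀ a, a ≠ 0 → Nat.beq a 0 = false := fun a ha =>
    Bool.eq_false_iff.2 fun e => ha (Nat.eq_of_beq_eq_true e)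
  have := pair_check u hu v hv (by simp [pairHyp, h, ne u h.2.1, ne v h.2.2.2.1])
  simpa [pairOK, List.any_eq_true] using this

/-- An injective endomorphism of the coded group is inner after a power of `δ`. -/
theorem exists_autc {p : ℕ → ℕ} (hlt : ∀ a < 24, p a < 24)
    (hmul : ∀ a < 24, ∀ b < 24, p (tmul a b) = tmul (p a) (p b))
    (hinj : ∀ a < 24, ∀ b < 24, p a = p b → a = b) :
    ∃ k < 24, ∃ e : Bool, ∀ a < 24, p a = autc k e a := by
  have idem : ∀ a < 24, tmul a a = a → a = 0 := by decide +kernel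
  have h0 : p 0 = 0 :=
    idem _ (hlt 0 (by norm_num)) ((hmul 0 (by norm_num) 0 (by norm_num)).symm.trans
      (congrArg p (by decide +kernel)))
  have ne : ∀ a < 24, a ≠ 0 → p a ≠ 0 := fun a ha hne h =>
    hne (hinj a ha 0 (by norm_num) (h.trans h0.symm))
  have inv12 : ∀ a < 24, tmul a a = 0 → a ≠ 0 → a = 12 := by decide +kernel
  have h12 : p 12 = 12 := inv12 _ (hlt 12 (by norm_num))
    (((hmul 12 (by norm_num) 12 (by norm_num)).symm.trans (congrArg p (by decide +kernel))).trans h0)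
    (ne 12 (by norm_num) (by norm_num))
  have cube : ∀ a < 24, tmul (tmul a a) a = 0 → tmul (tmul (p a) (p a)) (p a) = 0 := fun a ha h => by
    rw [← hmul a ha a ha, ← hmul _ (tmul_lt a ha a ha) a ha, h, h0]
  have hw : tmul (tmul (p 1) (p 2)) (tmul (p 1) (p 2)) = 12 := by
    rw [← hmul 1 (by norm_num) 2 (by norm_num),
      ← hmul _ (tmul_lt 1 (by norm_num) 2 (by norm_num)) _ (tmul_lt 1 (by norm_num) 2 (by norm_num))]
    exact (congrArg p (by decide +kernel)).trans h12
  obtain ⟨k, hk, ⟨e1, e2⟩ | ⟨e1, e2⟩⟩ := aut_pairs (hlt 1 (by norm_num)) (hlt 2 (by norm_num))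
    ⟨cube 1 (by norm_num) (by decide +kernel), ne 1 (by norm_num) (by norm_num),
      cube 2 (by norm_num) (by decide +kernel), ne 2 (by norm_num) (by norm_num), hw⟩
  all_goals
    refine ⟨k, hk, ?_⟩
  · refine ⟨false, fun a ha => slE_inj _ (hlt a ha) _ (autc_facts k hk a ha).1.1
      (ext_gen (p := fun a => slE (p a)) (q := fun a => slE (autc k false a)) ?_ ?_ ?_ ?_ ?_ a ha)⟩
    · exact fun a ha b hb => by rw [hmul a ha b hb, slE_mul _ (hlt a ha) _ (hlt b hb)]
    · exact fun a ha b hb => by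
        rw [(autc_mul k hk a ha b hb).1,
          slE_mul _ (autc_facts k hk a ha).1.1 _ (autc_facts k hk b hb).1.1]
    · rw [h0, (autc_facts k hk 0 (by norm_num)).1.2.1]
    · rw [e1]
    · rw [e2]
  · refine ⟨true, fun a ha => slE_inj _ (hlt a ha) _ (autc_facts k hk a ha).2.1
      (ext_gen (p := fun a => slE (p a)) (q := fun a => slE (autc k true a)) ?_ ?_ ?_ ?_ ?_ a ha)⟩
    · exact fun a ha b hb => by rw [hmul a ha b hb, slE_mul _ (hlt a ha) _ (hlt b hb)]
    · exact fun a ha b hb => by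
        rw [(autc_mul k hk a ha b hb).2,
          slE_mul _ (autc_facts k hk a ha).2.1 _ (autc_facts k hk b hb).2.1]
    · rw [h0, (autc_facts k hk 0 (by norm_num)).2.2.1]
    · rw [e1]
    · rw [e2]

end Cfsg.Agent.Lib.U43Type85
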