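import Cfsg.Agent.Lib.U43Type85.Frame

/-!
# U4(3) type: the coded centraliser with an exchange of `z` and `x`

Owner: helper85.
-/

set_option autoImplicit false

namespace Cfsg.Agent.Lib.U43Type85

open Subgroup

variable {G : Type*} [Group G] {z : G}

/-- The coded centraliser, a conjugate `x = f 75` of `z` in `Q` and an element exchanging them. -/
structure Setup (z : G) where
  f : ℕ → G
  f_mul : ∀ m < 1152, ∀ n < 1152, f (mul m n) = f m * f n
  f_inj : ∀ m < 1152, ∀ n < 1152, f m = f n → m = n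
  f_comm : ∀ n, Commute (f n) z
  f_surj : ∀ g, Commute g z → ∃ n < 1152, f n = g
  f_z : f 12 = z
  sw : G
  sw_z : sw * z * sw⁻¹ = f 75
  sw_x : sw * f 75 * sw⁻¹ = z
  out : ∀ d, d = 2 ∨ d = 3 → ∃ s, (s = 100 ∨ s = 101) ∧
    ∃ w < 1152, isInv w = true ∧ cD w = d ∧ f w = sw * f s * sw⁻¹

namespace Frame

variable (F : Frame z)

theorem f_low {n : ℕ} (hn : n < 288) : F.f n = F.P.kx (cX n) (cY n) := by
  have h : cG n = false ∧ cS n = false := by
    have : n / 288 = 0 := Nat.div_eq_of_lt hn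
    simp [cG, cS, cD, this, beq_false (show (0 : ℕ) ≠ 1 from Nat.zero_ne_one)]
  rw [f, h.1, h.2]
  simp [r, pw]

theorem f_inQ {n : ℕ} (hn : inQc n = true) : F.P.InQ (F.f n) := by
  simp only [inQc, Bool.and_eq_true, Nat.blt_eq] at hn
  exact ⟨cX n, cX_lt n, cY n, cY_lt n, hn.1.2, hn.2, F.f_low hn.1.1⟩

theorem inQc_of {n : ℕ} (hn : n < 1152) (h : F.P.InQ (F.f n)) : inQc n = true := by
  obtain ⟨X, hX, Y, hY, qX, qY, e⟩ := h
  have h2 : F.f (enc X Y 0) = F.f n := by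
    rw [F.f_enc hX hY (Nat.zero_lt_succ _), e]
    simp [r, pw, beq_false (show (0 : ℕ) ≠ 1 from Nat.zero_ne_one)]
  have key : ∀ X < 24, ∀ Y < 24, enc X Y 0 < 1152 ∧
      (q8 X = true → q8 Y = true → inQc (enc X Y 0) = true) := by
    decide +kernel
  rw [← F.f_inj (key X hX Y hY).1 hn h2]
  exact (key X hX Y hY).2 qX qY

theorem codes : F.f 0 = 1 ∧ F.f 12 = z ∧ F.f 75 = F.P.kx 3 3 ∧ F.f 87 = z * F.P.kx 3 3 := by
  have e : ∀ X < 24, ∀ Y < 24, ∀ n < 288, enc X Y 0 = n → F.f n = F.P.kx X Y := by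
    intro X hX Y hY n hn h
    rw [← h, F.f_enc hX hY (Nat.zero_lt_succ _)]
    simp [r, pw, beq_false (show (0 : ℕ) ≠ 1 from Nat.zero_ne_one)]
  refine ⟨?_, ?_, ?_, ?_⟩
  · rw [e 0 (by norm_num) 0 (by norm_num) 0 (by norm_num) (by decide +kernel), F.P.kx_zero]
  · exact (e 12 (by norm_num) 0 (by norm_num) 12 (by norm_num) (by decide +kernel)).trans F.P.kx_z
  · exact e 3 (by norm_num) 3 (by norm_num) 75 (by norm_num) (by decide +kernel)
  · rw [F.P.z_mul_x]
    exact e _ (tmul_lt 12 (by norm_num) 3 (by norm_num)) _ (tmul_lt 0 (by norm_num) 3 (by norm_num)) 87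
      (by norm_num) (by decide +kernel)

theorem mulB_lt {m n : ℕ} (g2 s2 cm : Bool) (hm : m < 1152) (hn : n < 1152) :
    mulB g2 s2 cm m n < 1152 := by
  have key : ∀ X < 24, ∀ Y < 24, ∀ d < 4, enc X Y d < 1152 := by decide +kernel
  have xk : ∀ d < 4, ∀ e < 4, d ^^^ e < 4 := by decide +kernel
  have hd : cD m < 4 ∧ cD n < 4 := by constructor <;> (unfold cD; omega)
  have hs : ∀ b : Bool, ∀ U < 24, ∀ V < 24, (bif b then U else V) < 24 := fun b U hU V hV => by
    cases b <;> assumption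
  have h1 := hs (cS m) _ (cY_lt n) _ (cX_lt n)
  have h2 := hs (cS m) _ (cX_lt n) _ (cY_lt n)
  have h3 := hs (cG m) _ (tdel_lt _ h1) _ h1
  have h4 := hs (cG m) _ (tdel_lt _ h2) _ h2
  have h5 := tmul_lt _ (cY_lt m) _ h4
  refine key _ (tmul_lt _ (cX_lt m) _ h3) _ (hs _ _ ?_ _ h5) _ (xk _ hd.1 _ hd.2)
  rw [(tneg_eq _ h5).1]
  exact tmul_lt 12 (by norm_num) _ h5

theorem code_iff {n : ℕ} (hn : n < 1152) {k : ℕ} (hk : k < 1152) (g : G) (e : F.f k = g) :
    F.f n = g ↔ n = k := ⟨fun h => F.f_inj hn hk (h.trans e.symm), fun h => h ▸ e⟩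

include F in
/-- The exchange forces the bits. -/
theorem exists_setup [Finite G] : Nonempty (Setup z) := by
  obtain ⟨g, hg⟩ := F.P.exists_norm75 F.hyp
  have hx := F.P.x_facts
  obtain ⟨c0, c12, c75, c87⟩ := F.codes
  -- an element exchanging `z` and `x`
  obtain ⟨u, hu, v, hv, qu, qv, ec⟩ := Pair.z_back hg F.hyp
  have hzz : (g⁻¹ * z * g) * (g⁻¹ * z * g) = 1 := by
    rw [show g⁻¹ * z * g * (g⁻¹ * z * g) = g⁻¹ * (z * z) * g by group, F.P.z_sq, mul_one, inv_mul_cancel]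
  have back : ∀ a, g⁻¹ * z * g = a → z = g * a * g⁻¹ := fun a h => by rw [← h]; group
  have hqi : isQI u v = true := F.P.isQI_of hu hv (ec ▸ hzz)
    (fun e => F.P.z_ne (by simpa using back _ (ec.trans e)))
    (fun e => hx.2.2.1 ((back _ (ec.trans e)).trans hg).symm)
  have hc := all_l8 (all_l8 from_x_check hu qu) hv qv
  simp only [hqi, Bool.not_true, Bool.false_or] at hc
  obtain ⟨k, hk, hc⟩ := any_range hc
  obtain ⟨l, hl, hc⟩ := any_range hc
  have h3 : (3 : ℕ) < 24 := by norm_num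
  have hconj : F.P.kx k l * F.P.kx 3 3 * (F.P.kx k l)⁻¹ = g⁻¹ * z * g := by
    rw [F.P.kx_conj hk hl h3 h3, ec]
    exact F.P.kx_eq_of_enc (autc_lt false hk h3) (autc_lt false hl h3) hu hv (Nat.eq_of_beq_eq_true hc)
  have hkz : Commute (F.P.kx k l) z := F.P.kx_commute_z hk hl
  obtain ⟨n, hn⟩ : ∃ n, n = g * F.P.kx k l := ⟨_, rfl⟩
  have nz : n * z * n⁻¹ = F.P.kx 3 3 := by
    rw [hn, show g * F.P.kx k l * z * (g * F.P.kx k l)⁻¹ =
      g * (F.P.kx k l * z * (F.P.kx k l)⁻¹) * g⁻¹ by group, hkz.eq, mul_inv_cancel_right]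
    exact hg
  have nx : n * F.P.kx 3 3 * n⁻¹ = z := by
    rw [hn, show g * F.P.kx k l * F.P.kx 3 3 * (g * F.P.kx k l)⁻¹ =
      g * (F.P.kx k l * F.P.kx 3 3 * (F.P.kx k l)⁻¹) * g⁻¹ by group, hconj]
    group
  have hnN : F.P.Norm75 n := nz
  have hxb : n⁻¹ * F.P.kx 3 3 * n = z := Pair.x_back hnN
  -- its square fixes `z` and `x`
  have h2z : Commute (n * n) z := by
    refine mul_inv_eq_iff_eq_mul.1 ?_
    rw [show n * n * z * (n * n)⁻¹ = n * (n * z * n⁻¹) * n⁻¹ by group, nz, nx]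
  have zb : n⁻¹ * z * n = F.P.kx 3 3 :=
    calc n⁻¹ * z * n = n⁻¹ * (n * F.P.kx 3 3 * n⁻¹) * n := by rw [nx]
      _ = F.P.kx 3 3 := by group
  have lt4 : ∀ e ∈ [0, 12, 75, 87], e < 1152 := by decide
  have h2x : Commute (n * n) (F.P.kx 3 3) := by
    refine mul_inv_eq_iff_eq_mul.1 ?_
    rw [show n * n * F.P.kx 3 3 * (n * n)⁻¹ = n * (n * F.P.kx 3 3 * n⁻¹) * n⁻¹ by group, nx, nz]
  obtain ⟨hh, hhn, hhf⟩ := F.f_surj h2z
  -- the two involutions of `C_Q(x)` and their images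
  have sfacts : ∀ s, s = 100 ∨ s = 101 → s < 1152 ∧ inQc s = true ∧
      Commute (F.f s) (F.f 75) ∧ F.f s * F.f s = 1 ∧
        (inE0 s = false) := by
    intro s hs
    have key : ∀ g2 s2 cm : Bool, mulB g2 s2 cm 100 75 = mulB g2 s2 cm 75 100 ∧
        mulB g2 s2 cm 101 75 = mulB g2 s2 cm 75 101 ∧ mulB g2 s2 cm 100 100 = 0 ∧
        mulB g2 s2 cm 101 101 = 0 := by decide +kernel
    have := key F.g2 F.s2 F.cm
    rcases hs with rfl | rfl
    · refine ⟨by norm_num, by decide +kernel, ?_, ?_, by decide +kernel⟩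
      · show _ * _ = _ * _
        rw [← F.f_mul (by norm_num) (by norm_num), ← F.f_mul (by norm_num) (by norm_num), this.1]
      · rw [← F.f_mul (by norm_num) (by norm_num), this.2.2.1, c0]
    · refine ⟨by norm_num, by decide +kernel, ?_, ?_, by decide +kernel⟩
      · show _ * _ = _ * _
        rw [← F.f_mul (by norm_num) (by norm_num), ← F.f_mul (by norm_num) (by norm_num), this.2.1]
      · rw [← F.f_mul (by norm_num) (by norm_num), this.2.2.2, c0]
  have img : ∀ t, inQc t = true → t < 1152 → Commute (F.f t) (F.f 75) → inE0 t = false →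
      ∃ a < 1152, F.f a = n * F.f t * n⁻¹ ∧ Nat.beq (mulB F.g2 F.s2 F.cm a 75) (mulB F.g2 F.s2 F.cm 75 a) = true ∧
        inQc a = false := by
    intro t ht htn htx ht0
    have hq := F.f_inQ ht
    rw [c75] at htx
    have haz : Commute (n * F.f t * n⁻¹) z := by
      have := htx.map (MulAut.conj n)
      simp only [MulAut.conj_apply] at this
      rwa [nx] at this
    have hax : Commute (n * F.f t * n⁻¹) (F.P.kx 3 3) :=
      Pair.commute_x_of hnN (by simpa [mul_assoc] using Pair.InQ.commute_z F.P hq)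
    obtain ⟨a, ha, ea⟩ := F.f_surj haz
    refine ⟨a, ha, ea, ?_, ?_⟩
    · refine beq_true (F.f_inj (mulB_lt _ _ _ ha (by norm_num)) (mulB_lt _ _ _ (by norm_num) ha) ?_)
      rw [F.f_mul ha (by norm_num), F.f_mul (by norm_num) ha, c75, ea]
      exact hax.eq
    · refine Bool.eq_false_iff.2 fun haQ => ?_
      have hback : n⁻¹ * (n * F.f t * n⁻¹) * n = F.f t := by group
      have h := Pair.inter_eq hnN F.hyp (v := n * F.f t * n⁻¹) (ea ▸ F.f_inQ haQ) (hback.symm ▸ hq)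
      have key : ∀ e, e ∈ [0, 12, 75, 87] → inE0 e = true := by decide +kernel
      have fin : ∀ e ∈ [0, 12, 75, 87], F.f t = F.f e → False := fun e he h' => by
        have he' := lt4 e he
        have := key e he
        rw [← F.f_inj htn he' h', ht0] at this
        exact Bool.noConfusion this
      rcases h with h | h | h | h <;> rw [h] at hback
      · exact fin 0 (by simp) (by rw [c0, ← hback]; group)
      · refine fin 75 (by simp) ?_
        rw [c75, ← hback, zb]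
      · refine fin 12 (by simp) ?_
        rw [c12, ← hback, hxb]
      · refine fin 87 (by simp) ?_
        rw [c87, ← hback, show n⁻¹ * (z * F.P.kx 3 3) * n = (n⁻¹ * z * n) * (n⁻¹ * F.P.kx 3 3 * n) by group,
          hxb, zb]
        exact hx.2.2.2.2.eq
  obtain ⟨a, ha, ea, eax, aQ⟩ := img 100 (sfacts 100 (.inl rfl)).2.1 (by norm_num) (sfacts 100 (.inl rfl)).2.2.1 (sfacts 100 (.inl rfl)).2.2.2.2
  obtain ⟨b, hb, eb, ebx, bQ⟩ := img 101 (sfacts 101 (.inr rfl)).2.1 (by norm_num) (sfacts 101 (.inr rfl)).2.2.1 (sfacts 101 (.inr rfl)).2.2.2.2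
  -- the product of the images
  have hab : inQc (mulB F.g2 F.s2 F.cm a b) = false := by
    have ht : ∀ g2 s2 cm : Bool, inQc (mulB g2 s2 cm 100 101) = true ∧
        inE0 (mulB g2 s2 cm 100 101) = false ∧
        mulB g2 s2 cm (mulB g2 s2 cm 100 101) 75 = mulB g2 s2 cm 75 (mulB g2 s2 cm 100 101) := by
      decide +kernel
    obtain ⟨t1, t2, t3⟩ := ht F.g2 F.s2 F.cm
    have hlt := mulB_lt F.g2 F.s2 F.cm (m := 100) (n := 101) (by norm_num) (by norm_num)
    obtain ⟨p, hp, ep, -, pQ⟩ := img _ t1 hlt (by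
      show _ * _ = _ * _
      rw [← F.f_mul hlt (by norm_num), ← F.f_mul (by norm_num) hlt, t3]) t2
    have : mulB F.g2 F.s2 F.cm a b = p := by
      refine F.f_inj (mulB_lt _ _ _ ha hb) hp ?_
      rw [ep, F.f_mul ha hb, ea, eb, F.f_mul (by norm_num) (by norm_num)]; group
    rw [this]; exact pQ
  have sqp_f : ∀ i j, i < 1152 → j < 1152 →
      F.f (sqp F.g2 F.s2 F.cm i j) = (F.f i * F.f j) * (F.f i * F.f j) := fun i j hi hj => by
    rw [sqp, F.f_mul (mulB_lt _ _ _ hi hj) (mulB_lt _ _ _ hi hj), F.f_mul hi hj]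
  have sqp_lt : ∀ i j, i < 1152 → j < 1152 → sqp F.g2 F.s2 F.cm i j < 1152 := fun i j hi hj =>
    mulB_lt _ _ _ (mulB_lt _ _ _ hi hj) (mulB_lt _ _ _ hi hj)
  have hab2 : Nat.beq (sqp F.g2 F.s2 F.cm a b) 75 = true := by
    have ht : ∀ g2 s2 cm : Bool, sqp g2 s2 cm 100 101 = 12 := by decide +kernel
    refine beq_true (F.f_inj (sqp_lt a b ha hb) (by norm_num) ?_)
    rw [sqp_f a b ha hb, ea, eb,
      show n * F.f 100 * n⁻¹ * (n * F.f 101 * n⁻¹) * (n * F.f 100 * n⁻¹ * (n * F.f 101 * n⁻¹)) =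
        n * (F.f 100 * F.f 101 * (F.f 100 * F.f 101)) * n⁻¹ by group,
      ← sqp_f 100 101 (by norm_num) (by norm_num), ht, c12, c75, nz]
  -- commutators lie in `{1, z, x, z x}`
  have memE : ∀ s, s = 100 ∨ s = 101 → ∀ t, t = 100 ∨ t = 101 → ∀ c < 1152, F.f c = n * F.f t * n⁻¹ →
      inE0 (sqp F.g2 F.s2 F.cm s c) = true ∧ inE0 (sqp F.g2 F.s2 F.cm c s) = true := by
    intro s hs t ht c hc ec'
    obtain ⟨hs1, hs2, hs3, hs4, -⟩ := sfacts s hs
    obtain ⟨ht1, ht2, ht3, ht4, -⟩ := sfacts t ht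
    have hcz : Commute (F.f c) z := F.f_commute_z c
    have hcQ : F.P.InQ (n⁻¹ * F.f c * n) := by
      rw [ec', show n⁻¹ * (n * F.f t * n⁻¹) * n = F.f t by group]; exact F.f_inQ ht2
    have hsx : Commute (F.f s) (F.P.kx 3 3) := c75 ▸ hs3
    have h := Pair.com_mem hnN F.hyp hcz hcQ (F.f_inQ hs2) hsx
    have hci : (F.f c)⁻¹ = F.f c := by
      refine inv_eq_of_mul_eq_one_right ?_
      rw [ec', show n * F.f t * n⁻¹ * (n * F.f t * n⁻¹) = n * (F.f t * F.f t) * n⁻¹ by group, ht4, mul_one,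
        mul_inv_cancel]
    have hsi : (F.f s)⁻¹ = F.f s := inv_eq_of_mul_eq_one_right hs4
    rw [hci, hsi, mul_assoc (F.f c * F.f s)] at h
    have conv : ∀ e < 1152, (F.f e = 1 ∨ F.f e = z ∨ F.f e = F.P.kx 3 3 ∨ F.f e = z * F.P.kx 3 3) →
        inE0 e = true := by
      intro e he h
      rcases h with h | h | h | h
      · rw [(F.code_iff he (by norm_num) _ c0).1 h]; rfl
      · rw [(F.code_iff he (by norm_num) _ c12).1 h]; rfl
      · rw [(F.code_iff he (by norm_num) _ c75).1 h]; rfl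
      · rw [(F.code_iff he (by norm_num) _ c87).1 h]; rfl
    constructor
    · refine conv _ (sqp_lt s c hs1 hc) ?_
      rw [sqp_f s c hs1 hc]
      have e : F.f s * F.f c * (F.f s * F.f c) = ((F.f c * F.f s) * (F.f c * F.f s))⁻¹ := by
        rw [mul_inv_rev, mul_inv_rev, hci, hsi]
      have hzi : z⁻¹ = z := inv_eq_of_mul_eq_one_right F.P.z_sq
      have hxi : (F.P.kx 3 3)⁻¹ = F.P.kx 3 3 := inv_eq_of_mul_eq_one_right hx.1
      rw [e]
      rcases h with h | h | h | h <;> rw [h]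
      · exact Or.inl inv_one
      · exact Or.inr (Or.inl hzi)
      · exact Or.inr (Or.inr (Or.inl hxi))
      · exact Or.inr (Or.inr (Or.inr (by rw [mul_inv_rev, hzi, hxi]; exact hx.2.2.2.2.eq)))
    · exact conv _ (sqp_lt c s hc hs1) (by rw [sqp_f c s hc hs1]; exact h)
  -- the exchange condition
  have swap : ∀ i, i = 100 ∨ i = 101 → ∀ j, j = 100 ∨ j = 101 → ∀ c < 1152, F.f c = n * F.f i * n⁻¹ →
      ∀ d < 1152, F.f d = n * F.f j * n⁻¹ →
        Nat.beq (swE (sqp F.g2 F.s2 F.cm i d)) (sqp F.g2 F.s2 F.cm c j) = true := by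
    intro i hi j hj c hc ec' d hd ed
    obtain ⟨hi1, hi2, hi3, hi4, -⟩ := sfacts i hi
    obtain ⟨hj1, hj2, hj3, hj4, -⟩ := sfacts j hj
    obtain ⟨eI, -⟩ := memE i hi j hj d hd ed
    have htr := all_range (all_bool (all_bool (all_bool triv_check F.g2) F.s2) F.cm) hhn
    have hh75 : mulB F.g2 F.s2 F.cm hh 75 = mulB F.g2 F.s2 F.cm 75 hh := by
      refine F.f_inj (mulB_lt _ _ _ hhn (by norm_num)) (mulB_lt _ _ _ (by norm_num) hhn) ?_
      rw [F.f_mul hhn (by norm_num), F.f_mul (by norm_num) hhn, c75, hhf]; exact h2x.eq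
    rw [beq_true hh75] at htr
    simp only [Bool.not_true, Bool.false_or] at htr
    have htj := List.all_eq_true.1 htr j (by rcases hj with rfl | rfl <;> simp)
    obtain ⟨e, he, heq⟩ := List.any_eq_true.1 htj
    have he' := lt4 e he
    have hje : n * n * F.f j = F.f j * F.f e * (n * n) := by
      rw [← hhf, ← F.f_mul hhn hj1, ← F.f_mul hj1 he',
        ← F.f_mul (mulB_lt _ _ _ hj1 he') hhn, Nat.eq_of_beq_eq_true heq]
    have hcx : Commute (F.f c) (F.P.kx 3 3) :=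
      Pair.commute_x_of hnN (by rw [ec', show n⁻¹ * (n * F.f i * n⁻¹) * n = F.f i by group];
                                exact Pair.InQ.commute_z F.P (F.f_inQ hi2))
    have hcen : F.f e * F.f e = 1 ∧ Commute (F.f e) (F.f c) ∧ Commute (F.f e) (F.f j) := by
      have hjx : Commute (F.f j) (F.P.kx 3 3) := c75 ▸ hj3
      have hzc : Commute z (F.f c) := (F.f_commute_z c).symm
      have hzj : Commute z (F.f j) := (F.f_commute_z j).symm
      simp only [List.mem_cons, List.not_mem_nil, or_false] at he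
      rcases he with rfl | rfl | rfl | rfl
      · rw [c0]; exact ⟨one_mul 1, Commute.one_left _, Commute.one_left _⟩
      · rw [c12]; exact ⟨F.P.z_sq, hzc, hzj⟩
      · rw [c75]; exact ⟨hx.1, hcx.symm, hjx.symm⟩
      · rw [c87]
        exact ⟨by rw [mul_assoc, ← mul_assoc (F.P.kx 3 3) z, hx.2.2.2.2.eq, mul_assoc, hx.1, mul_one, F.P.z_sq],
          hzc.mul_left hcx.symm, hzj.mul_left hjx.symm⟩
    -- conjugate the commutator
    have lhs : n * F.f (sqp F.g2 F.s2 F.cm i d) * n⁻¹ = F.f (sqp F.g2 F.s2 F.cm c j) := by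
      rw [sqp_f i d hi1 hd, sqp_f c j hc hj1, ed]
      have hdd : n * (n * F.f j * n⁻¹) * n⁻¹ = F.f j * F.f e := by
        rw [show n * (n * F.f j * n⁻¹) * n⁻¹ = n * n * F.f j * (n * n)⁻¹ by group, hje, mul_inv_cancel_right]
      rw [show n * (F.f i * (n * F.f j * n⁻¹) * (F.f i * (n * F.f j * n⁻¹))) * n⁻¹ =
        (n * F.f i * n⁻¹) * (n * (n * F.f j * n⁻¹) * n⁻¹) *
          ((n * F.f i * n⁻¹) * (n * (n * F.f j * n⁻¹) * n⁻¹)) by group, hdd, ← ec', ← mul_assoc (F.f c)]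
      have hw : Commute (F.f c * F.f j) (F.f e) := (hcen.2.1.mul_right hcen.2.2).symm
      rw [hw.symm.mul_mul_mul_comm, hcen.1, mul_one]
    have hsw : F.f (swE (sqp F.g2 F.s2 F.cm i d)) = n * F.f (sqp F.g2 F.s2 F.cm i d) * n⁻¹ := by
      simp only [inE0, Bool.or_eq_true] at eI
      rcases eI with ((h | h) | h) | h <;> rw [Nat.eq_of_beq_eq_true h]
      · rw [show swE 0 = 0 from rfl, c0, mul_one, mul_inv_cancel]
      · rw [show swE 12 = 75 from rfl, c12, c75, nz]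
      · rw [show swE 75 = 12 from rfl, c12, c75, nx]
      · rw [show swE 87 = 87 from rfl, c87, show n * (z * F.P.kx 3 3) * n⁻¹ =
          (n * z * n⁻¹) * (n * F.P.kx 3 3 * n⁻¹) by group, nz, nx]
        exact hx.2.2.2.2.eq.symm
    refine beq_true (F.f_inj ?_ (sqp_lt c j hc hj1) (hsw.trans lhs))
    have : ∀ e, swE e = e ∨ swE e = 75 ∨ swE e = 12 := fun e => by
      unfold swE
      cases Nat.beq e 12
      · cases Nat.beq e 75
        · exact Or.inl rfl
        · exact Or.inr (Or.inr rfl)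
      · exact Or.inr (Or.inl rfl)
    rcases this (sqp F.g2 F.s2 F.cm i d) with h | h | h <;> rw [h]
    · exact sqp_lt i d hi1 hd
    · norm_num
    · norm_num
  have sqInv : ∀ t, t = 100 ∨ t = 101 → ∀ c < 1152, F.f c = n * F.f t * n⁻¹ →
      mulB F.g2 F.s2 F.cm c c = 0 := by
    intro t ht c hc ec'
    refine F.f_inj (mulB_lt _ _ _ hc hc) (by norm_num) ?_
    rw [F.f_mul hc hc, c0, ec', show n * F.f t * n⁻¹ * (n * F.f t * n⁻¹) = n * (F.f t * F.f t) * n⁻¹ by group,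
      (sfacts t ht).2.2.2.1, mul_one, mul_inv_cancel]
  have hcand : ∀ t, (t = 100 ∨ t = 101) → ∀ c < 1152, F.f c = n * F.f t * n⁻¹ →
      Nat.beq (mulB F.g2 F.s2 F.cm c 75) (mulB F.g2 F.s2 F.cm 75 c) = true → inQc c = false →
      c ∈ (List.range 1152).filter (candB F.g2 F.s2 F.cm) := by
    intro t ht c hc ec' hx' hQ'
    rw [List.mem_filter, List.mem_range]
    refine ⟨hc, ?_⟩
    simp only [candB, hx', beq_true (sqInv t ht c hc ec'), hQ', (memE 100 (.inl rfl) t ht c hc ec').1,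
      (memE 101 (.inr rfl) t ht c hc ec').1, Bool.not_false, Bool.and_self]
  have hbits := all_bool (all_bool (all_bool bits_check F.g2) F.s2) F.cm
  have hg' := List.all_eq_true.1 (List.all_eq_true.1 hbits a (hcand 100 (.inl rfl) a ha ea eax aQ)) b
    (hcand 101 (.inr rfl) b hb eb ebx bQ)
  have hpair : pairB F.g2 F.s2 F.cm a b = true := by
    simp only [pairB, hab, hab2, swap 100 (.inl rfl) 100 (.inl rfl) a ha ea a ha ea,
      swap 100 (.inl rfl) 101 (.inr rfl) a ha ea b hb eb,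
      swap 101 (.inr rfl) 100 (.inl rfl) b hb eb a ha ea,
      swap 101 (.inr rfl) 101 (.inr rfl) b hb eb b hb eb, Bool.not_false, Bool.and_self]
  simp only [hpair, Bool.not_true, Bool.false_or, goodB, Bool.and_eq_true, Bool.not_eq_true',
    Bool.or_eq_true] at hg'
  obtain ⟨⟨⟨hg2, hs2⟩, hcm⟩, hcd⟩ := hg'
  have hm : ∀ i < 1152, ∀ j < 1152, F.f (mul i j) = F.f i * F.f j := fun i hi j hj => by
    rw [← F.f_mul hi hj, hg2, hs2, hcm]; rfl
  have hinv : ∀ t, t = 100 ∨ t = 101 → ∀ c < 1152, F.f c = n * F.f t * n⁻¹ → inQc c = false →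
      isInv c = true := by
    intro t ht c hc ec' hQ'
    have e := sqInv t ht c hc ec'
    rw [hg2, hs2, hcm] at e
    have h0 : c ≠ 0 := fun h => by rw [h] at hQ'; exact Bool.noConfusion hQ'
    simp only [isInv, beq_false h0, Bool.not_false, Bool.and_true]
    exact beq_true e
  refine ⟨⟨F.f, hm, fun i hi j hj => F.f_inj hi hj, F.f_commute_z, fun c hc => F.f_surj hc, c12,
    n, c75.symm ▸ nz, c75.symm ▸ nx, ?_⟩⟩
  intro d hd
  rcases hcd with h | h <;> obtain ⟨ha', hb'⟩ := h <;> have ha' := Nat.eq_of_beq_eq_true ha' <;>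
    have hb' := Nat.eq_of_beq_eq_true hb' <;> rcases hd with rfl | rfl
  · exact ⟨100, .inl rfl, a, ha, hinv 100 (.inl rfl) a ha ea aQ, ha', ea⟩
  · exact ⟨101, .inr rfl, b, hb, hinv 101 (.inr rfl) b hb eb bQ, hb', eb⟩
  · exact ⟨101, .inr rfl, b, hb, hinv 101 (.inr rfl) b hb eb bQ, hb', eb⟩
  · exact ⟨100, .inl rfl, a, ha, hinv 100 (.inl rfl) a ha ea aQ, ha', ea⟩

end Frame

/-- The hypotheses of the statement give the coded centraliser. -/
theorem exists_setup [Finite G] (z : G) (hz : orderOf z = 2)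
    (H₁ H₂ : Subgroup (centralizer ({z} : Set G)))
    (hK : H₁ ⊔ H₂ = Subgroup.closure {x : centralizer ({z} : Set G) | Odd (orderOf x)})
    (hn₁ : (H₁.subgroupOf (H₁ ⊔ H₂)).Normal) (hn₂ : (H₂.subgroupOf (H₁ ⊔ H₂)).Normal)
    (e₁ : H₁ ≃* Matrix.SpecialLinearGroup (Fin 2) (ZMod 3))
    (e₂ : H₂ ≃* Matrix.SpecialLinearGroup (Fin 2) (ZMod 3))
    (hmeet : (H₁ ⊓ H₂).map (Subgroup.subtype (centralizer ({z} : Set G))) = Subgroup.zpowers z)
    (Q : Subgroup (centralizer ({z} : Set G)))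
    (hQ : Q = (Cfsg.pCore 2 ↥(H₁ ⊔ H₂)).map (Subgroup.subtype (H₁ ⊔ H₂)))
    (hF : Cfsg.generalizedFittingSubgroup (centralizer ({z} : Set G)) = Q)
    (hnwc : ∃ g : G, (∃ hq : g * z * g⁻¹ ∈ centralizer ({z} : Set G),
      (⟨g * z * g⁻¹, hq⟩ : centralizer ({z} : Set G)) ∈ Q) ∧ g * z * g⁻¹ ≠ z)
    (hH : Nat.card ↥(centralizer ({z} : Set G)) = 2 ^ 7 * 3 ^ 2)
    (hQQg : ∀ g : G, g * z * g⁻¹ ∈ Q.map (Subgroup.subtype (centralizer ({z} : Set G))) →
      g * z * g⁻¹ ≠ z → Nat.card ↥((Q.map (Subgroup.subtype (centralizer ({z} : Set G)))) ⊓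
        (Q.map (Subgroup.subtype (centralizer ({z} : Set G)))).map (MulAut.conj g).toMonoidHom) = 4) :
    Nonempty (Setup z) := by
  obtain ⟨P, hP⟩ := exists_pair z hz _ (fun {g} => mem_cent) H₁ H₂ hK hn₁ hn₂ e₁ e₂ hmeet Q hQ hF
  have hyp : Hyp P := by
    refine ⟨hH.trans (by norm_num), ?_, ?_⟩
    · obtain ⟨g, ⟨hq, hm⟩, hne⟩ := hnwc
      exact ⟨g, (hP _).2 ⟨⟨_, hq⟩, hm, rfl⟩, hne⟩
    · intro g hg hne
      have h4 := hQQg g ((hP _).1 hg) hne
      rw [← h4]
      refine Nat.card_congr (Equiv.subtypeEquivRight fun v => ?_)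
      rw [Subgroup.mem_inf, hP, hP]
      refine and_congr_right fun _ => ⟨fun h => ⟨_, h, by simp [MulAut.conj_apply, mul_assoc]⟩, ?_⟩
      rintro ⟨w, hw, rfl⟩
      simpa [MulAut.conj_apply, mul_assoc] using hw
  obtain ⟨F, -⟩ := exists_frame P hyp
  exact F.exists_setup

end Cfsg.Agent.Lib.U43Type85
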