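import Cfsg.Agent.Lib.U43Type85.Pair
import Cfsg.Agent.Lib.U43Type85.FrameCheck

/-!
# U4(3) type: the action of the centraliser on the two copies of `SL(2, 3)`

Owner: helper85.
-/

set_option autoImplicit false

namespace Cfsg.Agent.Lib.U43Type85

open Subgroup

/-- `g` or `1`. -/
def pw {G : Type*} [Group G] (g : G) (b : Bool) : G := bif b then g else 1

variable {G : Type*} [Group G]

theorem all_range {n : ℕ} {p : ℕ → Bool} (h : (List.range n).all p = true) {k : ℕ} (hk : k < n) :
    p k = true := List.all_eq_true.1 h k (List.mem_range.2 hk)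

theorem all_l8 {p : ℕ → Bool} (h : l8.all p = true) {k : ℕ} (hk : k < 24) (hq : q8 k = true) :
    p k = true := List.all_eq_true.1 h k (mem_l8 k hk hq)

theorem any_range {n : ℕ} {p : ℕ → Bool} (h : (List.range n).any p = true) :
    ∃ k < n, p k = true := by
  obtain ⟨k, hk, hp⟩ := List.any_eq_true.1 h
  exact ⟨k, List.mem_range.1 hk, hp⟩

theorem any_l8 {p : ℕ → Bool} (h : l8.any p = true) :
    ∃ k < 24, q8 k = true ∧ p k = true := by
  obtain ⟨k, hk, hp⟩ := List.any_eq_true.1 h
  exact ⟨k, l8_lt k hk, l8_q8 k hk, hp⟩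

theorem all_bool {p : Bool → Bool} (h : [false, true].all p = true) (b : Bool) : p b = true :=
  List.all_eq_true.1 h b (by cases b <;> simp)

theorem beq_false {a b : ℕ} (h : a ≠ b) : Nat.beq a b = false :=
  Bool.eq_false_iff.2 fun e => h (Nat.eq_of_beq_eq_true e)

theorem beq_true {a b : ℕ} (h : a = b) : Nat.beq a b = true := by
  subst h; exact Nat.beq_refl a

theorem autc_lt {k a : ℕ} (e : Bool) (hk : k < 24) (ha : a < 24) : autc k e a < 24 := by
  cases e
  · exact (autc_facts k hk a ha).1.1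
  · exact (autc_facts k hk a ha).2.1

theorem autc_q8 {k a : ℕ} (e : Bool) (hk : k < 24) (ha : a < 24) : q8 (autc k e a) = q8 a := by
  cases e
  · exact (autc_facts k hk a ha).1.2.2
  · exact (autc_facts k hk a ha).2.2.2

theorem autc_hom {k a b : ℕ} (e : Bool) (hk : k < 24) (ha : a < 24) (hb : b < 24) :
    autc k e (tmul a b) = tmul (autc k e a) (autc k e b) := by
  cases e
  · exact (autc_mul k hk a ha b hb).1
  · exact (autc_mul k hk a ha b hb).2

theorem autc_exists {k b : ℕ} (e : Bool) (hk : k < 24) (hb : b < 24) :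
    ∃ a < 24, autc k e a = b := by
  obtain ⟨a, ha, h⟩ := any_range (all_range (all_bool (all_range autc_surj hk) e) hb)
  exact ⟨a, ha, Nat.eq_of_beq_eq_true h⟩

theorem autc_inj {k : ℕ} (e : Bool) (hk : k < 24) :
    ∀ a < 24, ∀ b < 24, autc k e a = autc k e b → a = b := by
  have key : ((List.range 24).all fun k => [false, true].all fun e => (List.range 24).all fun a =>
      (List.range 24).all fun b => !Nat.beq (autc k e a) (autc k e b) || Nat.beq a b) = true := by
    decide +kernel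
  intro a ha b hb h
  have := all_range (all_range (all_bool (all_range key hk) e) ha) hb
  rw [beq_true h] at this
  exact Nat.eq_of_beq_eq_true (by simpa using this)

theorem autc_twelve {k : ℕ} (e : Bool) (hk : k < 24) : autc k e 12 = 12 := by
  have key : ∀ k < 24, autc k false 12 = 12 ∧ autc k true 12 = 12 := by decide +kernel
  cases e
  · exact (key k hk).1
  · exact (key k hk).2

namespace Pair

variable {z : G} (P : Pair z)

theorem kx_zero : P.kx 0 0 = 1 := by rw [kx, P.ι_zero, P.ι_zero, one_mul]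

theorem kx_z : P.kx 12 0 = z := by rw [kx, P.neg, P.ι_zero, mul_one]

/-- Change of the second embedding by an automorphism. -/
def twist (k : ℕ) (e : Bool) (hk : k < 24) : Pair z where
  ι i a := bif i then P.ι true (autc k e a) else P.ι false a
  hom i a ha b hb := by
    cases i
    · exact P.hom false a ha b hb
    · show P.ι true (autc k e (tmul a b)) = P.ι true _ * P.ι true _
      rw [autc_hom e hk ha hb, P.hom true _ (autc_lt e hk ha) _ (autc_lt e hk hb)]
  inj i a ha b hb h := by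
    cases i
    · exact P.inj false a ha b hb h
    · exact autc_inj e hk a ha b hb (P.inj true _ (autc_lt e hk ha) _ (autc_lt e hk hb) h)
  comm a ha b hb := P.comm a ha _ (autc_lt e hk hb)
  neg i := by
    cases i
    · exact P.neg false
    · show P.ι true (autc k e 12) = z
      rw [autc_twelve e hk, P.neg]
  meet a ha b hb h := P.meet a ha _ (autc_lt e hk hb) h
  norm g hg i a ha := by
    cases i
    · obtain ⟨X, hX, Y, hY, h⟩ := P.norm g hg false a ha
      obtain ⟨Y', hY', rfl⟩ := autc_exists e hk hY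
      exact ⟨X, hX, Y', hY', h⟩
    · obtain ⟨X, hX, Y, hY, h⟩ := P.norm g hg true _ (autc_lt e hk ha)
      obtain ⟨Y', hY', rfl⟩ := autc_exists e hk hY
      exact ⟨X, hX, Y', hY', h⟩
  self g hg hc := by
    obtain ⟨X, hX, Y, hY, qX, qY, h⟩ := P.self g hg fun i a ha qa => by
      cases i
      · exact hc false a ha qa
      · obtain ⟨a', ha', rfl⟩ := autc_exists e hk ha
        exact hc true a' ha' (by rw [← autc_q8 e hk ha']; exact qa)
    obtain ⟨Y', hY', rfl⟩ := autc_exists e hk hY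
    exact ⟨X, hX, Y', hY', qX, by rw [← autc_q8 e hk hY']; exact qY, h⟩

theorem twist_inQ {k : ℕ} {e : Bool} (hk : k < 24) (v : G) :
    (P.twist k e hk).InQ v ↔ P.InQ v := by
  constructor
  · rintro ⟨X, hX, Y, hY, qX, qY, rfl⟩
    exact ⟨X, hX, _, autc_lt e hk hY, qX, by rw [autc_q8 e hk hY]; exact qY, rfl⟩
  · rintro ⟨X, hX, Y, hY, qX, qY, rfl⟩
    obtain ⟨Y', hY', rfl⟩ := autc_exists e hk hY
    exact ⟨X, hX, Y', hY', qX, by rw [← autc_q8 e hk hY']; exact qY, rfl⟩

theorem twist_hyp {k : ℕ} {e : Bool} (hk : k < 24) (h : Hyp P) : Hyp (P.twist k e hk) where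
  card := h.card
  wc := by
    obtain ⟨g, h1, h2⟩ := h.wc
    exact ⟨g, (P.twist_inQ hk _).2 h1, h2⟩
  inter g h1 h2 := by
    have := h.inter g ((P.twist_inQ hk _).1 h1) h2
    simpa [P.twist_inQ hk] using this

/-- Conjugation by `h` on one side. -/
def MapsTo (h : G) (i j : Bool) (k : ℕ) (e : Bool) : Prop :=
  ∀ a < 24, h * P.ι i a * h⁻¹ = P.ι j (autc k e a)

theorem exists_side {h : G} (hh : Commute h z) (i : Bool) {c : ℕ} (hc : c < 24)
    (h3 : tmul (tmul c c) c = 0) :
    ∃ j, ∃ b < 24, h * P.ι i c * h⁻¹ = P.ι j b := by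
  obtain ⟨X, hX, Y, hY, e⟩ := P.norm h hh i c hc
  have hq : P.InQ (P.ι (!i) 3) := by
    cases i
    · exact ⟨0, by norm_num, 3, by norm_num, rfl, rfl, P.ι_eq_kx true (by norm_num)⟩
    · exact ⟨3, by norm_num, 0, by norm_num, rfl, rfl, P.ι_eq_kx false (by norm_num)⟩
  obtain ⟨U, hU, V, hV, qU, qV, eq⟩ := InQ.conj P hh hq
  have hcom : Commute (P.ι i c) (P.ι (!i) 3) := by
    cases i
    · exact P.comm c hc 3 (by norm_num)
    · exact (P.comm 3 (by norm_num) c hc).symm
  have hcom' : P.kx X Y * P.kx U V = P.kx U V * P.kx X Y := by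
    rw [← eq, show P.kx X Y = h * P.ι i c * h⁻¹ from e.symm]
    exact (hcom.map (MulAut.conj h)).eq
  rw [P.kx_mul hX hY hU hV, P.kx_mul hU hV hX hY] at hcom'
  have t1 := P.kx_eq (tmul_lt X hX U hU) (tmul_lt Y hY V hV) (tmul_lt U hU X hX) (tmul_lt V hV Y hY) hcom'
  have cube : P.kx X Y * P.kx X Y * P.kx X Y = 1 := by
    rw [show P.kx X Y = h * P.ι i c * h⁻¹ from e.symm,
      show h * P.ι i c * h⁻¹ * (h * P.ι i c * h⁻¹) * (h * P.ι i c * h⁻¹) =
        h * (P.ι i c * P.ι i c * P.ι i c) * h⁻¹ by group, ← P.hom i c hc c hc,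
      ← P.hom i _ (tmul_lt c hc c hc) c hc, h3, P.ι_zero, mul_one, mul_inv_cancel]
  rw [P.kx_mul hX hY hX hY, P.kx_mul (tmul_lt X hX X hX) (tmul_lt Y hY Y hY) hX hY, ← P.kx_zero] at cube
  have t2 := P.kx_eq (tmul_lt _ (tmul_lt X hX X hX) X hX) (tmul_lt _ (tmul_lt Y hY Y hY) Y hY)
    (U := 0) (V := 0) (by norm_num) (by norm_num) cube
  have ne : ∀ q, P.ι (!i) 3 ≠ q → h * P.ι (!i) 3 * h⁻¹ ≠ h * q * h⁻¹ :=
    fun q hq e' => hq (mul_left_cancel (mul_right_cancel e'))
  have n0 : enc U V 0 ≠ 0 := fun e0 => by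
    have : P.kx U V = 1 :=
      (P.kx_eq_of_enc hU hV (U := 0) (V := 0) (by norm_num) (by norm_num) e0).trans P.kx_zero
    exact ne 1 (fun e' => by
      have := P.inj (!i) 3 (by norm_num) 0 (by norm_num) (by rw [e', P.ι_zero])
      norm_num at this) (by rw [eq, this, mul_one, mul_inv_cancel])
  have n12 : enc U V 0 ≠ 12 := fun e0 => by
    have : P.kx U V = z :=
      (P.kx_eq_of_enc hU hV (U := 12) (V := 0) (by norm_num) (by norm_num)
        (e0.trans (by decide +kernel))).trans P.kx_z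
    exact ne z (fun e' => by
      have := P.inj (!i) 3 (by norm_num) 12 (by norm_num) (by rw [e', P.neg])
      norm_num at this) (by rw [eq, this, hh.eq, mul_inv_cancel_right])
  have hk := all_l8 (all_l8 (all_range (all_range side_check hX) hY) hU qU) hV qV
  have t2' : Nat.beq (enc (tmul (tmul X X) X) (tmul (tmul Y Y) Y) 0) 0 = true :=
    beq_true (t2.trans (by decide +kernel))
  have t1' : kcomm X Y U V = true := beq_true t1
  simp only [sideCheck, t1', t2', beq_false n0, beq_false n12, Bool.and_self, Bool.not_true,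
    Bool.not_false, Bool.false_or, Bool.or_eq_true] at hk
  rcases hk with ((h0 | h0) | h0) | h0 <;> have h0 := Nat.eq_of_beq_eq_true h0 <;> subst h0
  · exact ⟨true, Y, hY, by rw [e, P.ι_zero, one_mul]⟩
  · exact ⟨true, tneg Y, by rw [(tneg_eq Y hY).1]; exact tmul_lt 12 hX Y hY,
      by rw [e, P.ι_tneg _ hY, P.neg]⟩
  · exact ⟨false, X, hX, by rw [e, P.ι_zero, mul_one]⟩
  · exact ⟨false, tneg X, by rw [(tneg_eq X hX).1]; exact tmul_lt 12 hY X hX,
      by rw [e, P.ι_tneg _ hX, P.neg, (P.ι_commute_z false hX).eq]⟩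

theorem exists_mapsTo {h : G} (hh : Commute h z) (i : Bool) :
    ∃ j, ∃ k < 24, ∃ e, P.MapsTo h i j k e := by
  obtain ⟨j, b1, hb1, e1⟩ := P.exists_side hh i (c := 1) (by norm_num) (by decide +kernel)
  obtain ⟨j2, b2, hb2, e2⟩ := P.exists_side hh i (c := 2) (by norm_num) (by decide +kernel)
  have hj : j2 = j := by
    by_contra hne
    have hcom : Commute (P.ι j b1) (P.ι j2 b2) := by
      cases j <;> cases j2 <;> first | exact absurd rfl hne | skip
      · exact P.comm b1 hb1 b2 hb2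
      · exact (P.comm b2 hb2 b1 hb1).symm
    rw [← e1, ← e2] at hcom
    have h12 : Commute (P.ι i 1) (P.ι i 2) := by
      have := hcom.map (MulAut.conj h⁻¹)
      simpa [mul_assoc] using this
    have := P.inj i _ (tmul_lt 1 (by norm_num) 2 (by norm_num)) _ (tmul_lt 2 (by norm_num) 1 (by norm_num))
      (by rw [P.hom i 1 (by norm_num) 2 (by norm_num), P.hom i 2 (by norm_num) 1 (by norm_num)]
          exact h12.eq)
    revert this
    decide +kernel
  subst hj
  have key : ∀ n, ∀ a ∈ gen6 n, a < 24 ∧ ∃ b < 24, h * P.ι i a * h⁻¹ = P.ι j2 b := by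
    intro n
    induction n with
    | zero =>
      intro a ha
      simp only [gen6, List.mem_singleton] at ha
      subst ha
      exact ⟨by norm_num, 0, by norm_num, by rw [P.ι_zero, P.ι_zero, mul_one, mul_inv_cancel]⟩
    | succ n ih =>
      intro a ha
      simp only [gen6, List.mem_flatMap, List.mem_cons, List.not_mem_nil, or_false] at ha
      obtain ⟨c, hc, rfl | rfl | rfl⟩ := ha
      · exact ih _ hc
      all_goals obtain ⟨hc24, b, hb, eb⟩ := ih _ hc
      · refine ⟨tmul_lt _ hc24 1 (by norm_num), _, tmul_lt b hb b1 hb1, ?_⟩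
        rw [P.hom i c hc24 1 (by norm_num), P.hom j2 b hb b1 hb1, ← eb, ← e1]; group
      · refine ⟨tmul_lt _ hc24 2 (by norm_num), _, tmul_lt b hb b2 hb2, ?_⟩
        rw [P.hom i c hc24 2 (by norm_num), P.hom j2 b hb b2 hb2, ← eb, ← e2]; group
  have key' : ∀ a, ∃ b, a < 24 → b < 24 ∧ h * P.ι i a * h⁻¹ = P.ι j2 b := fun a => by
    by_cases ha : a < 24
    · obtain ⟨b, hb, e⟩ := (key 6 a (gen6_all a ha)).2
      exact ⟨b, fun _ => ⟨hb, e⟩⟩
    · exact ⟨0, fun h => absurd h ha⟩
  choose p hp using key'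
  obtain ⟨k, hk, e, he⟩ := exists_autc (p := p) (fun a ha => (hp a ha).1)
    (fun a ha b hb => P.inj j2 _ (hp _ (tmul_lt a ha b hb)).1 _ (tmul_lt _ (hp a ha).1 _ (hp b hb).1) (by
      rw [P.hom j2 _ (hp a ha).1 _ (hp b hb).1, ← (hp _ (tmul_lt a ha b hb)).2, ← (hp a ha).2,
        ← (hp b hb).2, P.hom i a ha b hb]; group))
    (fun a ha b hb e => P.inj i a ha b hb (by
      have h1 := (hp a ha).2.trans (congrArg (P.ι j2) e)
      rw [← (hp b hb).2] at h1
      exact mul_left_cancel (mul_right_cancel h1)))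
  exact ⟨j2, k, hk, e, fun a ha => (hp a ha).2.trans (congrArg (P.ι j2) (he a ha))⟩

theorem mapsTo_ne {h : G} {j j' : Bool} {k k' : ℕ} {e e' : Bool} (hk : k < 24) (hk' : k' < 24)
    (h1 : P.MapsTo h false j k e) (h2 : P.MapsTo h true j' k' e') : j ≠ j' := by
  rintro rfl
  obtain ⟨b, hb, hne⟩ := any_range (all_bool (all_range autc_not_central hk) e)
  obtain ⟨a, ha, rfl⟩ := autc_exists e' hk' hb
  have hc : Commute (h * P.ι false 1 * h⁻¹) (h * P.ι true a * h⁻¹) :=
    (P.comm 1 (by norm_num) a ha).map (MulAut.conj h)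
  rw [h1 1 (by norm_num), h2 a ha] at hc
  have l1 : autc k e 1 < 24 := autc_lt e hk (by norm_num)
  have := P.inj j _ (tmul_lt _ l1 _ hb) _ (tmul_lt _ hb _ l1)
    (by rw [P.hom j _ l1 _ hb, P.hom j _ hb _ l1]; exact hc.eq)
  rw [beq_true this] at hne
  simp at hne

/-- Every element of the centraliser preserves or swaps the two sides. -/
theorem side_cases {h : G} (hh : Commute h z) :
    ∃ s, ∃ k < 24, ∃ l < 24, ∃ e f, P.MapsTo h false s k e ∧ P.MapsTo h true (!s) l f := by
  obtain ⟨j, k, hk, e, h1⟩ := P.exists_mapsTo hh false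
  obtain ⟨j', l, hl, f, h2⟩ := P.exists_mapsTo hh true
  have := P.mapsTo_ne hk hl h1 h2
  have hj : j' = !j := by cases j <;> cases j' <;> simp_all
  exact ⟨j, k, hk, l, hl, e, f, h1, hj ▸ h2⟩

/-- An element centralising both sides lies in `{1, z}`. -/
theorem central_cases {c : G} (hc : Commute c z) (h : ∀ i, ∀ a < 24, Commute c (P.ι i a)) :
    ∃ b, c = pw z b := by
  obtain ⟨X, hX, Y, hY, qX, qY, rfl⟩ := P.self c hc fun i a ha _ => h i a ha
  have code : ∀ U < 24, ∀ V < 24, Commute (P.kx X Y) (P.kx U V) → kcomm X Y U V = true :=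
    fun U hU V hV e => by
      have e := e.eq
      rw [P.kx_mul hX hY hU hV, P.kx_mul hU hV hX hY] at e
      exact beq_true (P.kx_eq (tmul_lt X hX U hU) (tmul_lt Y hY V hV) (tmul_lt U hU X hX)
        (tmul_lt V hV Y hY) e)
  have hk := all_l8 (all_l8 central_check hX qX) hY qY
  have c1 : ∀ a < 24, Commute (P.kx X Y) (P.kx a 0) ∧ Commute (P.kx X Y) (P.kx 0 a) := fun a ha => by
    refine ⟨?_, ?_⟩
    · have e := P.ι_eq_kx false ha
      simp only [cond_false] at e
      rw [← e]; exact h false a ha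
    · have e := P.ι_eq_kx true ha
      simp only [cond_true] at e
      rw [← e]; exact h true a ha
  simp only [code 3 (by norm_num) 0 (by norm_num) (c1 3 (by norm_num)).1,
    code 4 (by norm_num) 0 (by norm_num) (c1 4 (by norm_num)).1,
    code 0 (by norm_num) 3 (by norm_num) (c1 3 (by norm_num)).2,
    code 0 (by norm_num) 4 (by norm_num) (c1 4 (by norm_num)).2,
    Bool.and_self, Bool.not_true, Bool.false_or, Bool.or_eq_true] at hk
  rcases hk with h0 | h0 <;> have h0 := Nat.eq_of_beq_eq_true h0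
  · exact ⟨false, (P.kx_eq_of_enc hX hY (U := 0) (V := 0) (by norm_num) (by norm_num)
      (h0.trans (by decide +kernel))).trans P.kx_zero⟩
  · exact ⟨true, (P.kx_eq_of_enc hX hY (U := 12) (V := 0) (by norm_num) (by norm_num)
      (h0.trans (by decide +kernel))).trans P.kx_z⟩

end Pair

end Cfsg.Agent.Lib.U43Type85
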